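import Cfsg.Agent.Lib.J4Type.CentSplit
import Cfsg.Agent.Lib.J4Type.Assemble
import Cfsg.Agent.Lib.J4Type.Model.Ctx
import Cfsg.Agent.Lib.J4Type.Moved

/-!
A simple group of Janko-four type is not abelian and has exactly two classes of involutions.
-/

set_option autoImplicit false

namespace CfsgLib.J4Type.Sym.Bridge

open CfsgLib.J4Type

universe u

theorem not_comm_of_type {G : Type u} [Group G] {z : G} (hJ : Cfsg.IsOfJankoFourTypeAt z) :
    ¬ IsMulCommutative G := by
  intro hc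
  obtain ⟨P, -, hex, -⟩ := hJ
  have h2 : Nat.card (Subgroup.center ↥(Cfsg.twoCoreOfCentralizer z)) = 2 := hex.2
  obtain ⟨-, -, hcomm⟩ := hex.1
  have h0 : commutator ↥(Cfsg.twoCoreOfCentralizer z) = ⊥ := by
    rw [eq_bot_iff, commutator_def, Subgroup.commutator_le]
    intro a _ b _
    rw [Subgroup.mem_bot, commutatorElement_eq_one_iff_mul_comm]
    exact Subtype.ext (hc.is_comm.comm _ _)
  rw [← hcomm, h0, Subgroup.card_bot] at h2
  omega

/-- Exactly two classes of involutions. -/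
theorem two_classes {G : Type u} [Group G] [Finite G] [IsSimpleGroup G] {z : G}
    (hJ : Cfsg.IsOfJankoFourTypeAt z) :
    ∃ x y : G, orderOf x = 2 ∧ orderOf y = 2 ∧ ¬ IsConj x y ∧
      ∀ w : G, orderOf w = 2 → IsConj w x ∨ IsConj w y := by
  classical
  have hz : orderOf z = 2 := hJ.choose_spec.1
  have hG := not_comm_of_type hJ
  obtain ⟨P, hP⟩ := hJ
  obtain ⟨X⟩ := exists_ctx hP
  have hm := X.exists_moved hG
  have F := (X.vPackage hm).vframe
  obtain ⟨y, hy⟩ : (ncG z X.Vg).Nonempty :=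
    Set.nonempty_of_ncard_ne_zero (by rw [F.ncard_ncG]; norm_num)
  refine ⟨z, y, hz, orderOf_eq_prime ?_ hy.2.1, hy.2.2, fun w hw => ?_⟩
  · rw [pow_two]; exact F.sq y hy.1
  obtain ⟨g, hg⟩ := X.exists_invol_conj_Vg hm (t := w) (by rw [← pow_two, ← hw, pow_orderOf_eq_one])
  have hne : g * w * g⁻¹ ≠ 1 := fun e => by
    rw [mul_inv_eq_one, mul_eq_left] at e
    rw [e, orderOf_one] at hw
    omega
  have hwg : IsConj w (g * w * g⁻¹) := isConj_iff.mpr ⟨g, rfl⟩
  rcases CfsgLib.J4Type.VFrame.eq_or_conj (z := z) hg hne with h | h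
  · obtain ⟨m, -, hm'⟩ := F.trans_ncG h hy
    exact Or.inr (hwg.trans (isConj_iff.mpr ⟨m, hm'⟩))
  · exact Or.inl (hwg.trans h.symm)

end CfsgLib.J4Type.Sym.Bridge
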