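import Cfsg.Agent.Lib.J4Type.Sym.BridgeOuter

/-!
A perfect extension of `M22` by a group of order 3 inside an extension of `Aut M22` by a group of
order 3: the Sylow 3-subgroup is extraspecial and the outer elements invert the kernel.
-/

set_option autoImplicit false

namespace CfsgLib.J4Type.Sym.Bridge

open Cfsg CfsgLib.MathieuAut22
open scoped commutatorElement

/-- The inner automorphisms of `M22`. -/
noncomputable abbrev Inn22 : Subgroup (MulAut ↥Spor.M22) :=
  (MulAut.conj : ↥Spor.M22 →* MulAut ↥Spor.M22).range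

instance : (Inn22).Normal := Subgroup.normal_of_index_eq_two index_inn

variable {H : Type*} [Group H] [Finite H]

theorem three_elts {t g : H} (ht : orderOf t = 3) (hg : g ∈ Subgroup.zpowers t) :
    g = 1 ∨ g = t ∨ g = t⁻¹ := by
  obtain ⟨k, rfl⟩ := Subgroup.mem_zpowers_iff.mp hg
  rw [← zpow_mod_orderOf, ht]
  obtain ⟨h0, h3⟩ : 0 ≤ k % (3 : ℤ) ∧ k % (3 : ℤ) < 3 :=
    ⟨Int.emod_nonneg _ (by norm_num), Int.emod_lt_of_pos _ (by norm_num)⟩
  push_cast
  interval_cases h : k % (3 : ℤ)
  · exact Or.inl (zpow_zero t)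
  · exact Or.inr (Or.inl (zpow_one t))
  · refine Or.inr (Or.inr ?_)
    rw [eq_inv_iff_mul_eq_one, show t ^ (2 : ℤ) = t ^ 2 from zpow_natCast t 2, ← pow_succ]
    have h := pow_orderOf_eq_one t
    rwa [ht] at h

variable (f : H →* MulAut ↥Spor.M22)

/-- The preimage of the inner automorphisms. -/
noncomputable abbrev covK : Subgroup H := Inn22.comap f

/-- The lifts of the frame. -/
structure CoverFrame where
  /-- a generator of the kernel -/
  t : H
  X : H
  Y : H
  U : H
  t_mem : t ∈ f.ker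
  t_order : orderOf t = 3
  gen : f.ker = Subgroup.zpowers t
  comm_K : ∀ k ∈ covK f, Commute k t
  X_mem : X ∈ covK f
  Y_mem : Y ∈ covK f
  comm : X * Y = t * (Y * X)
  X_cube : X ^ 3 = 1
  U_inv : U * t * U⁻¹ = t⁻¹

variable {f}

theorem nonempty_coverFrame (hf : Function.Surjective f) (hT : Nat.card f.ker = 3)
    (hperf : covK f ≤ ⁅covK f, covK f⁆) : Nonempty (CoverFrame f) := by
  classical
  haveI : Fact (Nat.Prime 3) := ⟨Nat.prime_three⟩
  obtain ⟨t0, ht0, ht01⟩ : ∃ t ∈ f.ker, t ≠ 1 := by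
    by_contra hall
    push Not at hall
    rw [(Subgroup.eq_bot_iff_forall _).mpr hall, Subgroup.card_bot] at hT
    omega
  have hgen : ∀ t ∈ f.ker, t ≠ 1 → orderOf t = 3 ∧ f.ker = Subgroup.zpowers t := by
    intro t ht ht1
    have ho : orderOf t = 3 := by
      refine orderOf_eq_prime ?_ ht1
      have h : (⟨t, ht⟩ : f.ker) ^ 3 = 1 := by rw [← hT]; exact pow_card_eq_one'
      exact congrArg Subtype.val h
    exact ⟨ho, (Subgroup.eq_of_le_of_card_ge (Subgroup.zpowers_le.mpr ht)
      (by rw [hT, Nat.card_zpowers, ho])).symm⟩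
  -- the preimage of the inner automorphisms centralises the kernel
  have hcent : ∀ k ∈ covK f, ∀ t ∈ f.ker, Commute k t := by
    intro k hk t ht
    rcases eq_or_ne t 1 with rfl | ht1
    · exact Commute.one_right k
    obtain ⟨ho, hker⟩ := hgen t ht ht1
    have hconj : ∀ a : H, a * t * a⁻¹ = t ∨ a * t * a⁻¹ = t⁻¹ := by
      intro a
      have hm : a * t * a⁻¹ ∈ Subgroup.zpowers t := hker ▸ f.normal_ker.conj_mem t ht a
      rcases three_elts ho hm with e | e
      · rw [mul_inv_eq_one, mul_eq_left] at e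
        exact absurd e ht1
      · exact e
    have key : ⁅covK f, covK f⁆ ≤ Subgroup.centralizer ({t} : Set H) := by
      rw [Subgroup.commutator_le]
      intro a _ b _
      rw [Subgroup.mem_centralizer_singleton_iff]
      have hswap : ∀ a b : H, a * (b * t * b⁻¹) * a⁻¹ = b * (a * t * a⁻¹) * b⁻¹ := by
        intro a b
        have hi : ∀ g : H, g * t⁻¹ * g⁻¹ = (g * t * g⁻¹)⁻¹ := fun g => by group
        rcases hconj a with ea | ea <;> rcases hconj b with eb | eb <;> simp only [hi, ea, eb]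
      have e := hswap a⁻¹ b⁻¹
      calc ⁅a, b⁆ * t = a * b * (a⁻¹ * (b⁻¹ * t * b⁻¹⁻¹) * a⁻¹⁻¹) * a⁻¹ * b⁻¹ := by
            rw [commutatorElement_def]; group
        _ = a * b * (b⁻¹ * (a⁻¹ * t * a⁻¹⁻¹) * b⁻¹⁻¹) * a⁻¹ * b⁻¹ := by rw [e]
        _ = t * ⁅a, b⁆ := by rw [commutatorElement_def]; group
    exact Subgroup.mem_centralizer_singleton_iff.mp (key (hperf hk))
  -- lifts
  obtain ⟨x, y, φ, hx3, hy3, hxy, hφx, hφy, hynot, hx1⟩ := exists_frame_outer
  obtain ⟨X, hX⟩ := hf (MulAut.conj x)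
  obtain ⟨Y, hY⟩ := hf (MulAut.conj y)
  obtain ⟨U, hU⟩ := hf φ
  have hXK : X ∈ covK f := ⟨x, hX.symm⟩
  have hYK : Y ∈ covK f := ⟨y, hY.symm⟩
  have hTK : f.ker ≤ covK f := fun g hg => by
    show f g ∈ Inn22
    rw [MonoidHom.mem_ker.mp hg]; exact one_mem _
  set c : H := X * Y * X⁻¹ * Y⁻¹ with hc
  have hcT : c ∈ f.ker := by
    rw [MonoidHom.mem_ker, hc, map_mul, map_mul, map_mul, map_inv, map_inv, hX, hY, ← map_inv,
      ← map_inv, ← map_mul, ← map_mul, ← map_mul, hxy, mul_assoc y, mul_inv_cancel, mul_one,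
      mul_inv_cancel, map_one]
  have hc1 : c ≠ 1 := by
    intro hc0
    have hXY : X * Y = Y * X := by
      rwa [hc, mul_inv_eq_one, mul_inv_eq_iff_eq_mul] at hc0
    obtain ⟨ho, hker⟩ := hgen t0 ht0 ht01
    set S : Set ↥(covK f) := {g | (g : H) = X ∨ (g : H) = Y ∨ (g : H) ∈ f.ker} with hS
    set R : Subgroup ↥(covK f) := Subgroup.closure S with hR
    have hScomm : ∀ a ∈ S, ∀ b ∈ S, a * b = b * a := by
      intro a ha b hb
      apply Subtype.ext
      show (a : H) * b = (b : H) * a
      rcases ha with ha | ha | ha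
      · rcases hb with hb | hb | hb
        · rw [ha, hb]
        · rw [ha, hb]; exact hXY
        · exact (hcent _ a.2 _ hb).eq
      · rcases hb with hb | hb | hb
        · rw [ha, hb]; exact hXY.symm
        · rw [ha, hb]
        · exact (hcent _ a.2 _ hb).eq
      · exact (hcent _ b.2 _ ha).eq.symm
    letI : CommGroup R :=
      { (inferInstance : Group R) with
        mul_comm := by
          haveI := Subgroup.isMulCommutative_closure hScomm
          exact fun a b => setLike_mul_comm a.2 b.2 |> fun h => Subtype.ext h }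
    have h9 : 9 ∣ Nat.card (Subgroup.closure ({x, y} : Set ↥Spor.M22)) := by
      set K9 := Subgroup.closure ({x, y} : Set ↥Spor.M22) with hK9
      have hcomm9 : ∀ a ∈ ({x, y} : Set ↥Spor.M22), ∀ b ∈ ({x, y} : Set ↥Spor.M22), a * b = b * a := by
        rintro a (rfl | rfl) b (rfl | rfl)
        exacts [rfl, hxy, hxy.symm, rfl]
      have hexp : ∀ g ∈ K9, g ^ 3 = 1 := by
        intro g hg
        haveI := Subgroup.isMulCommutative_closure hcomm9
        induction hg using Subgroup.closure_induction with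
        | mem g hg => rcases hg with rfl | rfl <;> assumption
        | one => exact one_pow 3
        | mul a b ha hb h1 h2 => rw [Commute.mul_pow (setLike_mul_comm ha hb), h1, h2, one_mul]
        | inv a _ h1 => rw [inv_pow, h1, inv_one]
      have hp : IsPGroup 3 K9 := fun g => ⟨1, Subtype.ext (by simpa using hexp g g.2)⟩
      obtain ⟨n, hn⟩ := IsPGroup.iff_card.mp hp
      rw [hn]
      rcases Nat.lt_or_ge n 2 with hlt | hge
      · exfalso
        have heq : Subgroup.zpowers x = K9 :=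
          Subgroup.eq_of_le_of_card_ge (Subgroup.zpowers_le.mpr (Subgroup.subset_closure (Or.inl rfl)))
            (by
              rw [hn, Nat.card_zpowers, orderOf_eq_prime hx3 hx1]
              exact (Nat.pow_le_pow_right (by norm_num) (Nat.le_of_lt_succ hlt)).trans (by norm_num))
        exact hynot (heq ▸ Subgroup.subset_closure (Or.inr rfl))
      · exact dvd_trans (by norm_num) (pow_dvd_pow 3 hge)
    let ρ : ↥(covK f) →* MulAut ↥Spor.M22 := f.comp (covK f).subtype
    have h27 : 27 ∣ Nat.card R := by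
      rw [Subgroup.card_eq_card_quotient_mul_card_subgroup (ρ.comp R.subtype).ker,
        Nat.card_congr (QuotientGroup.quotientKerEquivRange (ρ.comp R.subtype)).toEquiv]
      refine (show 27 = 9 * 3 from rfl) ▸ Nat.mul_dvd_mul ?_ ?_
      · refine h9.trans ?_
        rw [← Subgroup.card_map_of_injective conj_injective]
        refine Subgroup.card_dvd_of_le ?_
        rw [MonoidHom.map_closure, Subgroup.closure_le]
        rintro g ⟨a, (rfl | rfl), rfl⟩
        · exact ⟨⟨⟨X, hXK⟩, Subgroup.subset_closure (Or.inl rfl)⟩, hX⟩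
        · exact ⟨⟨⟨Y, hYK⟩, Subgroup.subset_closure (Or.inr (Or.inl rfl))⟩, hY⟩
      · rw [← hT]
        let g : f.ker →* (ρ.comp R.subtype).ker :=
          { toFun := fun p => ⟨⟨⟨(p : H), hTK p.2⟩, Subgroup.subset_closure (Or.inr (Or.inr p.2))⟩, p.2⟩
            map_one' := rfl
            map_mul' := fun _ _ => rfl }
        have hg : Function.Injective g := fun a b h =>
          Subtype.ext (congrArg (fun u : (ρ.comp R.subtype).ker => (((u : R) : ↥(covK f)) : H)) h)
        exact Subgroup.card_dvd_of_injective g hg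
    have hcardK : Nat.card ↥(covK f) = 3 * 443520 := by
      have hi : (covK f).index = 2 := by
        rw [Subgroup.index_comap_of_surjective _ hf]; exact index_inn
      have hH : Nat.card H = 887040 * 3 := by
        rw [Subgroup.card_eq_card_quotient_mul_card_subgroup f.ker, hT,
          Nat.card_congr (QuotientGroup.quotientKerEquivOfSurjective f hf).toEquiv,
          natCard_mulAut_sporM22]
      have := Subgroup.card_mul_index (covK f)
      rw [hi, hH] at this
      omega
    have hidx : ¬ 3 ∣ R.index := by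
      intro h3
      have h := mul_dvd_mul h27 h3
      rw [Subgroup.card_mul_index, hcardK] at h
      norm_num at h
    set pc : ↥(covK f) := ⟨t0, hTK ht0⟩
    have htr := MonoidHom.transfer_eq_pow (MonoidHom.id R) pc (fun n g₀ _ => by
      apply Subtype.ext
      have := (hcent _ g₀.2 _ ht0).symm.pow_left n
      show (g₀ : H)⁻¹ * t0 ^ n * g₀ = t0 ^ n
      rw [mul_assoc, this.eq, ← mul_assoc, inv_mul_cancel, one_mul])
    have hin : pc ∈ (MonoidHom.transfer (MonoidHom.id R)).ker := by
      refine Abelianization.commutator_subset_ker _ ?_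
      have h := hperf (hTK ht0)
      rw [← Subgroup.map_subtype_commutator] at h
      obtain ⟨u, hu, hue⟩ := h
      rwa [show pc = u from Subtype.ext hue.symm]
    rw [MonoidHom.mem_ker, htr, MonoidHom.id_apply, Subtype.ext_iff, Subtype.ext_iff] at hin
    have hpow : t0 ^ R.index = 1 := hin
    rw [← orderOf_dvd_iff_pow_eq_one, ho] at hpow
    exact hidx hpow
  obtain ⟨hco, hcker⟩ := hgen c hcT hc1
  have hXY : X * Y = c * (Y * X) := by rw [hc]; group
  -- the outer element inverts the kernel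
  have hUX : ∃ a ∈ f.ker, U * X * U⁻¹ = X * a := by
    refine ⟨X⁻¹ * (U * X * U⁻¹), ?_, by group⟩
    rw [MonoidHom.mem_ker, map_mul, map_mul, map_mul, map_inv, map_inv, hX, hU]
    refine MulEquiv.ext fun g => ?_
    show (MulAut.conj x)⁻¹ (φ (MulAut.conj x (φ⁻¹ g))) = g
    simp [MulAut.conj_apply, map_mul, hφx, mul_assoc]
  have hUY : ∃ b ∈ f.ker, U * Y * U⁻¹ = X * X * (Y * Y) * b := by
    refine ⟨(X * X * (Y * Y))⁻¹ * (U * Y * U⁻¹), ?_, by group⟩
    rw [MonoidHom.mem_ker]
    simp only [map_mul, map_inv, hX, hY, hU]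
    rw [inv_mul_eq_one, ← map_mul, ← map_mul, ← map_mul]
    refine MulEquiv.ext fun g => ?_
    show x * x * (y * y) * g * (x * x * (y * y))⁻¹ = φ (MulAut.conj y (φ⁻¹ g))
    simp [MulAut.conj_apply, map_mul, hφy, mul_assoc]
  obtain ⟨a, haT, hUX⟩ := hUX
  obtain ⟨b, hbT, hUY⟩ := hUY
  have hcX : Commute X c := hcent X hXK c hcT
  have hcY : Commute Y c := hcent Y hYK c hcT
  have hinv : U * c * U⁻¹ = c⁻¹ := by
    have e1 : U * c * U⁻¹ = (U * X * U⁻¹) * (U * Y * U⁻¹) * (U * X * U⁻¹)⁻¹ * (U * Y * U⁻¹)⁻¹ := by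
      rw [hc]; group
    rw [e1, hUX, hUY]
    have e2 : X * a * (X * X * (Y * Y) * b) * (X * a)⁻¹ * (X * X * (Y * Y) * b)⁻¹ =
        X * (X * X * (Y * Y)) * X⁻¹ * (X * X * (Y * Y))⁻¹ := by
      have hm : ∀ g, g ∈ covK f → Commute g a ∧ Commute g b := fun g hg =>
        ⟨hcent g hg a haT, hcent g hg b hbT⟩
      have hM : X * X * (Y * Y) ∈ covK f := mul_mem (mul_mem hXK hXK) (mul_mem hYK hYK)
      set M := X * X * (Y * Y)
      calc X * a * (M * b) * (X * a)⁻¹ * (M * b)⁻¹
          = X * (a * M) * (b * a⁻¹) * X⁻¹ * b⁻¹ * M⁻¹ := by group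
        _ = X * (M * a) * (a⁻¹ * b) * X⁻¹ * b⁻¹ * M⁻¹ := by
            rw [(hm M hM).1.eq, ((hcent b (hTK hbT) a haT).inv_right).eq]
        _ = X * M * (b * X⁻¹) * b⁻¹ * M⁻¹ := by group
        _ = X * M * (X⁻¹ * b) * b⁻¹ * M⁻¹ := by rw [((hm X hXK).2.inv_left).eq]
        _ = X * M * X⁻¹ * M⁻¹ := by group
    rw [e2]
    have e3 : X * (Y * Y) = c * c * (Y * Y * X) := by
      calc X * (Y * Y) = (X * Y) * Y := by rw [mul_assoc]
        _ = (c * (Y * X)) * Y := by rw [← hXY]
        _ = c * Y * (X * Y) := by group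
        _ = c * (Y * c) * (Y * X) := by rw [hXY]; group
        _ = c * (c * Y) * (Y * X) := by rw [hcY.eq]
        _ = c * c * (Y * Y * X) := by group
    have hXX : Commute (X * X) (c * c) := ((hcX.mul_left hcX).mul_right (hcX.mul_left hcX))
    calc X * (X * X * (Y * Y)) * X⁻¹ * (X * X * (Y * Y))⁻¹
        = X * X * (X * (Y * Y)) * X⁻¹ * (X * X * (Y * Y))⁻¹ := by group
      _ = (X * X * (c * c)) * (Y * Y) * (X * X * (Y * Y))⁻¹ := by rw [e3]; group
      _ = c * c := by rw [hXX.eq]; group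
      _ = c⁻¹ := by
          rw [eq_inv_iff_mul_eq_one, mul_assoc, ← pow_three]
          exact hco ▸ pow_orderOf_eq_one c
  have hinvT : ∀ s ∈ f.ker, U * s * U⁻¹ = s⁻¹ := by
    intro s hs
    rcases three_elts hco (hcker ▸ hs) with rfl | rfl | rfl
    · group
    · exact hinv
    · rw [← conj_inv, hinv]
  have hX3 : X ^ 3 = 1 := by
    have hX3T : X ^ 3 ∈ f.ker := by
      rw [MonoidHom.mem_ker, map_pow, hX, ← map_pow, hx3, map_one]
    by_contra hne
    have e := hinvT _ hX3T
    rw [← conj_pow, hUX, (hcent X hXK a haT).mul_pow,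
      show a ^ 3 = 1 by
        have h : (⟨a, haT⟩ : f.ker) ^ 3 = 1 := by rw [← hT]; exact pow_card_eq_one'
        exact congrArg Subtype.val h, mul_one, eq_inv_iff_mul_eq_one, ← sq] at e
    have := orderOf_dvd_of_pow_eq_one e
    rw [(hgen _ hX3T hne).1] at this
    norm_num at this
  exact ⟨⟨c, X, Y, U, hcT, hco, hcker, fun k hk => hcent k hk c hcT, hXK, hYK, hXY, hX3, hinv⟩⟩

end CfsgLib.J4Type.Sym.Bridge
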