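import Cfsg.Agent.Lib.J4Type.Sym.BridgeCover
import Cfsg.Agent.Lib.J4Type.ModThree
import Cfsg.Agent.Lib.J4Type.Setting

/-!
The element of order 3 generating the kernel acts fixed point freely on a faithful module of order `2^12`.
-/

set_option autoImplicit false

namespace CfsgLib.J4Type.Sym.Bridge

open Cfsg CfsgLib.MathieuAut22
open CfsgLib.FischerTwoFour (QRep)

variable {H : Type*} [Group H] [Finite H] {f : H →* MulAut ↥Spor.M22}

/-- In an elementary abelian 2-group of order 64 an element of order dividing 11 fixes everything. -/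
theorem fixed_all_of_card {V : Type*} [AddCommGroup V] [Finite V] (F : AddSubgroup V)
    (hF : Nat.card F = 64) (g : AddMonoid.End V) (hg : ∀ v ∈ F, g v ∈ F) (h11 : g ^ 11 = 1)
    {v : V} (hv : v ∈ F) : g v = v := by
  classical
  have : Fintype F := Fintype.ofFinite F
  have : Fact (Nat.Prime 11) := ⟨by norm_num⟩
  let fF : Function.End F := fun w => ⟨g (w : V), hg _ w.2⟩
  have hit : ∀ (n : ℕ) (w : F), (((fF ^ n) w : F) : V) = (g ^ n) (w : V) := by
    intro n
    induction n with
    | zero => intro w; rfl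
    | succ n ih =>
      intro w
      rw [pow_succ, pow_succ]
      exact ih (fF w)
  have hfF : fF ^ 11 ^ 1 = 1 := by
    funext w
    apply Subtype.ext
    rw [pow_one, hit, h11]
    rfl
  have hmod := Equiv.Perm.card_fixedPoints_modEq (p := 11) hfF
  let S : AddSubgroup F :=
    { carrier := {w | g (w : V) = w}
      zero_mem' := map_zero g
      add_mem' := fun {a b} (ha : g (a : V) = a) (hb : g (b : V) = b) => by
        show g ((a : V) + b) = a + b
        rw [map_add, ha, hb]
      neg_mem' := fun {a} (ha : g (a : V) = a) => by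
        show g (-(a : V)) = -a
        rw [map_neg, ha] }
  have hS : Fintype.card (Function.fixedPoints fF) = Nat.card S := by
    rw [← Nat.card_eq_fintype_card]
    exact Nat.card_congr (Equiv.subtypeEquivRight fun w =>
      ⟨fun h => congrArg Subtype.val h, fun h => Subtype.ext h⟩)
  rw [hS, ← Nat.card_eq_fintype_card, hF] at hmod
  have hdvd : Nat.card S ∣ 2 ^ 6 := (AddSubgroup.card_addSubgroup_dvd_card S).trans (by rw [hF]; norm_num)
  obtain ⟨j, hj, hjc⟩ := (Nat.dvd_prime_pow Nat.prime_two).mp hdvd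
  have hall : S = ⊤ := by
    refine AddSubgroup.eq_top_of_card_eq S ?_
    rw [hF, hjc]
    rw [hjc] at hmod
    unfold Nat.ModEq at hmod
    interval_cases j <;> first | rfl | norm_num at hmod
  have hmem : (⟨v, hv⟩ : F) ∈ S := by rw [hall]; exact AddSubgroup.mem_top _
  exact hmem

/-- The kernel generator has no fixed vector but zero. -/
theorem fixed_eq_zero (F : CoverFrame f) (hf : Function.Surjective f) {V : Type*} [AddCommGroup V]
    (R : QRep H V) {v : V} (hv : R.ρ F.t v = v) : v = 0 := by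
  classical
  haveI : Finite V := Nat.finite_of_card_ne_zero (by rw [R.card_V]; norm_num)
  haveI : Fact (Nat.Prime 11) := ⟨by norm_num⟩
  have ht3 : F.t ^ 3 = 1 := F.t_order ▸ pow_orderOf_eq_one F.t
  have hcomp : ∀ (g h : H) (v : V), R.ρ (g * h) v = R.ρ g (R.ρ h v) := fun g h v => by
    rw [map_mul]; rfl
  have hone : ∀ v : V, R.ρ 1 v = v := fun v => by rw [map_one]; rfl
  have t3 : ∀ v, R.ρ F.t (R.ρ F.t (R.ρ F.t v)) = v := fun v => by
    rw [← hcomp, ← hcomp, show F.t * F.t * F.t = 1 by rw [mul_assoc, ← pow_three, ht3], hone]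
  set τ : AddMonoid.End V := R.ρ F.t with hτ
  -- the moved and the fixed parts
  let n : V →+ V := AddMonoidHom.mk' (fun v => τ v + v) fun a b => by rw [map_add]; abel
  set U : AddSubgroup V := n.range with hUdef
  let W : AddSubgroup V :=
    { carrier := {w | τ w = w}
      zero_mem' := map_zero τ
      add_mem' := fun {a b} (ha : τ a = a) (hb : τ b = b) => by show τ (a + b) = a + b; rw [map_add, ha, hb]
      neg_mem' := fun {a} (ha : τ a = a) => by show τ (-a) = -a; rw [map_neg, ha] }
  have hmW : ∀ w, w ∈ W ↔ τ w = w := fun _ => Iff.rfl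
  have hnm : ∀ v, v + τ v + τ (τ v) ∈ W := fun v => by
    rw [hmW, map_add, map_add, t3]; abel
  have hUW : ∀ w, w ∈ W → w ∈ U → w = 0 := by
    rintro _ hw ⟨u, rfl⟩
    rw [hmW] at hw
    have h1 : τ (τ u) + τ u = τ u + u := by rw [← map_add]; exact hw
    have e : τ (τ u) = u := by
      calc τ (τ u) = τ (τ u) + τ u + τ u := by rw [add_assoc, R.two, add_zero]
        _ = τ u + u + τ u := by rw [h1]
        _ = u + (τ u + τ u) := by abel
        _ = u := by rw [R.two, add_zero]
    have e2 : τ u = u := by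
      have := t3 u
      rw [e] at this
      exact this
    show τ u + u = 0
    rw [e2, R.two]
  have hdec : ∀ v, ∃ w ∈ W, ∃ u ∈ U, w + u = v := fun v =>
    ⟨_, hnm v, τ v + τ (τ v), ⟨τ v, by show τ (τ v) + τ v = _; rw [add_comm]⟩, by
      calc v + τ v + τ (τ v) + (τ v + τ (τ v)) = v + ((τ v + τ v) + (τ (τ v) + τ (τ v))) := by abel
        _ = v := by rw [R.two, R.two, add_zero, add_zero]⟩
  have hbij : Function.Bijective fun p : W × U => (p.1 : V) + (p.2 : V) := by
    refine ⟨fun p q h => ?_, fun v => ?_⟩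
    · have e : (p.1 : V) - q.1 = q.2 - p.2 := sub_eq_sub_iff_add_eq_add.2 (h.trans (add_comm _ _))
      have e1 : (p.1 : V) - q.1 = 0 := hUW _ (sub_mem p.1.2 q.1.2) (e ▸ sub_mem q.2.2 p.2.2)
      have e2 : (q.2 : V) - p.2 = 0 := e ▸ e1
      exact Prod.ext (Subtype.ext (sub_eq_zero.1 e1)) (Subtype.ext (sub_eq_zero.1 e2).symm)
    · obtain ⟨w, hw, u, hu, e⟩ := hdec v
      exact ⟨(⟨w, hw⟩, ⟨u, hu⟩), e⟩
  have hcard : Nat.card W * Nat.card U = 4096 := by
    rw [← Nat.card_prod, Nat.card_congr (Equiv.ofBijective _ hbij), R.card_V]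
  -- invariance
  have hcomm : ∀ g ∈ covK f, ∀ v, R.ρ g (τ v) = τ (R.ρ g v) := fun g hg v => by
    rw [hτ, ← hcomp, ← hcomp, (F.comm_K g hg).eq]
  have hW : ∀ g ∈ covK f, ∀ w ∈ W, R.ρ g w ∈ W := fun g hg w hw => by
    rw [hmW] at hw ⊢
    rw [← hcomm g hg, hw]
  have hU : ∀ g ∈ covK f, ∀ u ∈ U, R.ρ g u ∈ U := by
    rintro g hg _ ⟨u, rfl⟩
    exact ⟨R.ρ g u, by show τ (R.ρ g u) + R.ρ g u = R.ρ g (τ u + u); rw [map_add, hcomm g hg]⟩
  have htK : F.t ∈ covK f := by
    show f F.t ∈ Inn22
    rw [MonoidHom.mem_ker.mp F.t_mem]; exact one_mem _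
  -- the order of the moved part
  let au : ↥(covK f) →* MulAut (Multiplicative U) :=
    { toFun := fun g =>
        { toFun := fun w => Multiplicative.ofAdd ⟨R.ρ (g : H) (Multiplicative.toAdd w : U), hU _ g.2 _ (Multiplicative.toAdd w).2⟩
          invFun := fun w => Multiplicative.ofAdd ⟨R.ρ ((g : H)⁻¹) (Multiplicative.toAdd w : U), hU _ (inv_mem g.2) _ (Multiplicative.toAdd w).2⟩
          left_inv := fun w => congrArg Multiplicative.ofAdd (Subtype.ext (by
            show R.ρ ((g : H)⁻¹) (R.ρ (g : H) _) = _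
            rw [← hcomp, inv_mul_cancel, hone]
            rfl))
          right_inv := fun w => congrArg Multiplicative.ofAdd (Subtype.ext (by
            show R.ρ (g : H) (R.ρ ((g : H)⁻¹) _) = _
            rw [← hcomp, mul_inv_cancel, hone]
            rfl))
          map_mul' := fun a b => congrArg Multiplicative.ofAdd (Subtype.ext (map_add (R.ρ (g : H)) _ _)) }
      map_one' := MulEquiv.ext fun w => congrArg Multiplicative.ofAdd (Subtype.ext (hone _))
      map_mul' := fun g h => MulEquiv.ext fun w => congrArg Multiplicative.ofAdd (Subtype.ext (hcomp _ _ _)) }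
  set A : ↥(covK f) := ⟨F.X, F.X_mem⟩
  set B : ↥(covK f) := ⟨F.Y, F.Y_mem⟩
  set T : ↥(covK f) := ⟨F.t, htK⟩
  have hT3 : T ^ 3 = 1 := Subtype.ext ht3
  have hAB : B * A = A * T⁻¹ * B := Subtype.ext (by
    show F.Y * F.X = F.X * F.t⁻¹ * F.Y
    rw [((F.comm_K _ F.X_mem).inv_right).eq, mul_assoc, F.comm]
    group)
  obtain ⟨k, hk⟩ := card_eq_two_pow_six_mul (W := Multiplicative U)
    (fun w => congrArg Multiplicative.ofAdd (Subtype.ext (R.two ((Multiplicative.toAdd w : U) : V))))
    (au A) (au T⁻¹) (au B)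
    (by rw [← map_pow, show A ^ 3 = 1 from Subtype.ext F.X_cube, map_one])
    (by rw [← map_pow, inv_pow, hT3, inv_one, map_one])
    ((show Commute A T⁻¹ from Subtype.ext ((F.comm_K _ F.X_mem).inv_right).eq).map au)
    (by rw [← map_mul, hAB, map_mul, map_mul])
    ((show Commute B T⁻¹ from Subtype.ext ((F.comm_K _ F.Y_mem).inv_right).eq).map au)
    (fun w hw => by
      have e : R.ρ (F.t⁻¹) ((Multiplicative.toAdd w : U) : V) = ((Multiplicative.toAdd w : U) : V) :=
        congrArg (fun x => ((Multiplicative.toAdd x : U) : V)) hw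
      have e2 := congrArg (R.ρ F.t) e
      rw [← hcomp, mul_inv_cancel, hone] at e2
      have e0 := hUW _ ((hmW _).2 e2.symm) (Multiplicative.toAdd w).2
      exact congrArg Multiplicative.ofAdd (Subtype.ext e0 : Multiplicative.toAdd w = (0 : U)))
  rw [Nat.card_congr (Multiplicative.toAdd (α := U))] at hk
  have hUne : Nat.card U ≠ 1 := by
    intro h1
    haveI := (Nat.card_eq_one_iff_unique.mp h1).1
    have hfix : ∀ v, R.ρ F.t v = v := fun v => by
      have hm : (⟨n v, v, rfl⟩ : U) = 0 := Subsingleton.elim _ _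
      have h0 : τ v + v = 0 := congrArg Subtype.val hm
      calc τ v = τ v + v + v := by rw [add_assoc, R.two, add_zero]
        _ = v := by rw [h0, zero_add]
    have := F.t_order
    rw [R.faithful F.t hfix, orderOf_one] at this
    omega
  have hk2 : k ≤ 2 := by
    have hle : 2 ^ (6 * k) ≤ 2 ^ 12 := by
      rw [← hk]; exact Nat.le_of_dvd (by norm_num) (Dvd.intro_left _ hcard)
    have := (Nat.pow_le_pow_iff_right (by norm_num)).mp hle
    omega
  interval_cases k
  · exact absurd hk hUne
  · exfalso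
    rw [hk] at hcard
    have hWc : Nat.card W = 64 := by norm_num at hcard; omega
    obtain ⟨g, hg⟩ := exists_prime_orderOf_dvd_card' (G := ↥(covK f)) 11 (by
      refine dvd_trans ?_ (Subgroup.card_dvd_of_surjective (f.subgroupComap Inn22)
        (f.subgroupComap_surjective_of_surjective _ hf))
      rw [natCard_inn]; norm_num)
    have h11 : (R.ρ (g : H)) ^ 11 = 1 := by
      rw [← map_pow, ← SubmonoidClass.coe_pow, ← hg, pow_orderOf_eq_one, OneMemClass.coe_one, map_one]
    have hfixall : ∀ v, R.ρ (g : H) v = v := fun v => by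
      obtain ⟨w, hw, u, hu, rfl⟩ := hdec v
      rw [map_add, fixed_all_of_card W hWc _ (hW _ g.2) h11 hw,
        fixed_all_of_card U (by rw [hk]; norm_num) _ (hU _ g.2) h11 hu]
    have : g = 1 := Subtype.ext (R.faithful _ hfixall)
    rw [this, orderOf_one] at hg
    omega
  · rw [hk] at hcard
    have hWc : Nat.card W = 1 :=
      Nat.eq_of_mul_eq_mul_right (show 0 < 2 ^ (6 * 2) by norm_num) (hcard.trans (by norm_num))
    haveI := (Nat.card_eq_one_iff_unique.mp hWc).1
    exact congrArg Subtype.val (Subsingleton.elim (⟨v, (hmW v).2 hv⟩ : W) 0)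

end CfsgLib.J4Type.Sym.Bridge
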