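import Cfsg.Agent.Lib.J4Type.GensPerm

/-!
An outer automorphism of `M22` of determinant `-1` on the frame of order 9.
-/

set_option autoImplicit false
set_option maxRecDepth 20000

namespace CfsgLib.J4Type.Sym.Bridge

open Cfsg CfsgLib.Golay CfsgLib.MathieuAut22 CfsgLib.Steiner.Witt

/-- The image list of the outer element. -/
def outerU : List ℕ :=
  [23, 1, 2, 4, 3, 13, 7, 6, 8, 9, 15, 11, 18, 5, 22, 10, 17, 16, 12, 19, 20, 21, 14, 0]

theorem outer_check : (GensPerm.ok22o outerU && ok22 frameX && ok22 frameY && ok22 frameI &&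
    (comp frameX (comp frameX frameX) == List.range 24) &&
    (comp frameY (comp frameY frameY) == List.range 24) &&
    !(frameX == List.range 24) &&
    (comp frameX frameY == comp frameY frameX) &&
    (comp frameI frameX == comp frameY frameI) &&
    (comp frameX (comp frameI frameY) == frameI) &&
    (comp outerU frameX == comp frameX outerU) &&
    (comp outerU frameY == comp (comp (comp frameX frameX) (comp frameY frameY)) outerU)) = true := by
  decide +kernel

/-- Two commuting elements of order 3 and an automorphism of determinant `-1` on their span. -/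
theorem exists_frame_outer : ∃ (x y : ↥Spor.M22) (φ : MulAut ↥Spor.M22), x ^ 3 = 1 ∧ y ^ 3 = 1 ∧
    x * y = y * x ∧ φ x = x ∧ φ y = x * x * (y * y) ∧ y ∉ Subgroup.zpowers x ∧ x ≠ 1 := by
  have h := outer_check
  simp only [Bool.and_eq_true, beq_iff_eq, Bool.not_eq_true', beq_eq_false_iff_ne] at h
  obtain ⟨⟨⟨⟨⟨⟨⟨⟨⟨⟨⟨hu, hx⟩, hy⟩, hi⟩, hx3⟩, hy3⟩, hx1⟩, hxy⟩, hix⟩, hiy⟩, hux⟩, huy⟩ := h
  obtain ⟨u, hul, -⟩ := GensPerm.exists_elt_outer hu
  obtain ⟨x, hxl⟩ := exists_elt hx
  obtain ⟨y, hyl⟩ := exists_elt hy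
  obtain ⟨i, hil⟩ := exists_elt hi
  have inj : ∀ a b : ↥Spor.M22, toList a = toList b → a = b := fun a b e =>
    Subtype.ext (toList_injective e)
  have hm : ∀ a b : ↥Spor.M22, toList (a * b : ↥Spor.M22) = comp (toList a) (toList b) :=
    fun a b => toList_mul _ _
  have h1 : toList ((1 : ↥Spor.M22) : Equiv.Perm GolayPt) = List.range 24 := toList_one
  have x3 : x ^ 3 = 1 := inj _ _ (by rw [pow_three, hm, hm, h1, hxl]; exact hx3)
  have xy : x * y = y * x := inj _ _ (by rw [hm, hm, hxl, hyl]; exact hxy)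
  have ix : i * x = y * i := inj _ _ (by rw [hm, hm, hxl, hyl, hil]; exact hix)
  have iy : x * (i * y) = i := inj _ _ (by rw [hm, hm, hxl, hyl, hil]; exact hiy)
  have x1 : x ≠ 1 := fun e => hx1 (by rw [← hxl, e]; exact h1)
  have cx : ∀ a b : ↥Spor.M22, comp (toList (u : Equiv.Perm GolayPt)) (toList a) =
      comp (toList b) (toList (u : Equiv.Perm GolayPt)) → conjHom u a = b := by
    intro a b e
    refine Subtype.ext ?_
    rw [conjHom_apply]
    rw [← toList_mul, ← toList_mul] at e
    rw [toList_injective e, mul_inv_cancel_right]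
  have ux : conjHom u x = x := cx _ _ (by rw [hul, hxl]; exact hux)
  have uy : conjHom u y = x * x * (y * y) := cx _ _ (by rw [hm, hm, hm, hul, hxl, hyl]; exact huy)
  refine ⟨x, y, conjHom u, x3, inj _ _ (by rw [pow_three, hm, hm, h1, hyl]; exact hy3), xy, ux, uy,
    ?_, x1⟩
  intro hmem
  obtain ⟨m, hm'⟩ := Subgroup.mem_zpowers_iff.mp hmem
  have e1 : conjHom u y = y := by rw [← hm', map_zpow, ux]
  rw [uy] at e1
  have e2 : x * x * y = 1 := mul_right_cancel (b := y) (by rw [one_mul, mul_assoc, e1])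
  have e3 : y = x := by
    calc y = (x * x * x) * y := by rw [mul_assoc x x x, ← pow_three, x3, one_mul]
      _ = x * (x * x * y) := by group
      _ = x := by rw [e2, mul_one]
  rw [e3] at ix iy
  rw [ix, ← mul_assoc, mul_eq_right] at iy
  have : x ^ 3 = x := by rw [pow_three, iy, mul_one]
  exact x1 (this.symm.trans x3)

end CfsgLib.J4Type.Sym.Bridge
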