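import Cfsg.Agent.Lib.J4Type.Sym.BridgeType
import Cfsg.Agent.Lib.Components.FStar

/-!
The hypotheses of the centraliser characterisations of the fourth Janko group give Janko-four type.
-/

set_option autoImplicit false

namespace CfsgLib.J4Type.Sym.Bridge

open Cfsg CfsgLib.MathieuAut22 CfsgLib.Golay CfsgLib.Steiner.Witt
open scoped commutatorElement

universe u

theorem not_comm_sporM22 : ∃ a b : ↥Spor.M22, a * b ≠ b * a := by
  obtain ⟨x, y, φ, hx3, -, -, -, -, hy, hx1⟩ := exists_frame_outer
  haveI := isSimpleGroup_sporM22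
  by_contra h
  push Not at h
  letI : CommGroup ↥Spor.M22 := { (inferInstance : Group ↥Spor.M22) with mul_comm := h }
  haveI : IsSimpleGroup ↥Spor.M22 := isSimpleGroup_sporM22
  rcases (inferInstance : (Subgroup.zpowers x).Normal).eq_bot_or_eq_top with e | e
  · exact hx1 (Subgroup.zpowers_eq_bot.mp e)
  · exact hy (e ▸ Subgroup.mem_top y)

theorem commutator_inn : ⁅Inn22, Inn22⁆ = Inn22 := by
  haveI := isSimpleGroup_sporM22
  have h : commutator ↥Spor.M22 = ⊤ := by
    rcases (inferInstance : (commutator ↥Spor.M22).Normal).eq_bot_or_eq_top with e | e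
    · exfalso
      obtain ⟨a, b, hab⟩ := not_comm_sporM22
      have hm : ⁅a, b⁆ ∈ commutator ↥Spor.M22 :=
        Subgroup.commutator_mem_commutator (Subgroup.mem_top a) (Subgroup.mem_top b)
      rw [e, Subgroup.mem_bot, commutatorElement_eq_one_iff_mul_comm] at hm
      exact hab hm
    · exact e
  calc ⁅Inn22, Inn22⁆ = ⁅(⊤ : Subgroup ↥Spor.M22).map MulAut.conj, (⊤ : Subgroup ↥Spor.M22).map MulAut.conj⁆ := by
        rw [← MonoidHom.range_eq_map]
    _ = (commutator ↥Spor.M22).map MulAut.conj := (Subgroup.map_commutator _ _ _).symm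
    _ = Inn22 := by rw [h, ← MonoidHom.range_eq_map]

variable {C : Type u} [Group C] [Finite C]

/-- A non-complemented kernel of order 3 makes the preimage of the inner automorphisms perfect modulo `Q`. -/
theorem perfect_of_nonsplit (Q N : Subgroup C) [Q.Normal] [N.Normal] (hQN : Q ≤ N)
    (hN : Nat.card N = 3 * Nat.card Q) (π : C →* MulAut ↥Spor.M22) (hπ : Function.Surjective π)
    (hker : π.ker = N) (hns : ∀ K : Subgroup C, K ⊓ N = Q → K ⊔ N = ⊤ → False) :
    Inn22.comap π ≤ ⁅Inn22.comap π, Inn22.comap π⁆ ⊔ Q := by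
  classical
  set K := Inn22.comap π with hK
  set K0 := ⁅K, K⁆ ⊔ Q with hK0
  haveI : K.Normal := (inferInstance : (Inn22).Normal).comap π
  haveI : K0.Normal := by rw [hK0]; infer_instance
  have hNK : N ≤ K := by rw [← hker]; exact Subgroup.ker_le_comap _ _
  have hK0K : K0 ≤ K := sup_le (Subgroup.commutator_le_self K) (hQN.trans hNK)
  have hcover : K ≤ K0 ⊔ N := by
    intro k hk
    have hm : π k ∈ K0.map π := by
      refine Subgroup.map_mono le_sup_left ?_
      rw [Subgroup.map_commutator, hK, Subgroup.map_comap_eq_self_of_surjective hπ, commutator_inn]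
      exact hk
    obtain ⟨k0, hk0, e⟩ := hm
    have hn : k0⁻¹ * k ∈ N := by
      rw [← hker, MonoidHom.mem_ker, map_mul, map_inv, e, inv_mul_cancel]
    have := Subgroup.mul_mem_sup hk0 hn
    rwa [mul_inv_cancel_left] at this
  by_cases hNK0 : N ≤ K0
  · rwa [sup_eq_left.mpr hNK0] at hcover
  exfalso
  have hinf : K0 ⊓ N = Q := by
    refine (Subgroup.eq_of_le_of_card_ge (le_inf le_sup_right hQN) ?_).symm
    have h1 : Nat.card ↥(K0 ⊓ N) ∣ 3 * Nat.card Q := hN ▸ Subgroup.card_dvd_of_le inf_le_right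
    obtain ⟨d, hd⟩ := Subgroup.card_dvd_of_le (show Q ≤ K0 ⊓ N from le_inf le_sup_right hQN)
    rw [hd, mul_comm 3] at h1
    rcases (Nat.dvd_prime Nat.prime_three).mp
      ((Nat.mul_dvd_mul_iff_left (Nat.card_pos (α := Q))).mp h1) with e | e
    · rw [hd, e, mul_one]
    · exfalso
      refine hNK0 ((le_of_eq ?_ : N ≤ K0 ⊓ N).trans inf_le_left)
      symm
      refine Subgroup.eq_of_le_of_card_ge inf_le_right ?_
      rw [hd, e, hN, mul_comm]
  -- the quotient by `K0` has order 6
  let q := QuotientGroup.mk' K0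
  have hKN : K = K0 ⊔ N := le_antisymm hcover (sup_le hK0K hNK)
  have hqK : K.map q = N.map q := by
    rw [hKN, Subgroup.map_sup, (Subgroup.map_eq_bot_iff _).mpr (QuotientGroup.ker_mk' K0).ge, bot_sup_eq]
  have hcard3 : Nat.card (N.map q) = 3 := by
    have h := Subgroup.card_eq_card_quotient_mul_card_subgroup (q.comp N.subtype).ker
    rw [Nat.card_congr (QuotientGroup.quotientKerEquivRange (q.comp N.subtype)).toEquiv,
      show (q.comp N.subtype).range = N.map q by rw [MonoidHom.range_comp, N.range_subtype],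
      show (q.comp N.subtype).ker = (K0 ⊓ N).subgroupOf N by
        ext x; simp [q, Subgroup.mem_subgroupOf],
      hinf, Nat.card_congr (Subgroup.subgroupOfEquivOfLe hQN).toEquiv, hN] at h
    exact (Nat.eq_of_mul_eq_mul_right Nat.card_pos h).symm
  have hidx : (K.map q).index = 2 := by
    rw [Subgroup.index_map_eq _ (QuotientGroup.mk'_surjective K0) ((QuotientGroup.ker_mk' K0).trans_le hK0K), hK,
      Subgroup.index_comap_of_surjective _ hπ]
    exact index_inn
  have h6 : Nat.card (C ⧸ K0) = 6 := by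
    have h := Subgroup.card_mul_index (K.map q)
    rw [hidx, hqK, hcard3] at h
    exact h.symm
  haveI : Fact (Nat.Prime 2) := ⟨Nat.prime_two⟩
  obtain ⟨s, hs⟩ := exists_prime_orderOf_dvd_card' (G := C ⧸ K0) 2 (by rw [h6]; norm_num)
  have hdisj : Subgroup.zpowers s ⊓ N.map q = ⊥ :=
    Subgroup.inf_eq_bot_of_coprime (by rw [Nat.card_zpowers, hs, hcard3]; norm_num)
  refine hns ((Subgroup.zpowers s).comap q) ?_ ?_
  · refine le_antisymm ?_ (le_inf ?_ hQN)
    · rintro x ⟨hx1, hx2⟩
      have hm : q x ∈ Subgroup.zpowers s ⊓ N.map q := ⟨hx1, x, hx2, rfl⟩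
      rw [hdisj, Subgroup.mem_bot] at hm
      rw [← hinf]
      exact ⟨(QuotientGroup.eq_one_iff x).mp hm, hx2⟩
    · exact le_trans le_sup_right (le_of_eq_of_le (QuotientGroup.ker_mk' K0).symm (Subgroup.ker_le_comap _ _))
  · have h1 : (((Subgroup.zpowers s).comap q) ⊔ N).map q = ⊤ := by
      rw [Subgroup.map_sup, Subgroup.map_comap_eq_self_of_surjective (QuotientGroup.mk'_surjective K0)]
      refine Subgroup.eq_top_of_card_eq _ (Nat.dvd_antisymm (Subgroup.card_subgroup_dvd_card _) ?_)
      rw [h6, show 6 = 2 * 3 from rfl]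
      refine Nat.Coprime.mul_dvd_of_dvd_of_dvd (by norm_num) ?_ (hcard3 ▸ Subgroup.card_dvd_of_le le_sup_right)
      rw [← hs, ← Nat.card_zpowers]
      exact Subgroup.card_dvd_of_le le_sup_left
    rw [← Subgroup.comap_map_eq_self (f := q) (H := (Subgroup.zpowers s).comap q ⊔ N)
      ((Subgroup.ker_le_comap _ _).trans le_sup_left), h1, Subgroup.comap_top]

variable {G : Type u} [Group G] [Finite G]

/-- From the hypotheses of the theorem on extraspecial centralisers with non-complemented kernel. -/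
theorem typeAt_of_fitting (z : G) (Q N : Subgroup (CC z)) [Q.Normal] [N.Normal]
    (hS : Cfsg.IsExtraspecialCentralizerSetting z Q 6) (hQN : Q ≤ N) (hN : Nat.card N = 3 * Nat.card Q)
    (hns : ∀ K : Subgroup (CC z), K ⊓ N = Q → K ⊔ N = ⊤ → False)
    (e : (CC z) ⧸ N ≃* MulAut ↥Spor.M22) : Cfsg.IsOfJankoFourTypeAt z := by
  obtain ⟨hz, hF, hQ, hcard, -⟩ := hS
  have hC : Subgroup.centralizer (Q : Set (CC z)) ≤ Q := by
    have h := CfsgLib.Components.centralizer_generalizedFitting_le (G := ↥(CC z))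
    rwa [hF] at h
  have S : Ext13 Q := ⟨hQ, hcard.trans (by norm_num), hC⟩
  let π : CC z →* MulAut ↥Spor.M22 := e.toMonoidHom.comp (QuotientGroup.mk' N)
  have hπ : Function.Surjective π := e.surjective.comp (QuotientGroup.mk'_surjective N)
  have hker : π.ker = N := by
    ext x
    show e (QuotientGroup.mk x) = 1 ↔ x ∈ N
    rw [MulEquiv.map_eq_one_iff, QuotientGroup.eq_one_iff]
  exact typeAt_of_data z hz Q N S hQN hN π hπ hker (perfect_of_nonsplit Q N hQN hN π hπ hker hns)

/-- From the hypotheses of the uniqueness theorems with a chain `Q ≤ N ≤ M`. -/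
theorem typeAt_of_chain (t : G) (ht : orderOf t = 2) (Q N M : Subgroup (CC t)) [Q.Normal] [N.Normal]
    [M.Normal] (hQN : Q ≤ N) (hNM : N ≤ M) (hM : M.index = 2) (hQ : Cfsg.IsExtraspecial 2 Q)
    (hcard : Nat.card Q = 2 ^ 13) (hN : Nat.card N = 3 * Nat.card Q) (hperf : M ≤ ⁅M, M⁆ ⊔ Q)
    (h2c : Subgroup.centralizer (Q : Set (CC t)) ≤ Q)
    (hout : ∀ c : CC t, (∀ m ∈ M, c * m * c⁻¹ * m⁻¹ ∈ N) → c ∈ M)
    (hM22 : Cfsg.Spor.IsoM22 (M ⧸ N.subgroupOf M)) : Cfsg.IsOfJankoFourTypeAt t := by
  classical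
  obtain ⟨e0⟩ := hM22
  let q := QuotientGroup.mk' N
  haveI : (M.map q).Normal := Subgroup.Normal.map inferInstance q (QuotientGroup.mk'_surjective N)
  have hkq : (q.comp M.subtype).ker = N.subgroupOf M := by
    ext x; simp [q, Subgroup.mem_subgroupOf]
  let e1 : ↥(M.map q) ≃* ↥Spor.M22 :=
    ((MulEquiv.subgroupCongr (show M.map q = (q.comp M.subtype).range by
      rw [MonoidHom.range_comp, M.range_subtype])).trans
      (QuotientGroup.quotientKerEquivRange (q.comp M.subtype)).symm).trans
      ((QuotientGroup.quotientMulEquivOfEq hkq).trans e0)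
  let π : CC t →* MulAut ↥Spor.M22 :=
    (MulAut.congr e1).toMonoidHom.comp ((MulAut.conjNormal (H := M.map q)).comp q)
  have hker : π.ker = N := by
    ext c
    constructor
    · intro hc
      have hc' : MulAut.conjNormal (H := M.map q) (q c) = 1 :=
        (MulAut.congr e1).injective (hc.trans (map_one _).symm)
      have hfix : ∀ m ∈ M, q c * q m * (q c)⁻¹ = q m := fun m hm =>
        congrArg Subtype.val (DFunLike.congr_fun hc' (⟨q m, ⟨m, hm, rfl⟩⟩ : ↥(M.map q)))
      have hcM : c ∈ M := hout c fun m hm => by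
        rw [← QuotientGroup.eq_one_iff]
        show q (c * m * c⁻¹ * m⁻¹) = 1
        rw [map_mul, map_mul, map_mul, map_inv, map_inv, hfix m hm, mul_inv_cancel]
      -- the centre of `M22` is trivial
      have hcen : e1 ⟨q c, c, hcM, rfl⟩ ∈ Subgroup.center ↥Spor.M22 := by
        rw [Subgroup.mem_center_iff]
        intro g
        obtain ⟨⟨_, m, hm, rfl⟩, rfl⟩ := e1.surjective g
        rw [← map_mul, ← map_mul]
        refine congrArg e1 (Subtype.ext ?_)
        show q m * q c = q c * q m
        exact (mul_inv_eq_iff_eq_mul.mp (hfix m hm)).symm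
      haveI := isSimpleGroup_sporM22
      rcases (inferInstance : (Subgroup.center ↥Spor.M22).Normal).eq_bot_or_eq_top with e | e
      · rw [e, Subgroup.mem_bot, MulEquiv.map_eq_one_iff] at hcen
        exact (QuotientGroup.eq_one_iff c).mp (congrArg Subtype.val hcen)
      · exfalso
        obtain ⟨a, b, hab⟩ := not_comm_sporM22
        exact hab ((Subgroup.mem_center_iff.mp (e ▸ Subgroup.mem_top a) b).symm)
    · intro hc
      show MulAut.congr e1 (MulAut.conjNormal (q c)) = 1
      rw [show q c = 1 from (QuotientGroup.eq_one_iff c).mpr hc, map_one, map_one]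
  have hcardC : Nat.card ↥(CC t) = 887040 * Nat.card N := by
    have h1 := Subgroup.card_mul_index M
    have h2 := Subgroup.card_eq_card_quotient_mul_card_subgroup (N.subgroupOf M)
    rw [Nat.card_congr e0.toEquiv, natCard_sporM22,
      Nat.card_congr (Subgroup.subgroupOfEquivOfLe hNM).toEquiv] at h2
    rw [hM, h2] at h1
    omega
  have hπ : Function.Surjective π := by
    rw [← MonoidHom.range_eq_top]
    refine Subgroup.eq_top_of_card_eq _ ?_
    rw [← Nat.card_congr (QuotientGroup.quotientKerEquivRange π).toEquiv, natCard_mulAut_sporM22]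
    have h := Subgroup.card_eq_card_quotient_mul_card_subgroup π.ker
    rw [hcardC, ← hker] at h
    exact Nat.eq_of_mul_eq_mul_right Nat.card_pos h.symm
  have hinn : M = Inn22.comap π := by
    have hidx : (M.map π).index = 2 := by
      rw [Subgroup.index_map_eq _ hπ (hker ▸ hNM), hM]
    exact ((congrArg (Subgroup.comap π) (eq_inn_of_index_two hidx).symm).trans
      (Subgroup.comap_map_eq_self (hker ▸ hNM))).symm
  exact typeAt_of_data t ht Q N ⟨hQ, hcard, h2c⟩ hQN hN π hπ hker (hinn ▸ hperf)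

end CfsgLib.J4Type.Sym.Bridge
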