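import Cfsg.Agent.Lib.J4Type.Sym.BridgeModule

/-!
An involution centraliser `2^(1+12).(3.M22:2)` with the perfect extension is of Janko-four type.
-/

set_option autoImplicit false

namespace CfsgLib.J4Type.Sym.Bridge

open Cfsg CfsgLib.MathieuAut22 CfsgLib.Golay CfsgLib.Steiner.Witt
open scoped commutatorElement

universe u

theorem eq_bot_of_normal_two {R : Subgroup (MulAut ↥Spor.M22)} (hR : R.Normal) (h2 : IsPGroup 2 R) :
    R = ⊥ := by
  haveI := isSimpleGroup_sporM22
  haveI := hR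
  rcases (inferInstance : (R.comap (MulAut.conj : ↥Spor.M22 →* MulAut ↥Spor.M22)).Normal).eq_bot_or_eq_top
    with hbot | htop
  · refine (Subgroup.eq_bot_iff_forall _).mpr fun φ hφ => MulEquiv.ext fun g => ?_
    have hm : MulAut.conj (φ g * g⁻¹) ∈ R := by
      have h := R.mul_mem hφ (hR.conj_mem _ (inv_mem hφ) (MulAut.conj g))
      have e : φ * (MulAut.conj g * φ⁻¹ * (MulAut.conj g)⁻¹) = MulAut.conj (φ g * g⁻¹) := by
        refine MulEquiv.ext fun x => ?_
        show φ (MulAut.conj g (φ⁻¹ ((MulAut.conj g)⁻¹ x))) = _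
        simp [MulAut.conj_apply, map_mul, mul_assoc]
      rwa [e] at h
    have h1 : φ g * g⁻¹ ∈ R.comap (MulAut.conj : ↥Spor.M22 →* MulAut ↥Spor.M22) := hm
    rw [hbot, Subgroup.mem_bot, mul_inv_eq_one] at h1
    exact h1
  · exfalso
    have hle : Inn22 ≤ R := by
      rintro _ ⟨g, rfl⟩
      exact (htop.symm ▸ Subgroup.mem_top g : g ∈ R.comap _)
    haveI : Fact (Nat.Prime 2) := ⟨Nat.prime_two⟩
    obtain ⟨n, hn⟩ := IsPGroup.iff_card.mp (h2.to_le hle)
    rw [natCard_inn] at hn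
    have h11 : 11 ∣ 2 ^ n := hn ▸ (by norm_num)
    have := (Nat.Prime.dvd_of_dvd_pow (by norm_num : Nat.Prime 11) h11)
    norm_num at this

variable {C : Type u} [Group C] [Finite C]

/-- Two elements of order 3 of `N` congruent modulo `Q` are conjugate under `Q`. -/
theorem exists_conj_in_Q (Q N : Subgroup C) [Q.Normal] (hcard : Nat.card Q = 2 ^ 13) (hQN : Q ≤ N)
    (hN : Nat.card N = 3 * Nat.card Q) {p p' : C} (hp : p ∈ N) (hp' : p' ∈ N) (hpo : orderOf p = 3)
    (hp'o : orderOf p' = 3) (hmk : (QuotientGroup.mk p : C ⧸ Q) = QuotientGroup.mk p') :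
    ∃ q ∈ Q, q * p * q⁻¹ = p' := by
  haveI : Fact (Nat.Prime 3) := ⟨Nat.prime_three⟩
  have h3 : (Nat.card N).factorization 3 = 1 := by
    rw [hN, hcard, Nat.factorization_mul (by norm_num) (by norm_num), Finsupp.add_apply,
      Nat.Prime.factorization_self Nat.prime_three, Nat.factorization_pow, Finsupp.smul_apply,
      Nat.factorization_eq_zero_of_not_dvd (by norm_num : ¬ 3 ∣ 2)]
    rfl
  have hs : ∀ a : C, ∀ ha : a ∈ N, orderOf a = 3 →
      ∃ S : Sylow 3 N, (S : Subgroup N) = Subgroup.zpowers ⟨a, ha⟩ := fun a ha hao =>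
    ⟨Sylow.ofCard (Subgroup.zpowers ⟨a, ha⟩) (by
      rw [Nat.card_zpowers, Subgroup.orderOf_mk, hao, h3]; norm_num), rfl⟩
  obtain ⟨S, hS⟩ := hs p hp hpo
  obtain ⟨S', hS'⟩ := hs p' hp' hp'o
  obtain ⟨n, hn⟩ := MulAction.exists_smul_eq N S S'
  have hm : n * ⟨p, hp⟩ * n⁻¹ ∈ (S' : Subgroup N) := by
    rw [← hn]
    exact Subgroup.smul_mem_pointwise_smul _ (MulAut.conj n) _ (hS ▸ Subgroup.mem_zpowers _)
  rw [hS'] at hm
  have hp2 : (QuotientGroup.mk' Q).comp N.subtype ⟨p, hp⟩ ≠ 1 := by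
    intro e
    have hq : p ∈ Q := (QuotientGroup.eq_one_iff p).mp e
    have := (Subgroup.orderOf_mk (H := Q) p hq) ▸ orderOf_dvd_natCard (⟨p, hq⟩ : Q)
    rw [hpo, hcard] at this
    exact absurd (Nat.prime_three.dvd_of_dvd_pow this) (by norm_num)
  -- `N / Q` has order 3
  let g : N →* C ⧸ Q := (QuotientGroup.mk' Q).comp N.subtype
  have hgp : orderOf (g ⟨p, hp⟩) = 3 := by
    refine orderOf_eq_prime ?_ hp2
    rw [← map_pow, show (⟨p, hp⟩ : N) ^ 3 = 1 from Subtype.ext (hpo ▸ pow_orderOf_eq_one p :), map_one]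
  have hrange : g.range = Subgroup.zpowers (g ⟨p, hp⟩) := by
    refine (Subgroup.eq_of_le_of_card_ge (Subgroup.zpowers_le.mpr (MonoidHom.mem_range.mpr ⟨_, rfl⟩)) ?_).symm
    rw [Nat.card_zpowers, hgp]
    have h := Subgroup.card_eq_card_quotient_mul_card_subgroup g.ker
    rw [Nat.card_congr (QuotientGroup.quotientKerEquivRange g).toEquiv,
      show g.ker = Q.subgroupOf N by
        ext x; simp [g, Subgroup.mem_subgroupOf],
      Nat.card_congr (Subgroup.subgroupOfEquivOfLe hQN).toEquiv, hN, hcard] at h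
    omega
  have hcomm : g n * g ⟨p, hp⟩ * (g n)⁻¹ = g ⟨p, hp⟩ := by
    obtain ⟨j, hj⟩ := Subgroup.mem_zpowers_iff.mp
      (show g n ∈ Subgroup.zpowers (g ⟨p, hp⟩) by rw [← hrange]; exact MonoidHom.mem_range.mpr ⟨n, rfl⟩)
    rw [← hj, ((Commute.refl (g ⟨p, hp⟩)).zpow_left j).eq, mul_inv_cancel_right]
  have e3 : g ⟨p', hp'⟩ = g ⟨p, hp⟩ := hmk.symm
  obtain ⟨j, hj⟩ := Subgroup.mem_zpowers_iff.mp hm
  have hconj : (n : C) * p * (n : C)⁻¹ = p' := by
    have e := congrArg g hj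
    rw [map_zpow, map_mul, map_mul, map_inv, hcomm, e3] at e
    have e' : g ⟨p, hp⟩ ^ (j - 1) = 1 := by rw [zpow_sub_one, e, mul_inv_cancel]
    rw [← orderOf_dvd_iff_zpow_eq_one, hgp, ← hp'o, orderOf_dvd_iff_zpow_eq_one, zpow_sub_one,
      mul_inv_eq_one] at e'
    have h2 := congrArg Subtype.val hj
    rw [SubgroupClass.coe_zpow] at h2
    exact (e'.symm.trans h2).symm
  -- correct `n` by a power of `p`
  obtain ⟨i, hi⟩ := Subgroup.mem_zpowers_iff.mp
      (show g n ∈ Subgroup.zpowers (g ⟨p, hp⟩) by rw [← hrange]; exact MonoidHom.mem_range.mpr ⟨n, rfl⟩)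
  refine ⟨(n : C) * (p ^ i)⁻¹, ?_, ?_⟩
  · have e : g (n * (⟨p, hp⟩ ^ i)⁻¹) = 1 := by rw [map_mul, map_inv, map_zpow, hi, mul_inv_cancel]
    exact (QuotientGroup.eq_one_iff _).mp e
  · rw [← hconj]
    group

variable {G : Type u} [Group G] [Finite G]

/-- **The centraliser data give Janko-four type.** -/
theorem typeAt_of_data (z : G) (hz : orderOf z = 2) (Q N : Subgroup (CC z)) [Q.Normal] [N.Normal]
    (S : Ext13 Q) (hQN : Q ≤ N) (hN : Nat.card N = 3 * Nat.card Q)
    (π : CC z →* MulAut ↥Spor.M22) (hπ : Function.Surjective π) (hker : π.ker = N)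
    (hperf : Inn22.comap π ≤ ⁅Inn22.comap π, Inn22.comap π⁆ ⊔ Q) :
    Cfsg.IsOfJankoFourTypeAt z := by
  classical
  haveI : Fact (Nat.Prime 2) := ⟨Nat.prime_two⟩
  haveI : Fact (Nat.Prime 3) := ⟨Nat.prime_three⟩
  have hQ2 : IsPGroup 2 Q := S.extra.1.1
  -- the largest normal 2-subgroup
  have hQQ : Cfsg.pCore 2 ↥(CC z) = Q := by
    haveI : (Cfsg.pCore 2 ↥(CC z)).Normal := LargeExtra.pCore_normal' 2 _
    have h2 := LargeExtra.pCore_isPGroup' 2 ↥(CC z)
    have hle : Q ≤ Cfsg.pCore 2 ↥(CC z) := le_sSup ⟨inferInstance, hQ2⟩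
    have hmap := eq_bot_of_normal_two (Subgroup.Normal.map inferInstance π hπ) (h2.map π)
    rw [Subgroup.map_eq_bot_iff, hker] at hmap
    refine (Subgroup.eq_of_le_of_card_ge hle ?_).symm
    obtain ⟨n, hn⟩ := IsPGroup.iff_card.mp h2
    have hd := Subgroup.card_dvd_of_le hmap
    rw [hn, hN] at hd
    rw [hn]
    exact Nat.le_of_dvd Nat.card_pos
      ((Nat.Coprime.pow_left n (by norm_num : Nat.Coprime 2 3)).dvd_of_dvd_mul_left hd)
  -- the quotient by `Q`
  let f : (CC z) ⧸ Q →* MulAut ↥Spor.M22 := QuotientGroup.lift Q π (hker ▸ hQN)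
  have hf : Function.Surjective f := fun a => by
    obtain ⟨c, rfl⟩ := hπ a
    exact ⟨QuotientGroup.mk c, rfl⟩
  have hfker : f.ker = N.map (QuotientGroup.mk' Q) := by
    rw [QuotientGroup.ker_lift, hker]
  have hT : Nat.card f.ker = 3 := by
    have h1 := Subgroup.card_eq_card_quotient_mul_card_subgroup f.ker
    rw [Nat.card_congr (QuotientGroup.quotientKerEquivOfSurjective f hf).toEquiv,
      natCard_mulAut_sporM22] at h1
    have h2 := Subgroup.card_eq_card_quotient_mul_card_subgroup π.ker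
    rw [Nat.card_congr (QuotientGroup.quotientKerEquivOfSurjective π hπ).toEquiv,
      natCard_mulAut_sporM22, hker, hN, S.card_Q] at h2
    have h3 := Subgroup.card_eq_card_quotient_mul_card_subgroup Q
    rw [h2, h1, S.card_Q] at h3
    omega
  have hKmap : (Inn22.comap π).map (QuotientGroup.mk' Q) = covK f := by
    ext h
    obtain ⟨c, rfl⟩ := QuotientGroup.mk_surjective h
    constructor
    · rintro ⟨d, hd, e⟩
      show f (QuotientGroup.mk c) ∈ Inn22
      exact (show f (QuotientGroup.mk c) = π d from congrArg f e.symm) ▸ hd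
    · exact fun hc => ⟨c, hc, rfl⟩
  have hperfH : covK f ≤ ⁅covK f, covK f⁆ := by
    have h := Subgroup.map_mono (f := QuotientGroup.mk' Q) hperf
    rw [Subgroup.map_sup, Subgroup.map_commutator, hKmap,
      (Subgroup.map_eq_bot_iff _).mpr (by rw [QuotientGroup.ker_mk']), sup_bot_eq] at h
    exact h
  obtain ⟨F⟩ := nonempty_coverFrame hf hT hperfH
  -- an element of order 3
  obtain ⟨p0, hp0⟩ := exists_prime_orderOf_dvd_card' (G := N) 3 (by rw [hN]; exact dvd_mul_right 3 _)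
  set p : CC z := (p0 : CC z) with hpdef
  have hpo : orderOf p = 3 := (Subgroup.orderOf_coe p0).trans hp0
  have hpN : p ∈ N := p0.2
  have hpQ : p ∉ Q := fun hq => by
    have := (Subgroup.orderOf_mk (H := Q) p hq) ▸ orderOf_dvd_natCard (⟨p, hq⟩ : Q)
    rw [hpo, S.card_Q] at this
    exact absurd (Nat.prime_three.dvd_of_dvd_pow this) (by norm_num)
  have hpt : (QuotientGroup.mk p : (CC z) ⧸ Q) = F.t ∨ (QuotientGroup.mk p : (CC z) ⧸ Q) = F.t⁻¹ := by
    have hm : (QuotientGroup.mk p : (CC z) ⧸ Q) ∈ Subgroup.zpowers F.t := by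
      rw [← F.gen, hfker]; exact ⟨p, hpN, rfl⟩
    rcases three_elts F.t_order hm with e | e
    · exact absurd ((QuotientGroup.eq_one_iff p).mp e) hpQ
    · exact e
  -- fixed points
  set zC : CC z := ⟨z, Subgroup.mem_centralizer_singleton_iff.mpr rfl⟩ with hzC
  have hzcen : ∀ c : CC z, c * zC = zC * c := fun c =>
    Subtype.ext (Subgroup.mem_centralizer_singleton_iff.mp c.2)
  have hzQ : zC ∈ Q := S.selfCent (Subgroup.mem_centralizer_iff.mpr fun q _ => hzcen q)
  have hz1 : zC ≠ 1 := fun e => by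
    rw [show z = 1 from congrArg Subtype.val e, orderOf_one] at hz
    omega
  have hfix : ∀ q ∈ Q, p * q = q * p → q = 1 ∨ q = zC := by
    intro q hq hpq
    have hrp : S.rep.ρ (QuotientGroup.mk p) (pr (⟨q, hq⟩ : Q)) = pr (⟨q, hq⟩ : Q) := by
      rw [S.rep_apply]
      exact congrArg pr (Subtype.ext (by rw [cjQ_val, hpq, mul_inv_cancel_right]))
    have hrt : S.rep.ρ F.t (pr (⟨q, hq⟩ : Q)) = pr (⟨q, hq⟩ : Q) := by
      rcases hpt with e | e <;> rw [e] at hrp
      · exact hrp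
      · conv_lhs => rw [← hrp]
        rw [show S.rep.ρ F.t (S.rep.ρ F.t⁻¹ (pr (⟨q, hq⟩ : Q))) =
            (S.rep.ρ F.t * S.rep.ρ F.t⁻¹) (pr (⟨q, hq⟩ : Q)) from rfl, ← map_mul, mul_inv_cancel, map_one]
        rfl
    have hcen := S.pr_eq_zero.mp (fixed_eq_zero F hf S.rep hrt)
    by_cases h1 : q = 1
    · exact Or.inl h1
    refine Or.inr (congrArg Subtype.val (S.two_center hcen (y := ⟨zC, hzQ⟩)
      (Subgroup.mem_center_iff.mpr fun a => Subtype.ext (hzcen a)) ?_ ?_))
    · exact fun e => h1 (congrArg Subtype.val e)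
    · exact fun e => hz1 (congrArg Subtype.val e)
  -- moving into the normaliser
  have hmove : ∀ (g a : CC z), a ∈ Subgroup.zpowers p → orderOf a = 3 →
      (QuotientGroup.mk (g * p * g⁻¹) : (CC z) ⧸ Q) = QuotientGroup.mk a →
      ∃ q ∈ Q, (q * g) * p * (q * g)⁻¹ = a := by
    intro g a ha hao e
    obtain ⟨q, hq, h⟩ := exists_conj_in_Q Q N S.card_Q hQN hN
      ((inferInstance : N.Normal).conj_mem p hpN g)
      ((Subgroup.zpowers_le.mpr hpN) ha) (by rw [← MulAut.conj_apply, MulEquiv.orderOf_eq, hpo]) hao e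
    exact ⟨q, hq, by rw [← h]; group⟩
  obtain ⟨U, hU⟩ := QuotientGroup.mk_surjective F.U
  have hUp : (QuotientGroup.mk (U * p * U⁻¹) : (CC z) ⧸ Q) = QuotientGroup.mk p⁻¹ := by
    rw [QuotientGroup.mk_mul, QuotientGroup.mk_mul, QuotientGroup.mk_inv, QuotientGroup.mk_inv, hU]
    rcases hpt with e | e <;> rw [e]
    · exact F.U_inv
    · rw [← conj_inv, F.U_inv]
  obtain ⟨q, hqQ, hqU⟩ := hmove U p⁻¹ (inv_mem (Subgroup.mem_zpowers p)) (by rw [orderOf_inv, hpo]) hUp
  set w : CC z := q * U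
  set P : Subgroup G := Subgroup.zpowers (p : G) with hP
  have hpG : orderOf (p : G) = 3 := (Subgroup.orderOf_coe p).trans hpo
  have hPC : ∀ g : G, g ∈ Subgroup.centralizer (P : Set G) ↔ g * p = p * g := fun g => by
    rw [hP, Subgroup.zpowers_eq_closure, Subgroup.centralizer_closure,
      Subgroup.mem_centralizer_singleton_iff]
  have hcore : Cfsg.twoCoreOfCentralizer z = Q.map (CC z).subtype :=
    congrArg (Subgroup.map (CC z).subtype) hQQ
  refine ⟨P, hz, ?_, ?_, ?_, ⟨N.map (CC z).subtype, ?_, Subgroup.map_subtype_le _, ?_, ?_, ?_, ?_⟩,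
    ?_, ?_, ?_, ?_⟩
  · rw [hcore]
    exact LargeExtra.isExtraspecial_of_equiv
      (Subgroup.equivMapOfInjective Q (CC z).subtype (CC z).subtype_injective) S.extra
  · rw [hcore, Subgroup.card_map_of_injective (CC z).subtype_injective]; exact S.card_Q
  · rintro c ⟨hc1, hc2⟩
    rw [hcore] at hc2 ⊢
    refine ⟨⟨c, hc1⟩, S.selfCent (Subgroup.mem_centralizer_iff.mpr fun a ha => Subtype.ext ?_), rfl⟩
    exact Subgroup.mem_centralizer_iff.mp hc2 _ ⟨a, ha, rfl⟩
  · rw [hcore]; exact Subgroup.map_mono hQN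
  · intro c hc
    rw [Subgroup.mem_normalizer_iff]
    intro a
    constructor
    · rintro ⟨b, hb, rfl⟩
      exact ⟨⟨c, hc⟩ * b * ⟨c, hc⟩⁻¹, (inferInstance : N.Normal).conj_mem b hb _, rfl⟩
    · rintro ⟨b, hb, e⟩
      refine ⟨⟨c, hc⟩⁻¹ * b * ⟨c, hc⟩⁻¹⁻¹, (inferInstance : N.Normal).conj_mem b hb _, ?_⟩
      show c⁻¹ * (b : G) * c⁻¹⁻¹ = a
      rw [show (b : G) = c * a * c⁻¹ from e]
      group
  · rw [hcore, Subgroup.card_map_of_injective (CC z).subtype_injective,
      Subgroup.card_map_of_injective (CC z).subtype_injective]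
    exact hN
  · have e : (N.map (CC z).subtype).subgroupOf (CC z) = N :=
      Subgroup.comap_map_eq_self_of_injective (CC z).subtype_injective N
    haveI hn : ((N.map (CC z).subtype).subgroupOf (CC z)).Normal := by rw [e]; infer_instance
    exact ⟨hn, ⟨((QuotientGroup.quotientMulEquivOfEq e).trans
      (QuotientGroup.quotientMulEquivOfEq hker.symm)).trans
      (QuotientGroup.quotientKerEquivOfSurjective π hπ)⟩⟩
  · exact Subgroup.zpowers_le.mpr ⟨p, hpN, rfl⟩
  · rw [Nat.card_zpowers, hpG]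
  · ext g
    constructor
    · rintro ⟨hg1, hg2⟩
      rw [hcore] at hg1
      obtain ⟨a, ha, rfl⟩ := hg1
      have hcom := (hPC _).mp hg2
      rcases hfix a ha (Subtype.ext hcom.symm) with e | e
      · rw [e]; exact one_mem _
      · rw [e]; exact Subgroup.mem_zpowers z
    · intro hg
      have hz' : z ∈ Cfsg.twoCoreOfCentralizer z ⊓ Subgroup.centralizer (P : Set G) :=
        ⟨hcore ▸ ⟨zC, hzQ, rfl⟩, (hPC z).mpr (congrArg Subtype.val (hzcen p)).symm⟩
      exact Subgroup.zpowers_le.mpr hz' hg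
  · intro heq
    have hw : (w : G) ∈ Subgroup.centralizer ({z} : Set G) ⊓ Subgroup.normalizer (P : Set G) := by
      refine ⟨w.2, ?_⟩
      have hval : MulAut.conj (w : G) (p : G) = (p : G)⁻¹ := congrArg Subtype.val hqU
      refine Subgroup.mem_normalizer_iff_map_conj_eq.mpr ?_
      show (Subgroup.zpowers (p : G)).map (MulAut.conj (w : G)).toMonoidHom = _
      rw [MonoidHom.map_zpowers]
      show Subgroup.zpowers (MulAut.conj (w : G) (p : G)) = _
      rw [hval, Subgroup.zpowers_inv]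
    rw [heq] at hw
    have h1 := (hPC _).mp hw.2
    have h2 : (w : G) * p * (w : G)⁻¹ = (p : G)⁻¹ := congrArg Subtype.val hqU
    rw [h1, mul_inv_cancel_right, eq_inv_iff_mul_eq_one, ← sq] at h2
    have := orderOf_dvd_of_pow_eq_one h2
    rw [hpG] at this
    norm_num at this
  · set K := Inn22.comap π with hK
    set D : Subgroup (CC z) := K ⊓ Subgroup.centralizer ({p} : Set (CC z)) with hD
    have hNK : N ≤ K := fun a ha => by
      show π a ∈ Inn22
      rw [MonoidHom.mem_ker.mp (hker.symm ▸ ha : a ∈ π.ker)]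
      exact one_mem _
    have hKD : K.map (QuotientGroup.mk' Q) = D.map (QuotientGroup.mk' Q) := by
      refine le_antisymm ?_ (Subgroup.map_mono inf_le_left)
      rintro _ ⟨k, hk, rfl⟩
      have hc : (QuotientGroup.mk (k * p * k⁻¹) : (CC z) ⧸ Q) = QuotientGroup.mk p := by
        have hk' : Commute (QuotientGroup.mk k : (CC z) ⧸ Q) F.t :=
          F.comm_K _ (hKmap ▸ ⟨k, hk, rfl⟩)
        have hk'' : Commute (QuotientGroup.mk k : (CC z) ⧸ Q) (QuotientGroup.mk p) := by
          rcases hpt with e | e <;> rw [e]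
          exacts [hk', hk'.inv_right]
        rw [QuotientGroup.mk_mul, QuotientGroup.mk_mul, QuotientGroup.mk_inv, hk''.eq,
          mul_inv_cancel_right]
      obtain ⟨q', hq', e⟩ := hmove k p (Subgroup.mem_zpowers p) hpo hc
      refine ⟨q' * k, ⟨mul_mem (hNK (hQN hq')) hk, ?_⟩, ?_⟩
      · exact Subgroup.mem_centralizer_singleton_iff.mpr (mul_inv_eq_iff_eq_mul.mp e)
      · show (QuotientGroup.mk (q' * k) : (CC z) ⧸ Q) = QuotientGroup.mk k
        rw [QuotientGroup.mk_mul, (QuotientGroup.eq_one_iff q').mpr hq', one_mul]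
    have hp' : QuotientGroup.mk' Q p ∈ ⁅D, D⁆.map (QuotientGroup.mk' Q) := by
      rw [Subgroup.map_commutator, ← hKD, hKmap]
      exact hperfH (hKmap ▸ ⟨p, hNK hpN, rfl⟩)
    obtain ⟨d, hd, hde⟩ := hp'
    have hdD : d ∈ D := Subgroup.commutator_le_self D hd
    have hdc : d * p = p * d := Subgroup.mem_centralizer_singleton_iff.mp hdD.2
    have hqd : d⁻¹ * p ∈ Q := QuotientGroup.eq.mp hde
    have hcq : p * (d⁻¹ * p) = (d⁻¹ * p) * p := by
      rw [← mul_assoc, ((show Commute d p from hdc).inv_left).symm.eq]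
    have hd4 : p = d ^ 4 := by
      have h4 : (d⁻¹ * p) ^ 4 = 1 := by
        rcases hfix _ hqd hcq with e | e
        · rw [e, one_pow]
        · rw [e]
          refine Subtype.ext ?_
          show z ^ 4 = 1
          rw [show 4 = 2 * 2 from rfl, pow_mul, ← hz, pow_orderOf_eq_one, one_pow]
      rw [((show Commute d p from hdc).inv_left).mul_pow, inv_pow, inv_mul_eq_one] at h4
      have h3 := pow_orderOf_eq_one p
      rw [hpo] at h3
      rw [h4, pow_succ, h3, one_mul]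
    refine Subgroup.zpowers_le.mpr ?_
    have hmem : ((d ^ 4 : CC z) : G) ∈ ⁅D, D⁆.map (CC z).subtype := ⟨d ^ 4, pow_mem hd 4, rfl⟩
    rw [← hd4, Subgroup.map_commutator] at hmem
    have hle : D.map (CC z).subtype ≤
        Subgroup.centralizer ({z} : Set G) ⊓ Subgroup.centralizer (P : Set G) := by
      rintro _ ⟨a, ha, rfl⟩
      exact ⟨a.2, (hPC _).mpr (congrArg Subtype.val (Subgroup.mem_centralizer_singleton_iff.mp ha.2))⟩
    exact Subgroup.commutator_mono hle hle hmem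

end CfsgLib.J4Type.Sym.Bridge
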