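import Cfsg.Agent.Lib.J4Type.Sym.Interface
import Cfsg.Agent.Lib.J4Type.Interface
import Cfsg.Agent.Lib.J4Type.VSigns

/-!
The model data for the rules: the codes of the subgroup of order `2^11` labelled by pairs of the 24 points,
and what is needed about the stabiliser of `z` on the codes.
-/
set_option autoImplicit false
set_option maxRecDepth 20000

namespace CfsgLib.J4Type.Sym

open Cfsg
open CfsgLib.J4DCE (pk pget)

/-- the code of a pair of points -/
def labRows : List (List ℕ) :=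
  [[0, 888, 1178, 443, 892, 170, 880, 446, 433, 820, 1155, 147, 24, 1197, 1707, 141, 1681, 116, 1780, 500, 244, 1268, 1678, 44],
   [888, 0, 2018, 707, 4, 978, 8, 710, 713, 76, 2043, 1003, 864, 2005, 1491, 1013, 1513, 780, 1420, 652, 908, 1932, 1526, 852],
   [1178, 2018, 0, 1313, 2022, 1072, 2026, 1316, 1323, 1966, 25, 1033, 1154, 55, 561, 1047, 523, 1262, 622, 1390, 1134, 110, 532, 1206],
   [443, 707, 1313, 0, 711, 273, 715, 5, 10, 655, 1336, 296, 419, 1302, 1808, 310, 1834, 463, 1871, 79, 335, 1359, 1845, 407],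
   [892, 4, 2022, 711, 0, 982, 12, 706, 717, 72, 2047, 1007, 868, 2001, 1495, 1009, 1517, 776, 1416, 648, 904, 1928, 1522, 848],
   [170, 978, 1072, 273, 982, 0, 986, 276, 283, 926, 1065, 57, 178, 1031, 1537, 39, 1595, 222, 1630, 350, 94, 1118, 1572, 134],
   [880, 8, 2026, 715, 12, 986, 0, 718, 705, 68, 2035, 995, 872, 2013, 1499, 1021, 1505, 772, 1412, 644, 900, 1924, 1534, 860],
   [446, 710, 1316, 5, 706, 276, 718, 0, 15, 650, 1341, 301, 422, 1299, 1813, 307, 1839, 458, 1866, 74, 330, 1354, 1840, 402],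
   [433, 713, 1323, 10, 717, 283, 705, 15, 0, 645, 1330, 290, 425, 1308, 1818, 316, 1824, 453, 1861, 69, 325, 1349, 1855, 413],
   [820, 76, 1966, 655, 72, 926, 68, 650, 645, 0, 1975, 935, 812, 1945, 1439, 953, 1445, 832, 1472, 704, 960, 1984, 1466, 792],
   [1155, 2043, 25, 1336, 2047, 1065, 2035, 1341, 1330, 1975, 0, 1040, 1179, 46, 552, 1038, 530, 1271, 631, 1399, 1143, 119, 525, 1199],
   [147, 1003, 1033, 296, 1007, 57, 995, 301, 290, 935, 1040, 0, 139, 1086, 1592, 30, 1538, 231, 1639, 359, 103, 1127, 1565, 191],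
   [24, 864, 1154, 419, 868, 178, 872, 422, 425, 812, 1179, 139, 0, 1205, 1715, 149, 1673, 108, 1772, 492, 236, 1260, 1686, 52],
   [1197, 2005, 55, 1302, 2001, 1031, 2013, 1299, 1308, 1945, 46, 1086, 1205, 0, 518, 1056, 572, 1241, 601, 1369, 1113, 89, 547, 1153],
   [1707, 1491, 561, 1808, 1495, 1537, 1499, 1813, 1818, 1439, 552, 1592, 1715, 518, 0, 1574, 58, 1759, 95, 1887, 1631, 607, 37, 1671],
   [141, 1013, 1047, 310, 1009, 39, 1021, 307, 316, 953, 1038, 30, 149, 1056, 1574, 0, 1564, 249, 1657, 377, 121, 1145, 1539, 161],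
   [1681, 1513, 523, 1834, 1517, 1595, 1505, 1839, 1824, 1445, 530, 1538, 1673, 572, 58, 1564, 0, 1765, 101, 1893, 1637, 613, 31, 1725],
   [116, 780, 1262, 463, 776, 222, 772, 458, 453, 832, 1271, 231, 108, 1241, 1759, 249, 1765, 0, 1664, 384, 128, 1152, 1786, 88],
   [1780, 1420, 622, 1871, 1416, 1630, 1412, 1866, 1861, 1472, 631, 1639, 1772, 601, 95, 1657, 101, 1664, 0, 1792, 1536, 512, 122, 1752],
   [500, 652, 1390, 79, 648, 350, 644, 74, 69, 704, 1399, 359, 492, 1369, 1887, 377, 1893, 384, 1792, 0, 256, 1280, 1914, 472],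
   [244, 908, 1134, 335, 904, 94, 900, 330, 325, 960, 1143, 103, 236, 1113, 1631, 121, 1637, 128, 1536, 256, 0, 1024, 1658, 216],
   [1268, 1932, 110, 1359, 1928, 1118, 1924, 1354, 1349, 1984, 119, 1127, 1260, 89, 607, 1145, 613, 1152, 512, 1280, 1024, 0, 634, 1240],
   [1678, 1526, 532, 1845, 1522, 1572, 1534, 1840, 1855, 1466, 525, 1565, 1686, 547, 37, 1539, 31, 1786, 122, 1914, 1658, 634, 0, 1698],
   [44, 852, 1206, 407, 848, 134, 860, 402, 413, 792, 1199, 191, 52, 1153, 1671, 161, 1725, 88, 1752, 472, 216, 1240, 1698, 0]]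

/-- the code of a pair of points -/
def lab (i j : ℕ) : ℕ := (labRows.getD i []).getD j 0

/-- the columns of the first lift on the codes -/
def colsVA : List ℕ := VCode.liftCols colsA arPat 0
/-- the columns of the second lift on the codes -/
def colsVC : List ℕ := VCode.liftCols colsC crPat 2
/-- the columns of the lift of `t` on the codes -/
def colsVP : List ℕ := VCode.liftCols colsT [1, 2, 4, 8] 0

/-- the packed permutation of the first lift -/
def piA : ℕ := 0x3b6548d66a78ac35c120b98a463828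
/-- the packed permutation of the second lift -/
def piC : ℕ := 0x282554c68c55dcb15a66221a70c06f
/-- the packed permutation of the lift of `t` -/
def piP : ℕ := 0x42b49ca2e5d95728923405e63b48c
/-- the code of the vector swapped to the involution of `T0` -/
def vT : ℕ := 768

universe u

variable {G : Type u} [Group G]

/-- Coordinates on the subgroup of order `2^11`. -/
structure Coords (z : G) (A : Subgroup G) where
  enc : ℕ → G
  enc_mem : ∀ v, v < 2048 → enc v ∈ A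
  enc_inj : ∀ v w, v < 2048 → w < 2048 → enc v = enc w → v = w
  enc_surj : ∀ a ∈ A, ∃ v, v < 2048 ∧ enc v = a
  enc_xor : ∀ v w, v < 2048 → w < 2048 → enc (Nat.xor v w) = enc v * enc w
  enc_z : enc 64 = z
  nc : ∀ v, v < 2048 → (VCode.isNc 2 true v = true ↔ v ≠ 0 ∧ ¬ IsConj z (enc v))
  self_cent : Subgroup.centralizer (A : Set G) ≤ A
  card_norm : Nat.card ↥(Subgroup.normalizer (A : Set G)) = 2048 * 244823040

/-- An element acts on the pairs as the permutation `σ`. -/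
def ActsAs {z : G} {A : Subgroup G} (C : Coords z A) (n : G) (σ : M24) : Prop :=
  ∀ i j, i < 24 → j < 24 → n * C.enc (lab i j) * n⁻¹ = C.enc (lab (pget (pk σ.1) i) (pget (pk σ.1) j))

/-- The stabiliser of `z` on the coordinates, with the element `g` exchanging two such subgroups. -/
structure Env (z : G) (A : Subgroup G) extends Coords z A where
  /-- the largest normal 2-subgroup of the centraliser of `z` -/
  Q : Subgroup G
  /-- the code of an element of `Q` -/
  code : G → ℕ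
  Q_cent : ∀ y ∈ Q, y * z = z * y
  Q_norm : ∀ x : G, x * z = z * x → ∀ y ∈ Q, x * y * x⁻¹ ∈ Q
  code_lt : ∀ y ∈ Q, code y < 4096
  code_mul : ∀ y ∈ Q, ∀ y' ∈ Q, code (y * y') = Nat.xor (code y) (code y')
  code_zero : ∀ y ∈ Q, code y = 0 → y = 1 ∨ y = z
  low_mem : ∀ v, v < 128 → enc v ∈ Q
  code_low : ∀ v, v < 128 → code (enc v) = v % 64
  Q_comm : ∀ y ∈ Q, ∀ y' ∈ Q, y⁻¹ * y'⁻¹ * y * y' = 1 ∨ y⁻¹ * y'⁻¹ * y * y' = z
  a : G
  c : G
  p : G
  g : G
  a_cent : a * z = z * a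
  c_cent : c * z = z * c
  g_cent : g * z = z * g
  p_cube : p ^ 3 = 1
  p_ne : p ≠ 1
  a_p : a * p = p * a
  c_p : c * p = p * c
  g_p : g * p = p * g
  conj_a : ∀ v, v < 2048 → a * enc v * a⁻¹ = enc (app colsVA v)
  conj_c : ∀ v, v < 2048 → c * enc v * c⁻¹ = enc (app colsVC v)
  conj_p : ∀ v, v < 2048 → p * enc v * p⁻¹ = enc (app colsVP v)
  conj_Q : ∀ y ∈ Q, ∀ v, v < 2048 → y * enc v * y⁻¹ = enc (app (VCode.qCols (code y)) v)
  g_Q : ∀ y ∈ Q, g * y * g⁻¹ ∈ Q ∧ code (g * y * g⁻¹) = app colsG (code y)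
  /-- `z` and `p` with everything centralising `p` modulo `z` -/
  p_cent : ∀ x : G, x * p = p * x → x * z = z * x
  p_norm : ∀ x : G, (x * p * x⁻¹ = p ∨ x * p * x⁻¹ = p⁻¹) → x * z = z * x
  g_a : ∃ k : ℕ, g * a * g⁻¹ = p ^ k * evW a c wGA ∨ g * a * g⁻¹ = z * (p ^ k * evW a c wGA)
  g_c : ∃ k : ℕ, g * c * g⁻¹ = p ^ k * evW a c wGC ∨ g * c * g⁻¹ = z * (p ^ k * evW a c wGC)
  g_g : ∃ k : ℕ, g * g = p ^ k * evW a c wGG ∨ g * g = z * (p ^ k * evW a c wGG)
  rel_a : a * a = 1 ∨ a * a = z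
  rel_c : c ^ 4 = 1 ∨ c ^ 4 = z
  rel_ac : ∃ k : ℕ, (a * c) ^ 5 * p ^ k = 1 ∨ (a * c) ^ 5 * p ^ k = z
  rel_acc : ∃ k : ℕ, (a * (c * c)) ^ 5 * p ^ k = 1 ∨ (a * (c * c)) ^ 5 * p ^ k = z
  /-- an element of the centraliser of `z` inverting or centralising `p` modulo `Q` -/
  p_comm_Q : ∀ x : G, x * z = z * x → (x * p * x⁻¹ * p⁻¹) * (x * p * x⁻¹ * p⁻¹) = 1 →
    x * p * x⁻¹ * p⁻¹ ∈ Q

end CfsgLib.J4Type.Sym
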