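import Cfsg.Agent.Lib.J4Type.Basis
import Cfsg.Agent.Lib.J4Type.Sym.Model

/-!
Choice of the complement of the subgroup of order `2^11` in its normaliser: an embedding of the group of
the code on 24 points sending three named permutations to the chosen lifts, up to the central involution.
-/

set_option autoImplicit false
set_option maxRecDepth 20000

namespace CfsgLib.J4Type.Sym

open Cfsg
open CfsgLib.J4DCE (pk pget pid pmul okPerm exists_of_okPerm pmul_coe pget_pk imgF imgF_lt imgF_mul pk_injective)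

attribute [local irreducible] CfsgLib.J4DCE.enc

namespace Compl

/-- the rows of the first point giving the unit codes -/
def unitIdx : List (List ℕ) :=
  [[1, 3, 4, 7], [1, 3, 6, 8], [1, 4], [1, 6], [2, 3, 4, 6, 7, 10], [2, 5, 10, 11], [1, 4, 6, 9],
    [2, 3, 8, 10, 11], [1, 2, 3, 5, 6, 10], [2, 7, 9, 10, 11], [2, 3, 4, 6, 7, 11]]

/-- the exclusive or of codes of pairs at the first point -/
def rowSum : List ℕ → ℕ
  | [] => 0
  | k :: l => Nat.xor (lab 0 k) (rowSum l)

theorem units_ok : ((List.range 11).all fun j =>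
    Nat.beq (rowSum (unitIdx.getD j [])) (2 ^ j) && (unitIdx.getD j []).all fun k => Nat.blt k 24) = true := by
  decide +kernel

theorem lab_lt_ok : ((List.range 24).all fun i => (List.range 24).all fun j => Nat.blt (lab i j) 2048) = true := by
  decide +kernel

theorem lab_tri_ok : ((List.range 24).all fun i => (List.range 24).all fun j => (List.range 24).all fun k =>
    Nat.beq (Nat.xor (lab i j) (lab j k)) (lab i k)) = true := by
  decide +kernel

/-- the columns act on the pairs as the packed permutation -/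
noncomputable def actsOK (cols : List ℕ) (code : ℕ) : Bool :=
  (List.range 24).all fun i => (List.range 24).all fun j =>
    Nat.beq (app cols (lab i j)) (lab (pget code i) (pget code j))

theorem actsA : actsOK colsVA piA = true := by decide +kernel
theorem actsC : actsOK colsVC piC = true := by decide +kernel
theorem actsP : actsOK colsVP piP = true := by decide +kernel

theorem colsV_lt : ((colsVA ++ colsVC ++ colsVP).all fun c => Nat.blt c 2048) = true := by decide +kernel

/-- the fixed codes of the third lift -/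
theorem fixP : ((List.range 2048).all fun v =>
    !(Nat.beq (app colsVP v) v) || Nat.beq (v % 64) 0) = true := by
  decide +kernel

theorem fixP_low : ((List.range 16).all fun V => Nat.beq (app colsVP (128 * V)) (128 * V)) = true := by
  decide +kernel

/-- zero or the code of `z` -/
def small (v : ℕ) : Bool := Nat.beq v 0 || Nat.beq v 64

/-- the translation part of a power -/
def geo (w : ℕ) (M : ℕ → ℕ) : ℕ → ℕ
  | 0 => 0
  | k + 1 => Nat.xor w (M (geo w M k))

/-- the relations between the two lifts on the translations -/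
def condOK (n m : ℕ) : Bool :=
  small (geo n (app colsVA) 2) && small (geo m (app colsVC) 4) &&
    small (geo (Nat.xor n (app colsVA m)) (fun v => app colsVA (app colsVC v)) 5) &&
      small (geo (Nat.xor n (app colsVA (Nat.xor m (app colsVC m))))
        (fun v => app colsVA (app colsVC (app colsVC v))) 5)

/-- the point fixed by the third lift -/
def p0 : ℕ := 9

/-- the translations of one lift can be removed -/
def goodAt (cols : List ℕ) (img n V : ℕ) (l : Bool) : Bool :=
  small (Nat.xor (Nat.xor (128 * V) (Nat.xor (if l then lab p0 img else 0) n)) (app cols (128 * V)))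

theorem cert : ((List.range 32).all fun n => (List.range 32).all fun m => !(condOK (64 * n) (64 * m)) ||
    (List.range 16).any fun V => [false, true].any fun l =>
      goodAt colsVA (pget piA p0) (64 * n) V l && goodAt colsVC (pget piC p0) (64 * m) V l) = true := by
  decide +kernel

theorem piP_fix : pget piP p0 = p0 := by decide +kernel

theorem exists_piA : ∃ σ : M24, pk σ.1 = piA ∧ pk (σ⁻¹ : M24).1 = piA :=
  exists_of_okPerm (by decide +kernel)

theorem exists_piC : ∃ σ : M24, pk σ.1 = piC ∧ pk (σ⁻¹ : M24).1 = 0x72a914d642034b063e66222e70ac76 :=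
  exists_of_okPerm (by decide +kernel)

theorem exists_piP : ∃ σ : M24, pk σ.1 = piP ∧ pk (σ⁻¹ : M24).1 = 0x63ab49ca362c0407b52719161428d7 :=
  exists_of_okPerm (by decide +kernel)

theorem eq_of_code {x y : M24} (h : pk x.1 = pk y.1) : x = y := Subtype.ext (pk_injective h)

theorem perm_rels {σA σC σP : M24} (hA : pk σA.1 = piA) (hC : pk σC.1 = piC) (hP : pk σP.1 = piP) :
    σA * σA = 1 ∧ σC ^ 4 = 1 ∧ (∃ j : ℕ, (σA * σC) ^ 5 = σP ^ j) ∧
      (∃ j : ℕ, (σA * (σC * σC)) ^ 5 = σP ^ j) ∧ σA * σP = σP * σA ∧ σC * σP = σP * σC := by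
  have pick : ∀ x : M24, (Nat.beq (pk x.1) pid || Nat.beq (pk x.1) piP ||
      Nat.beq (pk x.1) (pmul piP piP)) = true → ∃ j : ℕ, x = σP ^ j := fun x h => by
    simp only [Bool.or_eq_true] at h
    rcases h with (h | h) | h
    · exact ⟨0, eq_of_code (by rw [pow_zero, Nat.eq_of_beq_eq_true h, CfsgLib.J4DCE.pid_coe])⟩
    · exact ⟨1, eq_of_code (by rw [pow_one, Nat.eq_of_beq_eq_true h, hP])⟩
    · exact ⟨2, eq_of_code (by rw [pow_two, Nat.eq_of_beq_eq_true h, ← hP, pmul_coe])⟩
  refine ⟨?_, ?_, pick _ ?_, pick _ ?_, ?_, ?_⟩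
  · apply eq_of_code; rw [← pmul_coe, hA, ← CfsgLib.J4DCE.pid_coe]; decide +kernel
  · apply eq_of_code
    simp only [pow_succ, pow_zero, one_mul, ← pmul_coe, hC]
    rw [← CfsgLib.J4DCE.pid_coe]; decide +kernel
  · simp only [pow_succ, pow_zero, one_mul, ← pmul_coe, hA, hC]; decide +kernel
  · simp only [pow_succ, pow_zero, one_mul, ← pmul_coe, hA, hC]; decide +kernel
  · apply eq_of_code; rw [← pmul_coe, ← pmul_coe, hA, hP]; decide +kernel
  · apply eq_of_code; rw [← pmul_coe, ← pmul_coe, hC, hP]; decide +kernel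

theorem lab_lt {i j : ℕ} (hi : i < 24) (hj : j < 24) : lab i j < 2048 :=
  Nat.blt_eq.mp (List.all_eq_true.1 (List.all_eq_true.1 lab_lt_ok i (List.mem_range.2 hi)) j (List.mem_range.2 hj))

theorem lab_tri {i j k : ℕ} (hi : i < 24) (hj : j < 24) (hk : k < 24) :
    Nat.xor (lab i j) (lab j k) = lab i k :=
  Nat.eq_of_beq_eq_true (List.all_eq_true.1 (List.all_eq_true.1 (List.all_eq_true.1 lab_tri_ok i
    (List.mem_range.2 hi)) j (List.mem_range.2 hj)) k (List.mem_range.2 hk))

theorem lab_self {i : ℕ} (hi : i < 24) : lab i i = 0 := by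
  rw [← lab_tri hi hi hi]; exact Nat.xor_self _

theorem pget_lt (σ : M24) {i : ℕ} (hi : i < 24) : pget (pk σ.1) i < 24 := by
  rw [pget_pk _ hi]; exact imgF_lt _ _

theorem pget_mul (a b : M24) {i : ℕ} (hi : i < 24) :
    pget (pk (a * b : M24).1) i = pget (pk a.1) (pget (pk b.1) i) := by
  rw [pget_pk _ hi, pget_pk _ hi, pget_pk _ (imgF_lt _ _), imgF_mul _ _ hi]
  rfl

theorem xor_lt {a b : ℕ} (ha : a < 2048) (hb : b < 2048) : Nat.xor a b < 2048 :=
  Nat.xor_lt_two_pow (n := 11) ha hb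

theorem colsV_app_lt {cols : List ℕ} (h : cols = colsVA ∨ cols = colsVC ∨ cols = colsVP) (v : ℕ) :
    app cols v < 2048 := by
  refine app_lt (k := 11) cols v fun c hc => ?_
  refine Nat.blt_eq.mp (List.all_eq_true.1 colsV_lt c ?_)
  rcases h with rfl | rfl | rfl <;> simp [hc]

theorem xor_assoc' (a b c : ℕ) : Nat.xor (Nat.xor a b) c = Nat.xor a (Nat.xor b c) := Nat.xor_assoc a b c

theorem small_iff {v : ℕ} : small v = true ↔ v = 0 ∨ v = 64 := by
  simp [small, Bool.or_eq_true, Nat.beq_eq]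

end Compl

open Compl

universe u

variable {G : Type u} [Group G] {z : G} {A : Subgroup G}

/-- The element acts on the codes by the map. -/
def TrOn (C : Coords z A) (g : G) (M : ℕ → ℕ) : Prop :=
  (∀ v, v < 2048 → M v < 2048) ∧ ∀ v, v < 2048 → g * C.enc v * g⁻¹ = C.enc (M v)

namespace Coords

variable (C : Coords z A)

include C

theorem enc_zero' : C.enc 0 = 1 := by
  have h := C.enc_xor 0 0 (by norm_num) (by norm_num)
  rw [show Nat.xor 0 0 = 0 from rfl] at h
  exact mul_eq_right.1 h.symm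

theorem enc_sq' {v : ℕ} (hv : v < 2048) : C.enc v * C.enc v = 1 := by
  rw [← C.enc_xor v v hv hv, show Nat.xor v v = 0 from Nat.xor_self v, C.enc_zero']

theorem enc_inv' {v : ℕ} (hv : v < 2048) : (C.enc v)⁻¹ = C.enc v :=
  inv_eq_of_mul_eq_one_right (C.enc_sq' hv)

theorem enc_comm' {v w : ℕ} (hv : v < 2048) (hw : w < 2048) : C.enc v * C.enc w = C.enc w * C.enc v := by
  rw [← C.enc_xor v w hv hw, ← C.enc_xor w v hw hv]
  congr 1; exact Nat.xor_comm v w

theorem sq_of_mem {x : G} (hx : x ∈ A) : x * x = 1 := by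
  obtain ⟨v, hv, rfl⟩ := C.enc_surj x hx
  exact C.enc_sq' hv

theorem small_of_enc {v : ℕ} (hv : v < 2048) (h : C.enc v = 1 ∨ C.enc v = z) : small v = true := by
  refine small_iff.2 (h.imp (fun h => C.enc_inj v 0 hv (by norm_num) (h.trans C.enc_zero'.symm))
    fun h => C.enc_inj v 64 hv (by norm_num) (h.trans C.enc_z.symm))

theorem z_sq : z * z = 1 := by rw [← C.enc_z]; exact C.enc_sq' (by norm_num)

theorem mem_normalizer_of_tr {g : G} {M : ℕ → ℕ} (h : TrOn C g M) :
    g ∈ Subgroup.normalizer (A : Set G) := by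
  classical
  have hfin : (A : Set G).Finite := by
    refine ((Finset.range 2048).image C.enc).finite_toSet.subset fun a ha => ?_
    obtain ⟨v, hv, rfl⟩ := C.enc_surj a ha
    simpa using ⟨v, hv, rfl⟩
  rw [Subgroup.mem_normalizer_iff_conj_image_eq]
  refine Set.eq_of_subset_of_ncard_le ?_ ?_ hfin
  · rintro _ ⟨a, ha, rfl⟩
    obtain ⟨v, hv, rfl⟩ := C.enc_surj a ha
    rw [MulAut.conj_apply, h.2 v hv]
    exact C.enc_mem _ (h.1 v hv)
  · rw [Set.ncard_image_of_injective _ (MulAut.conj g).injective]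

theorem eq_one_of_pow_mem {p : G} (hp : p ^ 3 = 1) {i : ℕ} (h : p ^ i ∈ A) : p ^ i = 1 := by
  have h3 : (p ^ i) ^ 3 = 1 := by rw [← pow_mul, mul_comm, pow_mul, hp, one_pow]
  rw [pow_succ, pow_two, C.sq_of_mem h, one_mul] at h3
  exact h3

theorem small_of_rel {p : G} (hp : p ^ 3 = 1) {g : G} {w j k : ℕ} (hw : w < 2048)
    (h : C.enc w * g = p ^ j) (hg : g * p ^ k = 1 ∨ g * p ^ k = z) : small w = true := by
  have e : C.enc w * (g * p ^ k) = p ^ (j + k) := by rw [← mul_assoc, h, pow_add]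
  have hmem : g * p ^ k ∈ A := by
    rcases hg with hg | hg <;> rw [hg]
    · exact A.one_mem
    · rw [← C.enc_z]; exact C.enc_mem _ (by norm_num)
  have h1 : p ^ (j + k) = 1 := C.eq_one_of_pow_mem hp (e ▸ A.mul_mem (C.enc_mem w hw) hmem)
  rw [h1] at e
  refine C.small_of_enc hw (hg.imp (fun hg => ?_) fun hg => ?_)
  · rwa [hg, mul_one] at e
  · rw [hg] at e; rw [eq_inv_of_mul_eq_one_left e, inv_eq_of_mul_eq_one_right C.z_sq]

end Coords

section TrLemmas

variable (C : Coords z A)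

theorem TrOn.mul {g h : G} {M M' : ℕ → ℕ} (hg : TrOn C g M) (hh : TrOn C h M') :
    TrOn C (g * h) (fun v => M (M' v)) := by
  refine ⟨fun v hv => hg.1 _ (hh.1 v hv), fun v hv => ?_⟩
  rw [← hg.2 _ (hh.1 v hv), ← hh.2 v hv]
  group

theorem TrOn.step {g : G} {M : ℕ → ℕ} (hg : TrOn C g M) {n m : ℕ} (hn : n < 2048) (hm : m < 2048) (h : G) :
    C.enc n * g * (C.enc m * h) = C.enc (Nat.xor n (M m)) * (g * h) := by
  rw [C.enc_xor n _ hn (hg.1 m hm), ← hg.2 m hm]
  group

theorem TrOn.geo_lt {g : G} {M : ℕ → ℕ} (hg : TrOn C g M) {w : ℕ} (hw : w < 2048) :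
    ∀ k, geo w M k < 2048
  | 0 => by norm_num [geo]
  | k + 1 => xor_lt hw (hg.1 _ (TrOn.geo_lt hg hw k))

theorem TrOn.pow_step {g : G} {M : ℕ → ℕ} (hg : TrOn C g M) {w : ℕ} (hw : w < 2048) :
    ∀ k, (C.enc w * g) ^ k = C.enc (geo w M k) * g ^ k
  | 0 => by simp [geo, C.enc_zero']
  | k + 1 => by
    rw [pow_succ', TrOn.pow_step hg hw k, TrOn.step C hg hw (TrOn.geo_lt C hg hw k), ← pow_succ']
    rfl

end TrLemmas

/-- An involution conjugating `p * y` to `p` when the cube of `p * y` is trivial. -/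
theorem conj_cube_witness {p y : G} (hp : p ^ 3 = 1) (hy : y * y = 1) (h : (p * y) ^ 3 = 1) :
    (p⁻¹ * y * p) * (p * y) * (p⁻¹ * y * p) = p := by
  have hp2 : p * p = p⁻¹ := eq_inv_of_mul_eq_one_left (by rw [← pow_two, ← pow_succ, hp])
  have h' : y * p⁻¹ * y * p⁻¹ * y * p⁻¹ = 1 := by
    rw [← inv_one (G := G), ← h, pow_succ, pow_two]
    simp only [mul_inv_rev, inv_eq_of_mul_eq_one_right hy, mul_assoc]
  calc p⁻¹ * y * p * (p * y) * (p⁻¹ * y * p) = p⁻¹ * (y * (p * p) * y * p⁻¹ * y) * p := by group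
    _ = p⁻¹ * (y * p⁻¹ * y * p⁻¹ * y * p⁻¹) * p * p := by rw [hp2]; group
    _ = p := by rw [h', mul_one, inv_mul_cancel, one_mul]

/-- A homomorphism into the normaliser inducing the given permutations on the pairs. -/
def GoodHom (C : Coords z A) (emb : M24 →* G) : Prop :=
  ∀ σ : M24, emb σ ∈ Subgroup.normalizer (A : Set G) ∧ ActsAs C (emb σ) σ

theorem GoodHom.conj {C : Coords z A} {emb : M24 →* G} (h : GoodHom C emb) {v : ℕ} (hv : v < 2048) :
    GoodHom C ((MulAut.conj (C.enc v)).toMonoidHom.comp emb) := by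
  intro σ
  refine ⟨?_, fun i j hi hj => ?_⟩
  · show C.enc v * emb σ * (C.enc v)⁻¹ ∈ _
    have hm : C.enc v ∈ Subgroup.normalizer (A : Set G) := Subgroup.le_normalizer (C.enc_mem v hv)
    exact mul_mem (mul_mem hm (h σ).1) (inv_mem hm)
  · show C.enc v * emb σ * (C.enc v)⁻¹ * _ * (C.enc v * emb σ * (C.enc v)⁻¹)⁻¹ = _
    have hl := lab_lt hi hj
    have hl' := lab_lt (pget_lt σ hi) (pget_lt σ hj)
    calc C.enc v * emb σ * (C.enc v)⁻¹ * C.enc (lab i j) * (C.enc v * emb σ * (C.enc v)⁻¹)⁻¹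
        = C.enc v * emb σ * ((C.enc v)⁻¹ * (C.enc (lab i j) * C.enc v)) * (emb σ)⁻¹ * (C.enc v)⁻¹ := by
          group
      _ = C.enc v * (emb σ * C.enc (lab i j) * (emb σ)⁻¹) * (C.enc v)⁻¹ := by
          rw [C.enc_comm' hl hv, inv_mul_cancel_left]; group
      _ = _ := by rw [(h σ).2 i j hi hj, C.enc_comm' hv hl', mul_inv_cancel_right]

theorem GoodHom.exists_twist {C : Coords z A} {emb : M24 →* G} (h : GoodHom C emb) :
    ∃ e : M24 →* G, GoodHom C e ∧ ∀ σ : M24, e σ = C.enc (lab p0 (pget (pk σ.1) p0)) * emb σ := by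
  have hp0 : p0 < 24 := by norm_num [p0]
  refine ⟨MonoidHom.mk' (fun σ => C.enc (lab p0 (pget (pk σ.1) p0)) * emb σ) fun a b => ?_, fun σ => ?_,
    fun σ => rfl⟩
  · have ha := pget_lt a hp0
    have hb := pget_lt b hp0
    have hab := pget_lt a hb
    have e := (h a).2 p0 (pget (pk b.1) p0) hp0 hb
    show C.enc (lab p0 (pget (pk (a * b : M24).1) p0)) * emb (a * b) = _
    rw [pget_mul a b hp0, map_mul, ← lab_tri hp0 ha hab, C.enc_xor _ _ (lab_lt hp0 ha) (lab_lt ha hab), ← e]
    group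
  · have hl := lab_lt hp0 (pget_lt σ hp0)
    refine ⟨?_, fun i j hi hj => ?_⟩
    · exact mul_mem (Subgroup.le_normalizer (C.enc_mem _ hl)) (h σ).1
    · show C.enc _ * emb σ * C.enc (lab i j) * (C.enc _ * emb σ)⁻¹ = _
      have hl' := lab_lt (pget_lt σ hi) (pget_lt σ hj)
      calc C.enc (lab p0 (pget (pk σ.1) p0)) * emb σ * C.enc (lab i j) *
            (C.enc (lab p0 (pget (pk σ.1) p0)) * emb σ)⁻¹
          = C.enc (lab p0 (pget (pk σ.1) p0)) * (emb σ * C.enc (lab i j) * (emb σ)⁻¹) *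
            (C.enc (lab p0 (pget (pk σ.1) p0)))⁻¹ := by group
        _ = _ := by rw [(h σ).2 i j hi hj, C.enc_comm' hl hl', mul_inv_cancel_right]

section Psi

variable (C : Coords z A) (ψ : ↥(Subgroup.normalizer (A : Set G)) →* M24)
  (hsur : Function.Surjective ψ) (hker : ∀ n, ψ n = 1 ↔ (n : G) ∈ A)
  (hact : ∀ n : ↥(Subgroup.normalizer (A : Set G)), ActsAs C (n : G) (ψ n))

include hsur hker hact in
theorem psi_eq_of_acts {n : ↥(Subgroup.normalizer (A : Set G))} {σ : M24} (h : ActsAs C (n : G) σ) :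
    ψ n = σ := by
  obtain ⟨m, rfl⟩ := hsur σ
  have hc : ∀ v, v < 2048 → ((n : G)⁻¹ * m) * C.enc v * ((n : G)⁻¹ * m)⁻¹ = C.enc v := by
    let S : Subgroup G :=
      { carrier := {x | ((n : G)⁻¹ * m) * x * ((n : G)⁻¹ * m)⁻¹ = x}
        one_mem' := by simp
        mul_mem' := fun {a b} (ha : _ = a) (hb : _ = b) => by
          show _ * (a * b) * _ = a * b
          conv_rhs => rw [← ha, ← hb]
          group
        inv_mem' := fun {a} (ha : _ = a) => by
          show _ * a⁻¹ * _ = a⁻¹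
          conv_rhs => rw [← ha]
          group }
    have hlab : ∀ k, k < 24 → C.enc (lab 0 k) ∈ S := fun k hk => by
      show (n : G)⁻¹ * m * C.enc (lab 0 k) * ((n : G)⁻¹ * m)⁻¹ = _
      calc (n : G)⁻¹ * m * C.enc (lab 0 k) * ((n : G)⁻¹ * m)⁻¹
          = (n : G)⁻¹ * ((m : G) * C.enc (lab 0 k) * (m : G)⁻¹) * n := by group
        _ = _ := by rw [hact m 0 k (by norm_num) hk, ← h 0 k (by norm_num) hk]; group
    have hrow : ∀ l : List ℕ, (∀ k ∈ l, k < 24) → rowSum l < 2048 ∧ C.enc (rowSum l) ∈ S := by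
      intro l
      induction l with
      | nil => exact fun _ => ⟨by norm_num [rowSum], by rw [rowSum, C.enc_zero']; exact S.one_mem⟩
      | cons k l ih =>
        intro hl
        obtain ⟨h1, h2⟩ := ih fun x hx => hl x (List.mem_cons_of_mem _ hx)
        have hk := hl k List.mem_cons_self
        refine ⟨xor_lt (lab_lt (by norm_num) hk) h1, ?_⟩
        rw [rowSum, C.enc_xor _ _ (lab_lt (by norm_num) hk) h1]
        exact S.mul_mem (hlab k hk) h2
    have hunit : ∀ j, j < 11 → C.enc (2 ^ j) ∈ S := fun j hj => by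
      have hu := List.all_eq_true.1 units_ok j (List.mem_range.2 hj)
      simp only [Bool.and_eq_true, List.all_eq_true, Nat.blt_eq] at hu
      rw [← Nat.eq_of_beq_eq_true hu.1]
      exact (hrow _ hu.2).2
    have hall : ∀ k, k ≤ 11 → ∀ v, v < 2 ^ k → C.enc v ∈ S := by
      intro k
      induction k with
      | zero => intro _ v hv; obtain rfl : v = 0 := by simpa using hv
                rw [C.enc_zero']; exact S.one_mem
      | succ k ih =>
        intro hk v hv
        by_cases hlt : v < 2 ^ k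
        · exact ih (by omega) v hlt
        · have h2 : Nat.xor v (2 ^ k) < 2 ^ k := by
            refine Nat.lt_pow_two_of_testBit _ fun i hi => ?_
            show (v ^^^ 2 ^ k).testBit i = false
            rw [Nat.testBit_xor, Nat.testBit_two_pow]
            rcases eq_or_lt_of_le hi with rfl | hi'
            · have ht : v.testBit k = true := by
                rw [Nat.testBit_eq_decide_div_mod_eq]
                have h1 : v / 2 ^ k = 1 := Nat.div_eq_of_lt_le (by omega) (by rw [pow_succ] at hv; omega)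
                rw [h1]; rfl
              simp [ht]
            · rw [Nat.testBit_lt_two_pow (lt_of_lt_of_le hv (Nat.pow_le_pow_right (by norm_num) hi'))]
              simp; omega
          have h11 : (2 : ℕ) ^ k < 2048 := lt_of_lt_of_le (Nat.pow_lt_pow_right (by norm_num) (show k < 11 by omega)) le_rfl
          have e : v = Nat.xor (Nat.xor v (2 ^ k)) (2 ^ k) := ((xor_assoc' v (2 ^ k) (2 ^ k)).trans (by rw [show Nat.xor (2 ^ k) (2 ^ k) = 0 from Nat.xor_self _]; exact Nat.xor_zero v)).symm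
          rw [e, C.enc_xor _ _ (lt_of_lt_of_le h2 h11.le) h11]
          exact S.mul_mem (ih (by omega) _ h2) (hunit k (by omega))
    exact fun v hv => hall 11 le_rfl v (by norm_num; omega)
  have hA : (n : G)⁻¹ * m ∈ A := C.self_cent (Subgroup.mem_centralizer_iff.2 fun x hx => by
    obtain ⟨v, hv, rfl⟩ := C.enc_surj x hx
    exact (mul_inv_eq_iff_eq_mul.1 (hc v hv)).symm)
  have := (hker (n⁻¹ * m)).2 (by simpa using hA)
  rw [map_mul, map_inv] at this
  exact inv_mul_eq_one.1 this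

include hsur hker hact in
theorem GoodHom.injective {emb : M24 →* G} (h : GoodHom C emb) : Function.Injective emb := by
  rw [← MonoidHom.ker_eq_bot_iff, eq_bot_iff]
  intro σ hσ
  have e := psi_eq_of_acts C ψ hsur hker hact (n := ⟨emb σ, (h σ).1⟩) (h σ).2
  rw [Subgroup.mem_bot, ← e, hker]
  show emb σ ∈ A
  rw [MonoidHom.mem_ker.1 hσ]
  exact A.one_mem

include hsur hker hact in
theorem exists_goodHom {K : Subgroup G} (hK : K ≤ Subgroup.normalizer (A : Set G)) (hKA : K ⊓ A = ⊥)
    (hKs : K ⊔ A = Subgroup.normalizer (A : Set G)) : ∃ emb : M24 →* G, GoodHom C emb := by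
  let f : K →* M24 := ψ.comp (Subgroup.inclusion hK)
  have hinj : Function.Injective f := by
    rw [← MonoidHom.ker_eq_bot_iff, eq_bot_iff]
    intro k hk
    have h1 : (k : G) ∈ A := (hker _).1 hk
    have h2 : (k : G) ∈ K ⊓ A := ⟨k.2, h1⟩
    rw [hKA, Subgroup.mem_bot] at h2
    exact Subgroup.mem_bot.2 (Subtype.ext h2)
  have hfs : Function.Surjective f := by
    intro σ
    obtain ⟨⟨n, hn⟩, rfl⟩ := hsur σ
    have hn' : n ∈ ((K ⊔ A : Subgroup G) : Set G) := by rw [hKs]; exact hn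
    rw [Subgroup.coe_mul_of_left_le_normalizer_right K A hK] at hn'
    obtain ⟨k, hk, a, ha, rfl⟩ := Set.mem_mul.1 hn'
    refine ⟨⟨k, hk⟩, ?_⟩
    have e : (⟨k * a, hn⟩ : ↥(Subgroup.normalizer (A : Set G))) =
        ⟨k, hK hk⟩ * ⟨a, Subgroup.le_normalizer ha⟩ := rfl
    rw [e, map_mul, (hker ⟨a, _⟩).2 ha, mul_one]
    rfl
  let e := MulEquiv.ofBijective f ⟨hinj, hfs⟩
  refine ⟨K.subtype.comp e.symm.toMonoidHom, fun σ => ⟨hK (e.symm σ).2, ?_⟩⟩
  have h := hact (Subgroup.inclusion hK (e.symm σ))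
  rwa [show ψ (Subgroup.inclusion hK (e.symm σ)) = σ from e.apply_symm_apply σ] at h

end Psi

/-- The choice of the embedding. -/
theorem exists_emb (E : Env z A) (ψ : ↥(Subgroup.normalizer (A : Set G)) →* M24)
    (hsur : Function.Surjective ψ) (hker : ψ.ker = A.subgroupOf (Subgroup.normalizer (A : Set G)))
    (hact : ∀ n : ↥(Subgroup.normalizer (A : Set G)), ActsAs E.toCoords (n : G) (ψ n)) {K : Subgroup G}
    (hK : K ≤ Subgroup.normalizer (A : Set G)) (hKA : K ⊓ A = ⊥)
    (hKs : K ⊔ A = Subgroup.normalizer (A : Set G)) :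
    ∃ emb : M24 →* G, Function.Injective emb ∧
      (∀ σ : M24, emb σ ∈ Subgroup.normalizer (A : Set G) ∧ ActsAs E.toCoords (emb σ) σ) ∧
      (∀ σ : M24, pk σ.1 = piP → emb σ = E.p) ∧
      (∀ σ : M24, pk σ.1 = piA → emb σ = E.a ∨ emb σ = z * E.a) ∧
      (∀ σ : M24, pk σ.1 = piC → emb σ = E.c ∨ emb σ = z * E.c) := by
  let C := E.toCoords
  have hker' : ∀ n, ψ n = 1 ↔ (n : G) ∈ A := fun n => by
    rw [← MonoidHom.mem_ker, hker, Subgroup.mem_subgroupOf]
  have hp0 : p0 < 24 := by norm_num [p0]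
  have trA : TrOn C E.a (app colsVA) := ⟨fun v _ => colsV_app_lt (Or.inl rfl) v, E.conj_a⟩
  have trC : TrOn C E.c (app colsVC) := ⟨fun v _ => colsV_app_lt (Or.inr (Or.inl rfl)) v, E.conj_c⟩
  have trP : TrOn C E.p (app colsVP) := ⟨fun v _ => colsV_app_lt (Or.inr (Or.inr rfl)) v, E.conj_p⟩
  obtain ⟨σA, hσA, -⟩ := exists_piA
  obtain ⟨σC, hσC, -⟩ := exists_piC
  obtain ⟨σP, hσP, -⟩ := exists_piP
  obtain ⟨rA, rC, ⟨j1, rAC⟩, ⟨j2, rACC⟩, cA, cC⟩ := perm_rels hσA hσC hσP
  -- a lift and the image of its permutation differ by a translation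
  have key : ∀ {g : G} {cols : List ℕ} {σ : M24}, TrOn C g (app cols) → actsOK cols (pk σ.1) = true →
      ∀ {emb : M24 →* G}, GoodHom C emb → ∃ n, n < 2048 ∧ emb σ = C.enc n * g := by
    intro g cols σ hg hok emb hemb
    have hgN := C.mem_normalizer_of_tr hg
    have h1 : ψ ⟨g, hgN⟩ = σ := psi_eq_of_acts C ψ hsur hker' hact fun i j hi hj => by
      rw [hg.2 _ (lab_lt hi hj)]
      exact congrArg C.enc (Nat.eq_of_beq_eq_true (List.all_eq_true.1 (List.all_eq_true.1 hok i
        (List.mem_range.2 hi)) j (List.mem_range.2 hj)))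
    have h2 : ψ ⟨emb σ, (hemb σ).1⟩ = σ := psi_eq_of_acts C ψ hsur hker' hact (hemb σ).2
    have h3 : emb σ * g⁻¹ ∈ A := by
      have := (hker' (⟨emb σ, (hemb σ).1⟩ * ⟨g, hgN⟩⁻¹)).1 (by rw [map_mul, map_inv, h1, h2, mul_inv_cancel])
      simpa using this
    obtain ⟨n, hn, he⟩ := C.enc_surj _ h3
    exact ⟨n, hn, by rw [he, inv_mul_cancel_right]⟩
  -- the image of `piP`
  obtain ⟨emb0, hemb0⟩ := exists_goodHom C ψ hsur hker' hact hK hKA hKs
  obtain ⟨x, hx, he0⟩ := key trP (by rw [hσP]; exact actsP) hemb0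
  have hpN := C.mem_normalizer_of_tr trP
  have hy : E.p⁻¹ * C.enc x * E.p ∈ A :=
    (Subgroup.mem_normalizer_iff''.1 hpN _).1 (C.enc_mem x hx)
  have hu : E.p⁻¹ * (E.p⁻¹ * C.enc x * E.p) * E.p ∈ A := (Subgroup.mem_normalizer_iff''.1 hpN _).1 hy
  obtain ⟨u, hu1, hu2⟩ := C.enc_surj _ hu
  let emb1 := (MulAut.conj (C.enc u)).toMonoidHom.comp emb0
  have hemb1 : GoodHom C emb1 := hemb0.conj hu1
  have he1 : emb1 σP = E.p := by
    have hP3 : σP ^ 3 = 1 := by
      apply eq_of_code
      simp only [pow_succ, pow_zero, one_mul, ← pmul_coe, hσP]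
      rw [← CfsgLib.J4DCE.pid_coe]; decide +kernel
    have hq : emb0 σP = E.p * (E.p⁻¹ * C.enc x * E.p) := by rw [he0]; group
    show C.enc u * emb0 σP * (C.enc u)⁻¹ = E.p
    rw [C.enc_inv' hu1, hu2, hq]
    exact conj_cube_witness E.p_cube (C.sq_of_mem hy) (by rw [← hq, ← map_pow, hP3, map_one])
  -- the translations at the other two lifts
  obtain ⟨n, hn, hnA⟩ := key trA (by rw [hσA]; exact actsA) hemb1
  obtain ⟨m, hm, hmC⟩ := key trC (by rw [hσC]; exact actsC) hemb1
  have fixed : ∀ {g : G} {σ : M24} {n : ℕ}, n < 2048 → g * E.p = E.p * g → σ * σP = σP * σ →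
      emb1 σ = C.enc n * g → n % 64 = 0 := by
    intro g σ n hn hg hσ he
    have h := congrArg emb1 hσ
    rw [map_mul, map_mul, he, he1] at h
    have h' : C.enc (app colsVP n) = C.enc n := by
      rw [← trP.2 n hn]
      calc E.p * C.enc n * E.p⁻¹ = E.p * (C.enc n * g) * g⁻¹ * E.p⁻¹ := by group
        _ = C.enc n * g * E.p * g⁻¹ * E.p⁻¹ := by rw [← h]
        _ = C.enc n * (g * E.p) * g⁻¹ * E.p⁻¹ := by group
        _ = C.enc n := by rw [hg]; group
    have hfix := C.enc_inj _ _ (trP.1 n hn) hn h'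
    have hc := List.all_eq_true.1 fixP n (List.mem_range.2 hn)
    simpa [hfix, Nat.beq_eq] using hc
  obtain ⟨n', rfl⟩ := Nat.dvd_of_mod_eq_zero (fixed hn E.a_p cA hnA)
  obtain ⟨m', rfl⟩ := Nat.dvd_of_mod_eq_zero (fixed hm E.c_p cC hmC)
  have hcond : condOK (64 * n') (64 * m') = true := by
    have hr : ∀ g, g * g = 1 ∨ g * g = z → (∃ k : ℕ, g * g * E.p ^ k = 1 ∨ g * g * E.p ^ k = z) := fun g h =>
      ⟨0, by rwa [pow_zero, mul_one]⟩
    simp only [condOK, Bool.and_eq_true]
    refine ⟨⟨⟨?_, ?_⟩, ?_⟩, ?_⟩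
    · obtain ⟨k, hk⟩ := hr E.a E.rel_a
      have h := congrArg emb1 rA
      rw [map_mul, map_one, ← pow_two, hnA, TrOn.pow_step C trA hn, pow_two, ← pow_zero E.p] at h
      exact C.small_of_rel E.p_cube (TrOn.geo_lt C trA hn _) h hk
    · have h := congrArg emb1 rC
      rw [map_pow, map_one, hmC, TrOn.pow_step C trC hm, ← pow_zero E.p] at h
      exact C.small_of_rel E.p_cube (TrOn.geo_lt C trC hm _) h (k := 0) (by rw [pow_zero, mul_one]; exact E.rel_c)
    · obtain ⟨k, hk⟩ := E.rel_ac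
      have tr := TrOn.mul C trA trC
      have hw := xor_lt hn (trA.1 _ hm)
      have h := congrArg emb1 rAC
      rw [map_pow, map_pow, map_mul, hnA, hmC, he1, TrOn.step C trA hn hm, TrOn.pow_step C tr hw] at h
      exact C.small_of_rel E.p_cube (TrOn.geo_lt C tr hw _) h hk
    · obtain ⟨k, hk⟩ := E.rel_acc
      have tr := TrOn.mul C trA (TrOn.mul C trC trC)
      have hm2 := xor_lt hm (trC.1 _ hm)
      have hw := xor_lt hn (trA.1 _ hm2)
      have h := congrArg emb1 rACC
      rw [map_pow, map_pow, map_mul, map_mul, hnA, hmC, he1, TrOn.step C trC hm hm, TrOn.step C trA hn hm2,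
        TrOn.pow_step C tr hw] at h
      exact C.small_of_rel E.p_cube (TrOn.geo_lt C tr hw _) h hk
  have hc := List.all_eq_true.1 (List.all_eq_true.1 cert n' (List.mem_range.2 (by omega))) m'
    (List.mem_range.2 (by omega))
  rw [hcond, Bool.not_true, Bool.false_or, List.any_eq_true] at hc
  obtain ⟨V, hV, hl⟩ := hc
  obtain ⟨l, -, hl⟩ := List.any_eq_true.1 hl
  rw [Bool.and_eq_true] at hl
  have hV' : V < 16 := List.mem_range.1 hV
  -- twist and conjugate
  obtain ⟨emb2, hemb2, he2⟩ : ∃ e : M24 →* G, GoodHom C e ∧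
      ∀ σ : M24, e σ = C.enc (if l then lab p0 (pget (pk σ.1) p0) else 0) * emb1 σ := by
    cases l
    · exact ⟨emb1, hemb1, fun σ => by simp [C.enc_zero']⟩
    · simpa using hemb1.exists_twist
  have hVlt : 128 * V < 2048 := by omega
  let emb := (MulAut.conj (C.enc (128 * V))).toMonoidHom.comp emb2
  have hemb : GoodHom C emb := hemb2.conj hVlt
  have finish : ∀ {g : G} {cols : List ℕ} {σ : M24} {n code : ℕ}, TrOn C g (app cols) → n < 2048 →
      emb1 σ = C.enc n * g → goodAt cols (pget code p0) n V l = true → pk σ.1 = code →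
      emb σ = g ∨ emb σ = z * g := by
    intro g cols σ n code hg hn he hgood hcode
    have hL : (if l then lab p0 (pget (pk σ.1) p0) else 0) < 2048 := by
      cases l
      · norm_num
      · exact lab_lt hp0 (pget_lt σ hp0)
    have hLn := xor_lt hL hn
    have e : emb σ = C.enc (Nat.xor (Nat.xor (128 * V) (Nat.xor (if l then lab p0 (pget (pk σ.1) p0) else 0) n))
        (app cols (128 * V))) * g := by
      show C.enc (128 * V) * emb2 σ * (C.enc (128 * V))⁻¹ = _
      rw [he2, he, C.enc_xor _ _ (xor_lt hVlt hLn) (hg.1 _ hVlt), C.enc_xor _ _ hVlt hLn,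
        C.enc_xor _ _ hL hn, ← hg.2 _ hVlt, C.enc_inv' hVlt]
      group
    rw [hcode] at e
    rcases small_iff.1 hgood with h | h <;> rw [h] at e
    · exact Or.inl (by rw [e, C.enc_zero', one_mul])
    · exact Or.inr (by rw [e, C.enc_z])
  refine ⟨emb, GoodHom.injective C ψ hsur hker' hact hemb, hemb, fun σ hσ => ?_, fun σ hσ => ?_,
    fun σ hσ => ?_⟩
  · obtain rfl : σ = σP := eq_of_code (hσ.trans hσP.symm)
    show C.enc (128 * V) * emb2 σ * (C.enc (128 * V))⁻¹ = E.p
    rw [he2, hσP, piP_fix, lab_self hp0, show (if l then 0 else 0) = 0 by cases l <;> rfl, C.enc_zero',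
      one_mul, he1]
    have h := trP.2 _ hVlt
    rw [Nat.eq_of_beq_eq_true (List.all_eq_true.1 fixP_low V hV)] at h
    rw [mul_inv_eq_iff_eq_mul]
    exact (mul_inv_eq_iff_eq_mul.1 h).symm
  all_goals
    first
      | (obtain rfl : σ = σA := eq_of_code (hσ.trans hσA.symm)
         exact finish trA hn hnA hl.1 hσA)
      | (obtain rfl : σ = σC := eq_of_code (hσ.trans hσC.symm)
         exact finish trC hm hmC hl.2 hσC)

end CfsgLib.J4Type.Sym
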