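import Cfsg.Agent.Lib.J4Type.Sym.ElevenWit
import Cfsg.Agent.Lib.J4Type.CentSplit
import Cfsg.Agent.Lib.J4Type.Model.Ctx
import Cfsg.Agent.Lib.J4Type.Moved
import Cfsg.Agent.Lib.J4Type.Assemble
import Cfsg.Agent.Lib.J4Type.SixFoldWitness
import Cfsg.Agent.Lib.J4Type86.ThreeClass25

/-!
A simple group of Janko-four type which is isomorphic to the fourth Janko group: the Sylow subgroup for eleven,
its normaliser and the two classes of elements of order eleven.
-/
set_option autoImplicit false
set_option maxRecDepth 20000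
set_option linter.style.haveILetI false

namespace CfsgLib.J4Type.Sym.Eleven

universe u

/-- The centraliser of an element has the order of the centraliser of a conjugate. -/
theorem card_centralizer_conj {G : Type u} [Group G] {x y : G} (h : IsConj x y) :
    Nat.card (Subgroup.centralizer ({x} : Set G)) = Nat.card (Subgroup.centralizer ({y} : Set G)) := by
  obtain ⟨g, rfl⟩ := isConj_iff.1 h
  have e : (Subgroup.centralizer ({x} : Set G)).map (MulAut.conj g).toMonoidHom =
      Subgroup.centralizer ({g * x * g⁻¹} : Set G) := by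
    ext w
    rw [Subgroup.mem_map_equiv, Subgroup.mem_centralizer_singleton_iff, Subgroup.mem_centralizer_singleton_iff,
      MulAut.conj_symm_apply]
    constructor <;> intro h'
    · calc w * (g * x * g⁻¹) = g * (g⁻¹ * w * g * x) * g⁻¹ := by group
        _ = _ := by rw [h']; group
    · calc g⁻¹ * w * g * x = g⁻¹ * (w * (g * x * g⁻¹)) * g := by group
        _ = _ := by rw [h']; group
  rw [← e, Subgroup.card_map_of_injective (MulAut.conj g).injective]

/-- The bounds on centralisers. -/
theorem ambient {G : Type u} [Group G] [Finite G] [IsSimpleGroup G] (hG : ¬ IsMulCommutative G)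
    (hJ : Cfsg.IsOfJankoFourType G) (e : G ≃* Cfsg.Spor.J4) : Ambient G := by
  refine ⟨(Nat.card_congr e.toEquiv).trans CfsgLib.J4DCE.J.J4_card_eq.1, ?_⟩
  obtain ⟨z, P, hP⟩ := hJ
  obtain ⟨X⟩ := CfsgLib.J4Type.exists_ctx hP
  have hm := X.exists_moved hG
  have hwit := CfsgLib.J4Type.hasWitness X X.exists_norm_conj_z hm
  have hH : ¬ 11 ^ 3 ∣ Nat.card (J4Type86.cH z) := by rw [J4Type86.card_cH hP]; norm_num
  intro x hx
  rcases hx with hx | hx
  · by_cases hc : IsConj z x
    · rw [← card_centralizer_conj hc]; exact hH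
    · obtain ⟨V, K, hV, hK, hN, -, hVc, -, hsup, ⟨eK⟩⟩ := X.centralizer_split hm x hx hc
      intro hd
      set C := Subgroup.centralizer ({x} : Set G)
      haveI : (V.subgroupOf C).Normal := (Subgroup.normal_subgroupOf_iff_le_normalizer hV).2 hN
      have hsurj : Function.Surjective ((QuotientGroup.mk' (V.subgroupOf C)).comp (Subgroup.inclusion hK)) := by
        rw [← MonoidHom.range_eq_top, MonoidHom.range_comp, ← Subgroup.map_top_of_surjective _
          (QuotientGroup.mk'_surjective (V.subgroupOf C)), Subgroup.map_eq_map_iff, QuotientGroup.ker_mk',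
          Subgroup.inclusion_range, ← Subgroup.subgroupOf_sup hK hV, hsup, Subgroup.subgroupOf_self, top_sup_eq]
      have hq := Subgroup.card_dvd_of_surjective _ hsurj
      rw [Nat.card_congr eK.toEquiv, MathieuAut22.natCard_mulAut_sporM22] at hq
      have hdiv : Nat.card C ∣ 887040 * 2 ^ 11 := by
        rw [Subgroup.card_eq_card_quotient_mul_card_subgroup (V.subgroupOf C),
          Nat.card_congr (Subgroup.subgroupOfEquivOfLe hV).toEquiv, hVc]
        exact Nat.mul_dvd_mul_right hq _
      exact absurd (hd.trans hdiv) (by norm_num)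
  · haveI : Fact (Nat.Prime 3) := ⟨Nat.prime_three⟩
    have hPc : Nat.card P = 3 := hP.2.2.2.2.2.1
    haveI : IsCyclic P := isCyclic_of_prime_card hPc
    obtain ⟨p, hp⟩ := IsCyclic.exists_generator (α := P)
    have hp3 : orderOf (p : G) = 3 := by
      rw [Subgroup.orderOf_coe, orderOf_eq_card_of_forall_mem_zpowers hp, hPc]
    rw [card_centralizer_conj (CfsgLib.J4Type86.ThreeClass.isConj_three hP hwit x p hx hp3)]
    intro hd
    refine hH (hd.trans (Subgroup.card_dvd_of_le ?_))
    refine le_trans ?_ (CfsgLib.J4Type86.sixFold hP hwit).2.2.2.2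
    intro w hw
    rw [Subgroup.mem_centralizer_singleton_iff] at hw
    refine Subgroup.mem_normalizer_fintype fun q hq => ?_
    obtain ⟨n, hn⟩ := Subgroup.mem_zpowers_iff.1 (hp ⟨q, hq⟩)
    have hq' : q = (p : G) ^ n := by rw [← Subgroup.coe_zpow, hn]
    rw [hq', (Commute.zpow_right hw n).eq, mul_inv_cancel_right]
    exact (p ^ n).2

/-- **The Sylow subgroup for eleven and its normaliser.** -/
theorem sylow_eleven {G : Type u} [Group G] [Finite G] [IsSimpleGroup G] (hG : ¬ IsMulCommutative G)
    (hJ : Cfsg.IsOfJankoFourType G) (e : G ≃* Cfsg.Spor.J4) (S : Sylow 11 G) :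
    Cfsg.IsExtraspecial 11 ↥(S : Subgroup G) ∧ Nat.card ↥(S : Subgroup G) = 11 ^ 3 ∧
    Monoid.exponent ↥(S : Subgroup G) = 11 ∧
    Nat.card ↥(Subgroup.normalizer ((S : Subgroup G) : Set G)) = 2 ^ 4 * 3 * 5 * 11 ^ 3 ∧
    ∃ K : Subgroup G, K ≤ Subgroup.normalizer ((S : Subgroup G) : Set G) ∧
      Nonempty (↥K ≃* GL (Fin 2) (ZMod 3)) := by
  obtain ⟨a, b, g, h, W⟩ := exists_wit
  exact (W.map e.symm).sylow_facts (ambient hG hJ e) S

/-- **Two classes of elements of order eleven.** -/
theorem two_classes_eleven {G : Type u} [Group G] [Finite G] [IsSimpleGroup G] (hG : ¬ IsMulCommutative G)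
    (hJ : Cfsg.IsOfJankoFourType G) (e : G ≃* Cfsg.Spor.J4) :
    ∃ x y : G, orderOf x = 11 ∧ orderOf y = 11 ∧ ¬ IsConj x y ∧
      ∀ w : G, orderOf w = 11 → IsConj w x ∨ IsConj w y := by
  obtain ⟨a, b, g, h, W⟩ := exists_wit
  exact (W.map e.symm).two_classes (ambient hG hJ e)

end CfsgLib.J4Type.Sym.Eleven
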