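import Cfsg.Agent.Lib.J4DCE.MatCert
import Cfsg.Agent.Lib.J4Type.Sym.ElevenData

/-!
The kernel check for the Sylow subgroup for eleven of the fourth Janko group and its certificates.
-/
set_option autoImplicit false
set_option maxRecDepth 20000

namespace CfsgLib.J4Type.Sym.Eleven

open CfsgLib.J4DCE.Mat
open CfsgLib.Presented.Vec (force)

/-- apply a matrix -/
noncomputable def app1 (M v : ℕ) : ℕ := applyM M v 112

/-- iterate a matrix -/
noncomputable def iter (M v : ℕ) : ℕ → ℕ :=
  Nat.rec (motive := fun _ => ℕ) v fun _ ih => force ih fun r => app1 M r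

/-- the sum of the first eleven powers -/
noncomputable def proj (M v : ℕ) : ℕ :=
  Nat.rec (motive := fun _ => ℕ) 0 (fun _ ih => force ih fun r => Nat.xor v (app1 M r)) 11

/-- the combination of the vectors selected by the bits -/
noncomputable def comb : List ℕ → ℕ → ℕ
  | [], _ => 0
  | w :: ws, m => force (comb ws (m / 2)) fun r => if Nat.beq (m % 2) 1 then Nat.xor w r else r

/-- the orbit of the chosen vector -/
noncomputable def cvL (C : ℕ) : List ℕ := (List.range 10).map (iter C vF)

/-- the images of the orbit under the powers of a matrix -/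
noncomputable def spanL (B C : ℕ) : List ℕ := (List.range 11).flatMap fun j => (cvL C).map fun x => iter B x j

/-- the word in three matrices -/
noncomputable def wordM (A B C i j k : ℕ) : ℕ := mulM (mulM (powM A i) (powM B j)) (powM C k)

/-- a conjugation relation -/
noncomputable def conjOK (A B C g X i j k : ℕ) : Bool := Nat.beq (mulM g X) (mulM (wordM A B C i j k) g)

/-- the four fixed parts -/
def wList : List ℕ := [0, w1, w2, Nat.xor w1 w2]

/-- the relations -/
noncomputable def relOK (A B C g h : ℕ) : Bool :=
  Nat.beq (powM A 11) idM && Nat.beq (powM B 11) idM && Nat.beq (mulM A C) (mulM C A) &&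
    Nat.beq (mulM B C) (mulM C B) && (List.range 112).any (fun i => !Nat.beq (rowM C i) (2 ^ i)) &&
    conjOK A B C g A 10 9 10 && conjOK A B C g B 6 10 3 && conjOK A B C h A 8 2 3 && conjOK A B C h B 8 3 10

/-- the vectors fixed by the central element -/
noncomputable def fixOK (C : ℕ) : Bool :=
  (List.range 112).all fun i => Nat.beq (proj C (2 ^ i)) (wList.getD (pcc.getD i 0) 0)

/-- the ten-dimensional space -/
noncomputable def tenOK (A C : ℕ) : Bool :=
  Nat.beq (fc.getD kF 0) 1 && Nat.beq (app1 C (iter C vF 9)) (comb (cvL C) 1023) &&
    (List.range 112).all fun i =>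
      Nat.beq (proj A (Nat.xor (2 ^ i) (proj C (2 ^ i)))) (comb (cvL C) (fc.getD i 0))

/-- the moved part is spanned -/
noncomputable def spanOK (B C : ℕ) : Bool :=
  (List.range 112).all fun i => Nat.beq (Nat.xor (2 ^ i) (proj C (2 ^ i))) (comb (spanL B C) (uc.getD i 0))

/-- four fixed vectors of the second generator -/
noncomputable def tOK (B : ℕ) : Bool := tB.all fun t => Nat.beq (app1 B t) t && Nat.blt t (2 ^ 112)

/-- the commutator -/
noncomputable def comM (A B : ℕ) : ℕ := mulM (mulM (mulM A B) (powM A 10)) (powM B 10)

/-- everything -/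
noncomputable def allOK (A B g h : ℕ) : Bool :=
  force (comM A B) fun C => relOK A B C g h && fixOK C && tenOK A C && spanOK B C && tOK B

/-- an entry of the program -/
noncomputable def el (acc : List ℕ) (k : ℕ) : ℕ := acc.getD (size - 1 - k) idM

/-- the test at the end of the program -/
noncomputable def final (acc : List ℕ) : Bool :=
  force (el acc ia) fun A => force (el acc ib) fun B => force (el acc ig) fun g => force (el acc ih) fun h =>
    allOK A B g h

set_option maxHeartbeats 0 in
theorem final_ok : runSLP final ops = true := by decide +kernel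

end CfsgLib.J4Type.Sym.Eleven
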