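import Cfsg.Agent.Lib.J4Type.Sym.ElevenTables
import Cfsg.Agent.Lib.Fusion.EssentialFourth
import Cfsg.Agent.Lib.LargeExtra.Transport
import Mathlib.LinearAlgebra.Matrix.GeneralLinearGroup.Card
import Mathlib.GroupTheory.SchurZassenhaus

/-!
A group of the order of the fourth Janko group with two elements generating an extraspecial group of order
`11 ^ 3`, two elements normalising it and bounds on its centraliser: the normaliser of a Sylow subgroup for
eleven and the two classes of elements of order eleven.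
-/
set_option autoImplicit false
set_option maxRecDepth 20000
set_option linter.unusedSectionVars false
set_option linter.style.haveILetI false

namespace CfsgLib.J4Type.Sym.Eleven

universe u

variable {G : Type u} [Group G]

/-- the commutator of the two generators -/
def cw (a b : G) : G := a * b * a ^ 10 * b ^ 10

/-- a power with exponent modulo eleven -/
def pw (x : G) (i : ZMod 11) : G := x ^ i.val

theorem pw_natCast {x : G} (hx : x ^ 11 = 1) (n : ℕ) : pw x (n : ZMod 11) = x ^ n := by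
  rw [pw, ZMod.val_natCast, ← pow_eq_pow_mod n hx]

theorem pw_add {x : G} (hx : x ^ 11 = 1) (i j : ZMod 11) : pw x (i + j) = pw x i * pw x j := by
  rw [pw, pw, pw, ← pow_add, ZMod.val_add, ← pow_eq_pow_mod _ hx]

theorem pw_zero (x : G) : pw x 0 = 1 := by rw [pw, ZMod.val_zero, pow_zero]

/-- The witnesses. -/
structure Wit (a b g h : G) : Prop where
  a11 : a ^ 11 = 1
  b11 : b ^ 11 = 1
  ac : a * cw a b = cw a b * a
  bc : b * cw a b = cw a b * b
  c_ne : cw a b ≠ 1
  ga : g * a = a ^ 10 * b ^ 9 * cw a b ^ 10 * g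
  gb : g * b = a ^ 6 * b ^ 10 * cw a b ^ 3 * g
  ha : h * a = a ^ 8 * b ^ 2 * cw a b ^ 3 * h
  hb : h * b = a ^ 8 * b ^ 3 * cw a b ^ 10 * h
  cent : ∀ (x : G) (r : ℕ), r.Prime → x * a = a * x → x * b = b * x → x ^ r = 1 → x ≠ 1 →
    r = 2 ∨ r = 3 ∨ r = 11 ∨ r = 31
  not_conj : ¬ IsConj (cw a b) b

namespace Wit

variable {a b g h : G} (W : Wit a b g h)

/-- the normal form -/
def F (a b : G) (t : ZMod 11 × ZMod 11 × ZMod 11) : G := pw a t.1 * pw b t.2.1 * pw (cw a b) t.2.2

include W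

theorem inv_a : a⁻¹ = a ^ 10 := inv_eq_of_mul_eq_one_right (by rw [← pow_succ']; exact W.a11)

theorem inv_b : b⁻¹ = b ^ 10 := inv_eq_of_mul_eq_one_right (by rw [← pow_succ']; exact W.b11)

theorem cw_eq : cw a b = a * b * a⁻¹ * b⁻¹ := by rw [W.inv_a, W.inv_b]; rfl

theorem c11 : cw a b ^ 11 = 1 := by
  have e : cw a b * b = a * b * a⁻¹ := by rw [W.cw_eq, inv_mul_cancel_right]
  have h : (cw a b * b) ^ 11 = 1 := by rw [e, conj_pow, W.b11, mul_one, mul_inv_cancel]
  rwa [(show Commute (cw a b) b from W.bc.symm).mul_pow, W.b11, mul_one] at h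

theorem ba : b * a = a * b * cw a b ^ 10 := by
  have hi : (cw a b)⁻¹ = cw a b ^ 10 := inv_eq_of_mul_eq_one_right (by rw [← pow_succ']; exact W.c11)
  rw [← hi]
  have e : (cw a b)⁻¹ * (a * b) = b * a := by rw [W.cw_eq]; group
  have hc : Commute (cw a b) (a * b) :=
    (show Commute (cw a b) a from W.ac.symm).mul_right (show Commute (cw a b) b from W.bc.symm)
  rw [← e, hc.inv_left.eq]

theorem ba_pow : ∀ n m : ℕ, b ^ n * a ^ m = a ^ m * b ^ n * cw a b ^ (10 * (n * m)) := by
  have hca : ∀ j k : ℕ, cw a b ^ j * a ^ k = a ^ k * cw a b ^ j := fun j k =>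
    ((show Commute (cw a b) a from W.ac.symm).pow_pow j k).eq
  have hcb : ∀ j k : ℕ, cw a b ^ j * b ^ k = b ^ k * cw a b ^ j := fun j k =>
    ((show Commute (cw a b) b from W.bc.symm).pow_pow j k).eq
  have one : ∀ m : ℕ, b * a ^ m = a ^ m * b * cw a b ^ (10 * m) := by
    intro m
    induction m with
    | zero => simp
    | succ m ih =>
      have e1 := hca (10 * m) 1
      rw [pow_one] at e1
      rw [pow_succ, ← mul_assoc, ih, mul_assoc _ (cw a b ^ _) a, e1,
        ← mul_assoc, mul_assoc (a ^ m) b a, W.ba, Nat.mul_succ, Nat.add_comm (10 * m) 10, pow_add]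
      group
  intro n m
  induction n with
  | zero => simp
  | succ n ih =>
    rw [pow_succ', mul_assoc, ih, ← mul_assoc, ← mul_assoc, one, mul_assoc (a ^ m * b) _ (b ^ n), hcb,
      ← mul_assoc, mul_assoc _ (cw a b ^ _) (cw a b ^ _), ← pow_add, mul_assoc (a ^ m) b (b ^ n),
      show 10 * m + 10 * (n * m) = 10 * ((n + 1) * m) by ring]

theorem F_mul (s t : ZMod 11 × ZMod 11 × ZMod 11) :
    F a b s * F a b t = F a b (s.1 + t.1, s.2.1 + t.2.1, s.2.2 + t.2.2 - t.1 * s.2.1) := by
  obtain ⟨i, j, k⟩ := s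
  obtain ⟨i', j', k'⟩ := t
  set c := cw a b with hc
  have hca : Commute (pw c k) (pw a i') := (show Commute c a from W.ac.symm).pow_pow _ _
  have hcb : Commute (pw c k) (pw b j') := (show Commute c b from W.bc.symm).pow_pow _ _
  have hcb' : ∀ x, Commute (pw c x) (pw b j') := fun x => (show Commute c b from W.bc.symm).pow_pow _ _
  have e : pw b j * pw a i' = pw a i' * pw b j * pw c (-(i' * j)) := by
    have e0 : pw c (-(i' * j)) = c ^ (10 * (j.val * i'.val)) := by
      rw [← pw_natCast W.c11]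
      refine congrArg _ ?_
      push_cast
      rw [ZMod.natCast_zmod_val, ZMod.natCast_zmod_val, show (10 : ZMod 11) = -1 by decide]
      ring
    rw [e0, pw, pw, W.ba_pow]
  show pw a i * pw b j * pw c k * (pw a i' * pw b j' * pw c k') =
    pw a (i + i') * pw b (j + j') * pw c (k + k' - i' * j)
  rw [show k + k' - i' * j = -(i' * j) + k + k' by ring, pw_add W.a11, pw_add W.b11, pw_add W.c11,
    pw_add W.c11]
  rw [← hc]
  calc pw a i * pw b j * pw c k * (pw a i' * pw b j' * pw c k')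
      = pw a i * pw b j * (pw c k * pw a i') * pw b j' * pw c k' := by group
    _ = pw a i * (pw b j * pw a i') * (pw c k * pw b j') * pw c k' := by rw [hca.eq]; group
    _ = pw a i * pw a i' * pw b j * (pw c (-(i' * j)) * pw b j') * pw c k * pw c k' := by
      rw [e, hcb.eq]; group
    _ = _ := by rw [(hcb' _).eq]; group

theorem F_zero : F a b (0, 0, 0) = 1 := by simp [F, pw_zero]

theorem F_a : F a b (1, 0, 0) = a := by
  haveI : Fact (1 < 11) := ⟨by norm_num⟩
  simp [F, pw, ZMod.val_one]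

theorem F_b : F a b (0, 1, 0) = b := by
  haveI : Fact (1 < 11) := ⟨by norm_num⟩
  simp [F, pw, ZMod.val_one]

theorem F_c : F a b (0, 0, 1) = cw a b := by
  haveI : Fact (1 < 11) := ⟨by norm_num⟩
  simp [F, pw, ZMod.val_one]

theorem F_pow (i j k : ZMod 11) : ∀ n : ℕ,
    F a b (i, j, k) ^ n = F a b ((n : ZMod 11) * i, (n : ZMod 11) * j,
      (n : ZMod 11) * k - (n.choose 2 : ℕ) * (i * j))
  | 0 => by simp [W.F_zero]
  | n + 1 => by
    rw [pow_succ, F_pow i j k n, W.F_mul]
    refine congrArg _ (Prod.ext ?_ (Prod.ext ?_ ?_)) <;> simp only [Nat.choose_succ_succ', Nat.choose_one_right]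
      <;> push_cast <;> ring

theorem F_inj {s t : ZMod 11 × ZMod 11 × ZMod 11} (e : F a b s = F a b t) : s = t := by
  haveI : Fact (Nat.Prime 11) := ⟨by norm_num⟩
  have ker : ∀ i j k : ZMod 11, F a b (i, j, k) = 1 → i = 0 ∧ j = 0 ∧ k = 0 := by
    intro i j k h1
    have hk : ∀ k : ZMod 11, F a b (0, 0, k) = 1 → k = 0 := by
      intro k hk
      have ho : orderOf (cw a b) = 11 := orderOf_eq_prime W.c11 W.c_ne
      simp only [F, pw_zero, one_mul] at hk
      have hd := orderOf_dvd_of_pow_eq_one hk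
      rw [ho] at hd
      exact (ZMod.val_eq_zero k).1 (Nat.eq_zero_of_dvd_of_lt hd (ZMod.val_lt k))
    have cm : ∀ s t : ZMod 11 × ZMod 11 × ZMod 11, F a b s = 1 →
        F a b (0, 0, t.1 * s.2.1 - s.1 * t.2.1) = 1 := by
      intro s t hs
      have h2 : F a b s * F a b t = F a b t * F a b s := by rw [hs, one_mul, mul_one]
      rw [W.F_mul, W.F_mul] at h2
      have h3 : F a b (t.1 + s.1, t.2.1 + s.2.1, t.2.2 + s.2.2 - s.1 * t.2.1) *
          F a b (0, 0, -(t.1 * s.2.1 - s.1 * t.2.1)) =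
          F a b (s.1 + t.1, s.2.1 + t.2.1, s.2.2 + t.2.2 - t.1 * s.2.1) := by
        rw [W.F_mul]
        refine congrArg _ (Prod.ext ?_ (Prod.ext ?_ ?_)) <;> ring
      rw [h2, mul_eq_left] at h3
      have h4 := W.F_mul (0, 0, -(t.1 * s.2.1 - s.1 * t.2.1)) (0, 0, t.1 * s.2.1 - s.1 * t.2.1)
      rw [h3, one_mul] at h4
      rw [h4]
      refine (congrArg (F a b) (Prod.ext ?_ (Prod.ext ?_ ?_))).trans W.F_zero <;> simp
    obtain rfl : j = 0 := by simpa using hk _ (cm (i, j, k) (1, 0, 0) h1)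
    obtain rfl : i = 0 := by simpa using hk _ (cm (i, 0, k) (0, 1, 0) h1)
    exact ⟨rfl, rfl, hk k h1⟩
  have h' : F a b s * F a b (-t.1, -t.2.1, -t.2.2 - t.1 * t.2.1) = 1 := by
    rw [e, W.F_mul]
    exact (congrArg _ (Prod.ext (by ring) (Prod.ext (by ring) (by ring)))).trans W.F_zero
  rw [W.F_mul] at h'
  obtain ⟨h1, h2, h3⟩ := ker _ _ _ h'
  simp only at h1 h2 h3
  obtain ⟨i, j, k⟩ := s
  obtain ⟨i', j', k'⟩ := t
  simp only at h1 h2 h3
  have e1 : i = i' := by linear_combination h1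
  have e2 : j = j' := by linear_combination h2
  refine Prod.ext e1 (Prod.ext e2 ?_)
  show k = k'
  linear_combination h3 - i' * h2

omit W

/-- the Sylow subgroup -/
def U {a b g h : G} (W : Wit a b g h) : Subgroup G where
  carrier := Set.range (F a b)
  one_mem' := ⟨_, W.F_zero⟩
  mul_mem' := by rintro _ _ ⟨s, rfl⟩ ⟨t, rfl⟩; exact ⟨_, (W.F_mul s t).symm⟩
  inv_mem' := by
    rintro _ ⟨⟨i, j, k⟩, rfl⟩
    exact ⟨(-i, -j, -k - i * j), (inv_eq_of_mul_eq_one_right (by
      rw [W.F_mul]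
      exact (congrArg _ (Prod.ext (by ring) (Prod.ext (by ring) (by ring)))).trans W.F_zero)).symm⟩

include W

theorem mem_U {x : G} : x ∈ W.U ↔ ∃ t, F a b t = x := Iff.rfl

theorem F_mem (t : ZMod 11 × ZMod 11 × ZMod 11) : F a b t ∈ W.U := ⟨t, rfl⟩

theorem a_mem : a ∈ W.U := ⟨_, W.F_a⟩

theorem b_mem : b ∈ W.U := ⟨_, W.F_b⟩

theorem card_U : Nat.card W.U = 11 ^ 3 := by
  have e : Nat.card (ZMod 11 × ZMod 11 × ZMod 11) = Nat.card W.U := by
    refine Nat.card_eq_of_bijective (fun t => ⟨F a b t, W.F_mem t⟩) ⟨fun s t e => W.F_inj (congrArg Subtype.val e), ?_⟩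
    rintro ⟨x, t, rfl⟩
    exact ⟨t, rfl⟩
  rw [← e, Nat.card_prod, Nat.card_prod, Nat.card_zmod]
  norm_num

theorem pow_eleven {x : G} (hx : x ∈ W.U) : x ^ 11 = 1 := by
  obtain ⟨⟨i, j, k⟩, rfl⟩ := hx
  rw [W.F_pow i j k 11, show ((11 : ℕ) : ZMod 11) = 0 from rfl, show Nat.choose 11 2 = 55 by decide,
    show ((55 : ℕ) : ZMod 11) = 0 from rfl]
  simp [W.F_zero]

theorem exponent_U : Monoid.exponent W.U = 11 := by
  have h : Monoid.exponent W.U ∣ 11 :=
    Monoid.exponent_dvd_of_forall_pow_eq_one fun x => Subtype.ext (W.pow_eleven x.2)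
  refine ((Nat.dvd_prime (by norm_num)).1 h).resolve_left fun h1 => W.c_ne ?_
  have hc : cw a b ∈ W.U := ⟨_, W.F_c⟩
  have := Monoid.pow_exponent_eq_one (⟨cw a b, hc⟩ : W.U)
  rw [h1, pow_one] at this
  exact congrArg Subtype.val this

theorem extraspecial_U : Cfsg.IsExtraspecial 11 W.U := by
  haveI : Fact (Nat.Prime 11) := ⟨by norm_num⟩
  haveI : Finite W.U := Nat.finite_of_card_ne_zero (by rw [W.card_U]; norm_num)
  refine CfsgLib.FusionFourth.extraspecial_of_exponent W.card_U (fun hc => W.c_ne ?_)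
    fun x => Subtype.ext (W.pow_eleven x.2)
  have e : a * b = b * a := congrArg Subtype.val (hc.is_comm.comm (⟨a, W.a_mem⟩ : W.U) ⟨b, W.b_mem⟩)
  rw [W.cw_eq, e]
  group

theorem le_of_gens {S : Subgroup G} (ha : a ∈ S) (hb : b ∈ S) : W.U ≤ S := by
  rintro _ ⟨⟨i, j, k⟩, rfl⟩
  have hc : cw a b ∈ S := mul_mem (mul_mem (mul_mem ha hb) (pow_mem ha 10)) (pow_mem hb 10)
  exact mul_mem (mul_mem (pow_mem ha _) (pow_mem hb _)) (pow_mem hc _)

/-! ### The action of the normaliser on the quotient -/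

/-- the normaliser -/
abbrev N : Subgroup G := Subgroup.normalizer (W.U : Set G)

theorem mem_N [Finite G] {n : G} (h1 : n * a * n⁻¹ ∈ W.U) (h2 : n * b * n⁻¹ ∈ W.U) : n ∈ W.N := by
  refine Subgroup.mem_normalizer_fintype fun x hx => ?_
  exact (W.le_of_gens (S := W.U.comap (MulAut.conj n).toMonoidHom) h1 h2 hx)

theorem conj_eq {n x : G} {i j k : ℕ} (e : n * x = a ^ i * b ^ j * cw a b ^ k * n) :
    n * x * n⁻¹ = F a b ((i : ZMod 11), (j : ZMod 11), (k : ZMod 11)) := by
  rw [e, mul_inv_cancel_right, F, pw_natCast W.a11, pw_natCast W.b11, pw_natCast W.c11]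

theorem g_mem [Finite G] : g ∈ W.N :=
  W.mem_N (W.conj_eq W.ga ▸ W.F_mem _) (W.conj_eq W.gb ▸ W.F_mem _)

theorem h_mem [Finite G] : h ∈ W.N :=
  W.mem_N (W.conj_eq W.ha ▸ W.F_mem _) (W.conj_eq W.hb ▸ W.F_mem _)

end Wit

/-- coordinates of an element of the Sylow subgroup -/
noncomputable def coord (a b x : G) : ZMod 11 × ZMod 11 × ZMod 11 :=
  open scoped Classical in if h : ∃ t, Wit.F a b t = x then h.choose else 0

namespace Wit

variable {a b g h : G} (W : Wit a b g h)

include W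

theorem coord_F (t : ZMod 11 × ZMod 11 × ZMod 11) : coord a b (F a b t) = t := by
  have hex : ∃ s, F a b s = F a b t := ⟨t, rfl⟩
  rw [coord, dif_pos hex]
  exact W.F_inj hex.choose_spec

theorem F_coord {x : G} (hx : x ∈ W.U) : F a b (coord a b x) = x := by
  obtain ⟨t, rfl⟩ := hx
  rw [W.coord_F]

theorem coord_mul {x y : G} (hx : x ∈ W.U) (hy : y ∈ W.U) :
    (coord a b (x * y)).1 = (coord a b x).1 + (coord a b y).1 ∧
    (coord a b (x * y)).2.1 = (coord a b x).2.1 + (coord a b y).2.1 := by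
  obtain ⟨s, rfl⟩ := hx
  obtain ⟨t, rfl⟩ := hy
  rw [W.F_mul, W.coord_F, W.coord_F, W.coord_F]
  exact ⟨rfl, rfl⟩

theorem coord_pow {x : G} (hx : x ∈ W.U) (n : ℕ) :
    (coord a b (x ^ n)).1 = n * (coord a b x).1 ∧ (coord a b (x ^ n)).2.1 = n * (coord a b x).2.1 := by
  obtain ⟨⟨i, j, k⟩, rfl⟩ := hx
  rw [W.F_pow, W.coord_F, W.coord_F]
  exact ⟨rfl, rfl⟩

/-- The matrix of a normalising element. -/
noncomputable def mat (W : Wit a b g h) (n : W.N) : Matrix (Fin 2) (Fin 2) (ZMod 11) :=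
  !![(coord a b (n * a * (n : G)⁻¹)).1, (coord a b (n * b * (n : G)⁻¹)).1;
     (coord a b (n * a * (n : G)⁻¹)).2.1, (coord a b (n * b * (n : G)⁻¹)).2.1]

theorem conj_mem_U (n : W.N) {x : G} (hx : x ∈ W.U) : (n : G) * x * (n : G)⁻¹ ∈ W.U :=
  (Subgroup.mem_normalizer_iff.1 n.2 x).1 hx

theorem coord_conj (n : W.N) (i j k : ZMod 11) :
    (coord a b (n * F a b (i, j, k) * (n : G)⁻¹)).1 =
      i * (coord a b (n * a * (n : G)⁻¹)).1 + j * (coord a b (n * b * (n : G)⁻¹)).1 ∧
    (coord a b (n * F a b (i, j, k) * (n : G)⁻¹)).2.1 =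
      i * (coord a b (n * a * (n : G)⁻¹)).2.1 + j * (coord a b (n * b * (n : G)⁻¹)).2.1 := by
  set f := MulAut.conj (n : G)
  have hA := W.conj_mem_U n W.a_mem
  have hB := W.conj_mem_U n W.b_mem
  have hC : (f (cw a b)) ∈ W.U := W.conj_mem_U n ⟨_, W.F_c⟩
  have c0 : (coord a b (f (cw a b))).1 = 0 ∧ (coord a b (f (cw a b))).2.1 = 0 := by
    rw [cw, map_mul, map_mul, map_mul, map_pow, map_pow]
    have hA' : f a ∈ W.U := hA
    have hB' : f b ∈ W.U := hB
    rw [(W.coord_mul (mul_mem (mul_mem hA' hB') (pow_mem hA' 10)) (pow_mem hB' 10)).1,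
      (W.coord_mul (mul_mem (mul_mem hA' hB') (pow_mem hA' 10)) (pow_mem hB' 10)).2,
      (W.coord_mul (mul_mem hA' hB') (pow_mem hA' 10)).1, (W.coord_mul (mul_mem hA' hB') (pow_mem hA' 10)).2,
      (W.coord_mul hA' hB').1, (W.coord_mul hA' hB').2, (W.coord_pow hA' 10).1, (W.coord_pow hA' 10).2,
      (W.coord_pow hB' 10).1, (W.coord_pow hB' 10).2]
    have h10 : ((10 : ℕ) : ZMod 11) = -1 := by decide
    rw [h10]
    constructor <;> ring
  show (coord a b (f (F a b (i, j, k)))).1 = _ ∧ (coord a b (f (F a b (i, j, k)))).2.1 = _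
  rw [F, map_mul, map_mul, pw, pw, pw, map_pow, map_pow, map_pow]
  have hA' : f a ∈ W.U := hA
  have hB' : f b ∈ W.U := hB
  rw [(W.coord_mul (mul_mem (pow_mem hA' _) (pow_mem hB' _)) (pow_mem hC _)).1,
    (W.coord_mul (mul_mem (pow_mem hA' _) (pow_mem hB' _)) (pow_mem hC _)).2,
    (W.coord_mul (pow_mem hA' _) (pow_mem hB' _)).1, (W.coord_mul (pow_mem hA' _) (pow_mem hB' _)).2,
    (W.coord_pow hA' _).1, (W.coord_pow hA' _).2, (W.coord_pow hB' _).1, (W.coord_pow hB' _).2,
    (W.coord_pow hC _).1, (W.coord_pow hC _).2, c0.1, c0.2, ZMod.natCast_zmod_val, ZMod.natCast_zmod_val]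
  constructor <;> simp [f]

theorem mat_one : W.mat 1 = 1 := by
  have ea : coord a b a = (1, 0, 0) := by conv_lhs => arg 3; rw [← W.F_a]
                                          exact W.coord_F _
  have eb : coord a b b = (0, 1, 0) := by conv_lhs => arg 3; rw [← W.F_b]
                                          exact W.coord_F _
  simp [mat, ea, eb, Matrix.one_fin_two]

theorem mat_mul (m n : W.N) : W.mat (m * n) = W.mat m * W.mat n := by
  have key : ∀ x ∈ W.U, (coord a b ((m : G) * n * x * ((m : G) * n)⁻¹)).1 =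
      (coord a b ((n : G) * x * (n : G)⁻¹)).1 * (coord a b (m * a * (m : G)⁻¹)).1 +
        (coord a b ((n : G) * x * (n : G)⁻¹)).2.1 * (coord a b (m * b * (m : G)⁻¹)).1 ∧
      (coord a b ((m : G) * n * x * ((m : G) * n)⁻¹)).2.1 =
      (coord a b ((n : G) * x * (n : G)⁻¹)).1 * (coord a b (m * a * (m : G)⁻¹)).2.1 +
        (coord a b ((n : G) * x * (n : G)⁻¹)).2.1 * (coord a b (m * b * (m : G)⁻¹)).2.1 := by
    intro x hx
    have e : (m : G) * n * x * ((m : G) * n)⁻¹ = m * ((n : G) * x * (n : G)⁻¹) * (m : G)⁻¹ := by group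
    rw [e]
    obtain ⟨⟨i, j, k⟩, ht⟩ := W.conj_mem_U n hx
    rw [← ht, W.coord_F]
    exact W.coord_conj m i j k
  obtain ⟨p1, p2⟩ := key a W.a_mem
  obtain ⟨q1, q2⟩ := key b W.b_mem
  simp only [mat, Subgroup.coe_mul, Matrix.mul_fin_two, p1, p2, q1, q2]
  ext r s
  fin_cases r <;> fin_cases s <;> simp <;> ring

/-- The action on the quotient. -/
noncomputable def act (W : Wit a b g h) : W.N →* GL (Fin 2) (ZMod 11) :=
  MonoidHom.toHomUnits ⟨⟨W.mat, W.mat_one⟩, W.mat_mul⟩

theorem act_val (n : W.N) : (W.act n : Matrix (Fin 2) (Fin 2) (ZMod 11)) = W.mat n := rfl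

variable [Finite G]

theorem mat_g : W.mat ⟨g, W.g_mem⟩ = genMat 0 := by
  simp only [mat, W.conj_eq W.ga, W.conj_eq W.gb, W.coord_F]
  rfl

theorem mat_h (k : ℕ) (hk : k ≠ 0) : W.mat ⟨h, W.h_mem⟩ = genMat k := by
  simp only [mat, W.conj_eq W.ha, W.conj_eq W.hb, W.coord_F]
  simp [genMat, genQ, toMat, hk]

theorem word_mem (w : List ℕ) : ∃ n : W.N, W.mat n = (w.map genMat).prod := by
  induction w with
  | nil => exact ⟨1, W.mat_one⟩
  | cons k w ih =>
    obtain ⟨n, hn⟩ := ih
    by_cases hk : k = 0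
    · exact ⟨⟨g, W.g_mem⟩ * n, by rw [W.mat_mul, W.mat_g, hn, hk, List.map_cons, List.prod_cons]⟩
    · exact ⟨⟨h, W.h_mem⟩ * n, by rw [W.mat_mul, W.mat_h k hk, hn, List.map_cons, List.prod_cons]⟩

end Wit

/-- The hypotheses on the whole group. -/
structure Ambient (G : Type u) [Group G] : Prop where
  card : Nat.card G = 86775571046077562880
  small : ∀ x : G, (orderOf x = 2 ∨ orderOf x = 3) → ¬ 11 ^ 3 ∣ Nat.card (Subgroup.centralizer ({x} : Set G))

theorem Ambient.dvd_eleven (A : Ambient G) {n : ℕ} (h : n ∣ Nat.card G) (hn : ∀ r, r.Prime → r ∣ n → r = 11) :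
    n ∣ 11 ^ 3 := by
  rw [A.card] at h
  have h0 : n ≠ 0 := fun e => by subst e; simp at h
  obtain ⟨k, -, rfl⟩ : ∃ k, k ≤ n ∧ n = 11 ^ k := ⟨n.primeFactorsList.length, by
    refine ⟨?_, Nat.eq_prime_pow_of_unique_prime_dvd h0 (fun {r} hr hd => hn r hr hd)⟩
    calc n.primeFactorsList.length ≤ 2 ^ n.primeFactorsList.length := Nat.lt_two_pow_self.le
      _ ≤ n.primeFactorsList.prod := List.pow_card_le_prod _ _ fun r hr => (Nat.prime_of_mem_primeFactorsList hr).two_le
      _ = n := Nat.prod_primeFactorsList h0⟩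
  refine Nat.pow_dvd_pow 11 ?_
  by_contra hk
  exact absurd ((Nat.pow_dvd_pow 11 (show 4 ≤ k by omega)).trans h) (by norm_num)

namespace Wit

variable [Finite G] {a b g h : G} (W : Wit a b g h) (A : Ambient G)

include W A

theorem cent_prime {x : G} (hxa : x * a = a * x) (hxb : x * b = b * x) {r : ℕ} (hr : r.Prime)
    (hxr : x ^ r = 1) (hx1 : x ≠ 1) : r = 11 ∨ r = 31 := by
  haveI : Fact r.Prime := ⟨hr⟩
  have ho : orderOf x = r := orderOf_eq_prime hxr hx1
  have hle : W.U ≤ Subgroup.centralizer ({x} : Set G) := W.le_of_gens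
    (Subgroup.mem_centralizer_singleton_iff.2 hxa.symm) (Subgroup.mem_centralizer_singleton_iff.2 hxb.symm)
  have hd := Subgroup.card_dvd_of_le hle
  rw [W.card_U] at hd
  rcases W.cent x r hr hxa hxb hxr hx1 with h | h | h | h
  · exact absurd hd (A.small x (Or.inl (ho.trans h)))
  · exact absurd hd (A.small x (Or.inr (ho.trans h)))
  · exact Or.inl h
  · exact Or.inr h

/-- An element acting trivially is one of the Sylow subgroup times one centralising it. -/
theorem exists_cent {n : W.N} (hn : n ∈ W.act.ker) :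
    ∃ u ∈ W.U, u * (n : G) ∈ Subgroup.centralizer ({a, b} : Set G) := by
  have hm : W.mat n = 1 := congrArg Units.val hn
  obtain ⟨⟨i, j, k⟩, ea⟩ := W.conj_mem_U n W.a_mem
  obtain ⟨⟨i', j', k'⟩, eb⟩ := W.conj_mem_U n W.b_mem
  have h1 := congrFun (congrFun hm 0) 0
  have h2 := congrFun (congrFun hm 0) 1
  have h3 := congrFun (congrFun hm 1) 0
  have h4 := congrFun (congrFun hm 1) 1
  simp [mat, ← ea, ← eb, W.coord_F] at h1 h2 h3 h4
  subst i j i' j'
  set u := F a b (-k', k, 0) with hu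
  have hua : u * F a b (1, 0, k) = a * u := by
    conv_rhs => rw [← W.F_a]
    rw [W.F_mul, hu, W.F_mul]
    refine congrArg _ (Prod.ext (by ring) (Prod.ext (by ring) ?_))
    ring
  have hub : u * F a b (0, 1, k') = b * u := by
    conv_rhs => rw [← W.F_b]
    rw [W.F_mul, hu, W.F_mul]
    refine congrArg _ (Prod.ext (by ring) (Prod.ext (by ring) ?_))
    ring
  have hc : u * n ∈ Subgroup.centralizer ({a, b} : Set G) := by
    rw [Subgroup.mem_centralizer_iff]
    intro y hy
    rcases hy with rfl | rfl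
    · rw [← mul_assoc, ← hua, mul_assoc u, ea]; group
    · rw [← mul_assoc, ← hub, mul_assoc u, eb]; group
  exact ⟨u, W.F_mem _, hc⟩

theorem cent_le_N : Subgroup.centralizer ({a, b} : Set G) ≤ W.N := fun x hx => by
  have hx' := Subgroup.mem_centralizer_iff.1 hx
  refine W.mem_N ?_ ?_
  · rw [← hx' a (by simp), mul_inv_cancel_right]; exact W.a_mem
  · rw [← hx' b (by simp), mul_inv_cancel_right]; exact W.b_mem

theorem card_ker_dvd : Nat.card W.act.ker ∣ 11 ^ 3 * 31 := by
  set C := Subgroup.centralizer ({a, b} : Set G) with hC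
  have h31 : ∀ m, m ∣ Nat.card G → (∀ r, r.Prime → r ∣ m → r = 11 ∨ r = 31) → m ∣ 11 ^ 3 * 31 := by
    intro m hm hp
    have h0 : m ≠ 0 := fun e => by subst e; rw [A.card] at hm; simp at hm
    rw [← Nat.factorization_le_iff_dvd h0 (by norm_num)]
    intro r
    by_cases hr : r.Prime ∧ r ∣ m
    · rcases hp r hr.1 hr.2 with rfl | rfl
      · refine ((Nat.factorization_le_iff_dvd h0 (by rw [A.card]; norm_num)).2 hm 11).trans ?_
        rw [A.card, Nat.factorization_mul (by norm_num) (by norm_num), Finsupp.add_apply, Nat.factorization_pow]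
        norm_num [show (86775571046077562880 : ℕ).factorization 11 = 3 by
          rw [show (86775571046077562880 : ℕ) = 11 ^ 3 * 65195770883604480 by norm_num,
            Nat.factorization_mul (by norm_num) (by norm_num), Finsupp.add_apply, Nat.factorization_pow,
            Nat.factorization_eq_zero_of_not_dvd (show ¬ 11 ∣ 65195770883604480 by norm_num)]
          simp [Nat.Prime.factorization (show Nat.Prime 11 by norm_num)]]
      · refine ((Nat.factorization_le_iff_dvd h0 (by rw [A.card]; norm_num)).2 hm 31).trans ?_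
        rw [A.card, show (86775571046077562880 : ℕ) = 31 * 2799211969228308480 by norm_num,
          Nat.factorization_mul (by norm_num) (by norm_num), Finsupp.add_apply,
          Nat.factorization_eq_zero_of_not_dvd (show ¬ 31 ∣ 2799211969228308480 by norm_num),
          Nat.factorization_mul (by norm_num) (by norm_num), Finsupp.add_apply]
        simp
    · rw [Nat.factorization_eq_zero_iff m r |>.2 (by tauto)]
      exact Nat.zero_le _
  refine h31 _ ?_ fun r hr hd => ?_
  · exact (Subgroup.card_subgroup_dvd_card _).trans (Subgroup.card_subgroup_dvd_card _)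
  · haveI : Fact r.Prime := ⟨hr⟩
    by_cases h11 : r = 11
    · exact Or.inl h11
    -- an element of order prime to eleven in the kernel gives one in the centraliser
    have hd2 : r ∣ Nat.card C := by
      set U' := W.U.subgroupOf W.N
      haveI : U'.Normal := Subgroup.normal_in_normalizer
      obtain ⟨n, hn⟩ := exists_prime_orderOf_dvd_card' r hd
      obtain ⟨u, hu, hc⟩ := W.exists_cent A n.2
      let y : W.N := ⟨u, Subgroup.le_normalizer hu⟩ * n.1
      have hy : (QuotientGroup.mk y : W.N ⧸ U') = QuotientGroup.mk n.1 := by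
        rw [QuotientGroup.mk_mul, (QuotientGroup.eq_one_iff _).2 (show (⟨u, _⟩ : W.N) ∈ U' from hu), one_mul]
      have hor : orderOf (QuotientGroup.mk n.1 : W.N ⧸ U') = r := by
        refine orderOf_eq_prime ?_ fun e => ?_
        · rw [← QuotientGroup.mk_pow, ← hn, ← Subgroup.coe_pow, pow_orderOf_eq_one]
          rfl
        · have hU : ((n.1 : W.N) : G) ^ 11 = 1 := W.pow_eleven (show (n.1 : W.N) ∈ U' from (QuotientGroup.eq_one_iff _).1 e)
          have h' : orderOf n ∣ 11 := orderOf_dvd_of_pow_eq_one (Subtype.ext (Subtype.ext hU))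
          rw [hn] at h'
          exact h11 ((Nat.prime_dvd_prime_iff_eq hr (by norm_num)).1 h')
      have h1 : r ∣ orderOf (y : G) := by
        rw [Subgroup.orderOf_coe, ← hor, ← hy]
        exact orderOf_map_dvd (QuotientGroup.mk' U') y
      have h2 : orderOf (y : G) ∣ Nat.card C := by
        rw [show (y : G) = ((⟨u * (n.1 : G), hc⟩ : C) : G) from rfl, Subgroup.orderOf_coe]
        exact orderOf_dvd_natCard _
      exact h1.trans h2
    obtain ⟨x, hx⟩ := exists_prime_orderOf_dvd_card' r hd2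
    have hx' := Subgroup.mem_centralizer_iff.1 x.2
    exact W.cent_prime A (hx' a (by simp)).symm (hx' b (by simp)).symm hr
      (by rw [← hx, ← Subgroup.orderOf_coe]; exact pow_orderOf_eq_one _)
      (fun e => hr.ne_one (by rw [← hx, show x = 1 from Subtype.ext e, orderOf_one]))

theorem card_range : Nat.card W.act.range = 240 := by
  haveI : Fact (Nat.Prime 11) := ⟨by norm_num⟩
  set I := W.act.range
  have hGL : Nat.card (GL (Fin 2) (ZMod 11)) = 13200 := by
    rw [Matrix.card_GL_field]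
    simp [ZMod.card, Fin.prod_univ_two]
  have hd1 : Nat.card I ∣ 13200 := hGL ▸ Subgroup.card_subgroup_dvd_card _
  -- the order of the normaliser
  have hN : Nat.card W.N = Nat.card W.act.ker * Nat.card I := by
    rw [Subgroup.card_eq_card_quotient_mul_card_subgroup W.act.ker,
      Nat.card_congr (QuotientGroup.quotientKerEquivRange W.act).toEquiv, mul_comm]
  have hUN : (W.U).subgroupOf W.N ≤ W.act.ker := by
    intro n hn
    refine Units.ext ?_
    rw [W.act_val]
    obtain ⟨⟨i, j, k⟩, e⟩ := (Subgroup.mem_subgroupOf.1 hn : (n : G) ∈ W.U)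
    have key : ∀ x ∈ W.U, (coord a b ((n : G) * x * (n : G)⁻¹)).1 = (coord a b x).1 ∧
        (coord a b ((n : G) * x * (n : G)⁻¹)).2.1 = (coord a b x).2.1 := by
      intro x hx
      have hn' : (n : G) ∈ W.U := Subgroup.mem_subgroupOf.1 hn
      have e1 := W.coord_mul (mul_mem hn' hx) (inv_mem hn')
      have e2 := W.coord_mul hn' hx
      have e3 := W.coord_mul hn' (inv_mem hn')
      have z : coord a b (1 : G) = (0, 0, 0) := by rw [← W.F_zero, W.coord_F]
      rw [mul_inv_cancel, z] at e3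
      constructor
      · rw [e1.1, e2.1]; linear_combination -e3.1
      · rw [e1.2, e2.2]; linear_combination -e3.2
    have ea : coord a b a = (1, 0, 0) := by
      conv_lhs => arg 3; rw [← W.F_a]
      exact W.coord_F _
    have eb : coord a b b = (0, 1, 0) := by
      conv_lhs => arg 3; rw [← W.F_b]
      exact W.coord_F _
    simp [mat, (key a W.a_mem).1, (key a W.a_mem).2, (key b W.b_mem).1, (key b W.b_mem).2, ea, eb,
      Matrix.one_fin_two]
  have h1331 : 11 ^ 3 ∣ Nat.card W.act.ker := by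
    have := Subgroup.card_dvd_of_le hUN
    rwa [Nat.card_congr (Subgroup.subgroupOfEquivOfLe Subgroup.le_normalizer).toEquiv, W.card_U] at this
  have hd2 : Nat.card I * 11 ^ 3 ∣ 86775571046077562880 := by
    rw [← A.card, mul_comm]
    exact (Nat.mul_dvd_mul_right h1331 _).trans (hN ▸ Subgroup.card_subgroup_dvd_card _)
  have hd3 : Nat.card I ∣ 240 := by
    have h' : Nat.card I ∣ 65195770883604480 :=
      Nat.dvd_of_mul_dvd_mul_right (show 0 < 11 ^ 3 by norm_num)
        (show Nat.card I * 11 ^ 3 ∣ 65195770883604480 * 11 ^ 3 by norm_num at hd2 ⊢; exact hd2)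
    have := Nat.dvd_gcd hd1 h'
    norm_num at this
    exact this
  -- GL₂(3) and an element of order five
  have h48 : 48 ∣ Nat.card I := by
    let φ : GL (Fin 2) (ZMod 3) →* GL (Fin 2) (ZMod 11) := glMat.toHomUnits
    have hle : φ.range ≤ I := by
      rintro _ ⟨m, rfl⟩
      obtain ⟨w, hw⟩ := glMat_mem m
      obtain ⟨n, hn⟩ := W.word_mem w
      exact ⟨n, Units.ext (by rw [W.act_val, hn, ← hw]; rfl)⟩
    have hinj : Function.Injective φ := fun m m' e => glMat_injective (congrArg Units.val e)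
    have h := Subgroup.card_dvd_of_le hle
    haveI : Fact (Nat.Prime 3) := ⟨Nat.prime_three⟩
    rw [← Nat.card_congr (MonoidHom.ofInjective hinj).toEquiv, Matrix.card_GL_field] at h
    simpa [ZMod.card, Fin.prod_univ_two] using h
  have h5 : 5 ∣ Nat.card I := by
    haveI : Fact (Nat.Prime 5) := ⟨by norm_num⟩
    obtain ⟨n, hn⟩ := W.word_mem (List.replicate 8 0)
    have e5 : (⟨W.act n, n, rfl⟩ : I) ^ 5 = 1 := by
      refine Subtype.ext (Units.ext ?_)
      show (W.act n : Matrix (Fin 2) (Fin 2) (ZMod 11)) ^ 5 = 1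
      rw [W.act_val, hn, List.map_replicate, List.prod_replicate, ← pow_mul, ← List.prod_replicate,
        ← List.map_replicate, ← toMat_wordQ, eqQ_iff five.1, toMat_one]
    have e1 : (⟨W.act n, n, rfl⟩ : I) ≠ 1 := fun e => by
      have e' : W.mat n = 1 := congrArg Units.val (congrArg Subtype.val e)
      rw [hn, ← toMat_wordQ, ← toMat_one 11, show ((1, 0, 0, 1) : Q4) = wordQ [] from rfl] at e'
      have := wordQ_inj e'
      have h5 := five.2
      rw [this] at h5
      exact absurd h5 (by decide)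
    exact orderOf_eq_prime e5 e1 ▸ orderOf_dvd_natCard _
  exact Nat.dvd_antisymm hd3 ((show Nat.Coprime 48 5 by norm_num).mul_dvd_of_dvd_of_dvd h48 h5)

/-- The Sylow subgroup. -/
noncomputable def sylow : Sylow 11 G :=
  haveI : Fact (Nat.Prime 11) := ⟨by norm_num⟩
  Sylow.ofCard W.U (by
    rw [W.card_U, A.card, show (86775571046077562880 : ℕ) = 11 ^ 3 * 65195770883604480 by norm_num,
      Nat.factorization_mul (by norm_num) (by norm_num), Finsupp.add_apply, Nat.factorization_pow,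
      Nat.factorization_eq_zero_of_not_dvd (show ¬ 11 ∣ 65195770883604480 by norm_num)]
    simp [Nat.Prime.factorization (show Nat.Prime 11 by norm_num)])

theorem card_N : Nat.card W.N = 2 ^ 4 * 3 * 5 * 11 ^ 3 := by
  haveI : Fact (Nat.Prime 11) := ⟨by norm_num⟩
  have hN : Nat.card W.N = Nat.card W.act.ker * 240 := by
    rw [← W.card_range A, Subgroup.card_eq_card_quotient_mul_card_subgroup W.act.ker,
      Nat.card_congr (QuotientGroup.quotientKerEquivRange W.act).toEquiv, mul_comm]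
  have hU : 11 ^ 3 ∣ Nat.card W.N := W.card_U ▸ Subgroup.card_dvd_of_le Subgroup.le_normalizer
  obtain ⟨k, hk⟩ := W.card_ker_dvd A
  rw [hN] at hU
  obtain ⟨l, hl⟩ : 11 ^ 3 ∣ Nat.card W.act.ker :=
    (show Nat.Coprime (11 ^ 3) 240 by norm_num).dvd_of_dvd_mul_right hU
  have hl31 : l ∣ 31 := by
    refine Nat.dvd_of_mul_dvd_mul_left (show 0 < 11 ^ 3 by norm_num) ?_
    rw [← hl]; exact ⟨k, hk⟩
  have hidx := (W.N).card_mul_index
  have hcs := (W.sylow A).card_eq_index_normalizer
  have hmod := card_sylow_modEq_one (p := 11) (G := G)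
  rw [hcs] at hmod
  rw [hN, hl, A.card] at hidx
  have hmod' : (W.N).index % 11 = 1 := hmod
  rcases (Nat.dvd_prime (by norm_num)).1 hl31 with rfl | rfl
  · rw [hN, hl]; norm_num
  · exfalso
    have : (W.N).index = 86775571046077562880 / (11 ^ 3 * 31 * 240) := by omega
    rw [this] at hmod'
    norm_num at hmod'

theorem ker_act : W.act.ker.map W.N.subtype = W.U := by
  have hk : Nat.card W.act.ker = 11 ^ 3 := by
    have hN := W.card_N A
    rw [Subgroup.card_eq_card_quotient_mul_card_subgroup W.act.ker,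
      Nat.card_congr (QuotientGroup.quotientKerEquivRange W.act).toEquiv, W.card_range A] at hN
    omega
  haveI : Fact (Nat.Prime 11) := ⟨by norm_num⟩
  have hP : IsPGroup 11 ↥(W.act.ker.map W.N.subtype) :=
    IsPGroup.of_card (n := 3) (by rw [Subgroup.card_map_of_injective W.N.subtype_injective, hk])
  have hsup : IsPGroup 11 ↥(W.act.ker.map W.N.subtype ⊔ W.U) :=
    hP.to_sup_of_normal_right' (IsPGroup.of_card W.card_U) (by
      rintro _ ⟨n, -, rfl⟩; exact n.2)
  have e := (W.sylow A).3 hsup (show W.U ≤ _ from le_sup_right)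
  refine Subgroup.eq_of_le_of_card_ge (le_sup_left.trans e.le) ?_
  rw [Subgroup.card_map_of_injective W.N.subtype_injective, hk, W.card_U]

/-- A subgroup of the normaliser isomorphic to `GL₂(3)`. -/
theorem exists_gl : ∃ K : Subgroup G, K ≤ W.N ∧ Nonempty (↥K ≃* GL (Fin 2) (ZMod 3)) := by
  set U' := W.U.subgroupOf W.N
  haveI : U'.Normal := Subgroup.normal_in_normalizer
  have hcU : Nat.card U' = 11 ^ 3 := by
    rw [Nat.card_congr (Subgroup.subgroupOfEquivOfLe Subgroup.le_normalizer).toEquiv, W.card_U]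
  have hidx : U'.index = 240 := by
    have := U'.card_mul_index
    rw [hcU, W.card_N A] at this
    omega
  obtain ⟨H, hH⟩ := Subgroup.exists_right_complement'_of_coprime (N := U') (by rw [hcU, hidx]; norm_num)
  have hker : W.act.ker = U' := by
    refine Subgroup.map_injective W.N.subtype_injective ?_
    rw [W.ker_act A, Subgroup.map_subgroupOf_eq_of_le Subgroup.le_normalizer]
  set ψ := W.act.comp H.subtype
  have hinj : Function.Injective ψ := by
    rw [injective_iff_map_eq_one]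
    intro x hx
    have : (x : W.N) ∈ U' ⊓ H := ⟨hker ▸ hx, x.2⟩
    rw [hH.disjoint.eq_bot, Subgroup.mem_bot] at this
    exact Subtype.ext this
  let φ : GL (Fin 2) (ZMod 3) →* GL (Fin 2) (ZMod 11) := glMat.toHomUnits
  have hle : φ.range ≤ ψ.range := by
    rintro _ ⟨m, rfl⟩
    obtain ⟨w, hw⟩ := glMat_mem m
    obtain ⟨n, hn⟩ := W.word_mem w
    obtain ⟨⟨u, x⟩, e, -⟩ := hH.existsUnique n
    refine ⟨x, Units.ext ?_⟩
    have hu : W.act (u : W.N) = 1 := by
      rw [← MonoidHom.mem_ker, hker]; exact u.2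
    have e' : W.act n = W.act (x : W.N) := by rw [← e, map_mul, hu, one_mul]
    show (W.act (x : W.N) : Matrix (Fin 2) (Fin 2) (ZMod 11)) = _
    rw [← e', W.act_val, hn, ← hw]; rfl
  have hφ : Function.Injective φ := fun m m' e => glMat_injective (congrArg Units.val e)
  let K₀ : Subgroup H := φ.range.comap ψ
  refine ⟨(K₀.map H.subtype).map W.N.subtype, Subgroup.map_subtype_le _, ⟨?_⟩⟩
  refine ((Subgroup.equivMapOfInjective _ _ W.N.subtype_injective).symm.trans
    (Subgroup.equivMapOfInjective _ _ H.subtype_injective).symm).trans ?_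
  let e1 : K₀ ≃* φ.range := MulEquiv.ofBijective
    ((ψ.comp K₀.subtype).codRestrict φ.range fun x => x.2)
    ⟨fun x y e => Subtype.ext (hinj (congrArg Subtype.val e)), fun y => by
      obtain ⟨x, hx⟩ := hle y.2
      exact ⟨⟨x, show ψ x ∈ φ.range from hx ▸ y.2⟩, Subtype.ext hx⟩⟩
  exact e1.trans (MonoidHom.ofInjective hφ).symm

/-- Every element of order eleven is conjugate to the commutator or to the second generator. -/
theorem classes {w : G} (hw : orderOf w = 11) : IsConj w (cw a b) ∨ IsConj w b := by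
  haveI : Fact (Nat.Prime 11) := ⟨by norm_num⟩
  have hP : IsPGroup 11 ↥(Subgroup.zpowers w) :=
    IsPGroup.of_card (n := 1) (by rw [Nat.card_zpowers, hw, pow_one])
  obtain ⟨S, hS⟩ := hP.exists_le_sylow
  obtain ⟨m, hm⟩ := MulAction.exists_smul_eq G S (W.sylow A)
  have hwU : m * w * m⁻¹ ∈ W.U := by
    have : MulAut.conj m • w ∈ (m • S : Sylow 11 G).1 :=
      Subgroup.smul_mem_pointwise_smul _ _ _ (hS (Subgroup.mem_zpowers w))
    rw [hm] at this
    exact this
  have hwc : IsConj w (m * w * m⁻¹) := isConj_iff.2 ⟨m, rfl⟩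
  obtain ⟨⟨i, j, k⟩, e⟩ := hwU
  have hne : F a b (i, j, k) ≠ 1 := by
    rw [e, Ne, conj_eq_one_iff]
    intro h1; rw [h1, orderOf_one] at hw; norm_num at hw
  by_cases h0 : i = 0 ∧ j = 0
  · obtain ⟨rfl, rfl⟩ := h0
    refine Or.inl (hwc.trans ?_)
    rw [← e]
    have hk : k ≠ 0 := fun hk => hne (by rw [hk, W.F_zero])
    have hk1 : 1 ≤ k.val := Nat.pos_of_ne_zero fun h => hk ((ZMod.val_eq_zero k).1 h)
    obtain ⟨r, hr, hrk⟩ := List.any_eq_true.1
      (List.all_eq_true.1 two_gen (k.val - 1) (List.mem_range.2 (by have := ZMod.val_lt k; omega)))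
    have hr' : 2 ^ r % 11 = k.val := by
      have := Nat.eq_of_beq_eq_true hrk
      omega
    have hgc : g * cw a b * g⁻¹ = cw a b ^ 2 := by
      have ea := W.conj_eq W.ga
      have eb := W.conj_eq W.gb
      have e0 : g * cw a b * g⁻¹ = g * a * g⁻¹ * (g * b * g⁻¹) * (g * a * g⁻¹) ^ 10 * (g * b * g⁻¹) ^ 10 := by
        rw [conj_pow, conj_pow, cw]; group
      rw [e0, ea, eb, W.F_pow, W.F_pow, W.F_mul, W.F_mul, W.F_mul, ← W.F_c, W.F_pow]
      exact congrArg _ (by decide)
    have hp : ∀ r : ℕ, g ^ r * cw a b * (g ^ r)⁻¹ = cw a b ^ 2 ^ r := by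
      intro r
      induction r with
      | zero => simp
      | succ r ih =>
        rw [pow_succ', show g * g ^ r * cw a b * (g * g ^ r)⁻¹ = g * (g ^ r * cw a b * (g ^ r)⁻¹) * g⁻¹ by group,
          ih, ← conj_pow, hgc, ← pow_mul, pow_succ']
    refine IsConj.symm (isConj_iff.2 ⟨g ^ r, ?_⟩)
    rw [hp r, pow_eq_pow_mod _ W.c11, hr']
    simp [F, pw]
  · refine Or.inr (hwc.trans ?_)
    rw [← e]
    suffices key : ∀ i j k : ZMod 11, ¬ (i = 0 ∧ j = 0) → IsConj (F a b (i, j, k)) a by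
      have hb := key 0 1 0 (fun h => one_ne_zero h.2)
      rw [W.F_b] at hb
      exact (key i j k h0).trans hb.symm
    intro i j k h0
    have hi := List.all_eq_true.1 (List.all_eq_true.1 trans i.val (List.mem_range.2 (ZMod.val_lt i))) j.val
      (List.mem_range.2 (ZMod.val_lt j))
    rcases Bool.or_eq_true _ _ ▸ hi with h' | h'
    · exfalso
      rw [Bool.and_eq_true] at h'
      exact h0 ⟨(ZMod.val_eq_zero i).1 (Nat.eq_of_beq_eq_true h'.1), (ZMod.val_eq_zero j).1 (Nat.eq_of_beq_eq_true h'.2)⟩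
    · obtain ⟨t, -, ht⟩ := List.any_eq_true.1 h'
      simp only [Bool.and_eq_true] at ht
      obtain ⟨⟨-, hti⟩, htj⟩ := ht
      obtain ⟨n, hn⟩ := W.word_mem t.2
      obtain ⟨⟨i', j', k'⟩, en⟩ := W.conj_mem_U n W.a_mem
      rw [← toMat_wordQ] at hn
      have h1 := congrFun (congrFun hn 0) 0
      have h2 := congrFun (congrFun hn 1) 0
      simp [mat, ← en, W.coord_F, toMat, Nat.eq_of_beq_eq_true hti, Nat.eq_of_beq_eq_true htj] at h1 h2
      subst i' j'
      have hconj : IsConj a (F a b (i, j, k')) := isConj_iff.2 ⟨n, en.symm⟩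
      obtain ⟨x, y, hxy⟩ : ∃ x y : ZMod 11, x * j - i * y = k - k' := by
        by_cases hi : i = 0
        · exact ⟨(k - k') * j⁻¹, 0, by
            rw [mul_zero, sub_zero, mul_assoc, inv_mul_cancel₀ (fun hj => h0 ⟨hi, hj⟩), mul_one]⟩
        · exact ⟨0, -((k - k') * i⁻¹), by
            rw [zero_mul, zero_sub, mul_neg, neg_neg, ← mul_assoc, mul_comm i, mul_assoc, mul_inv_cancel₀ hi, mul_one]⟩
      refine (hconj.trans ?_).symm
      refine isConj_iff.2 ⟨F a b (x, y, 0), ?_⟩
      rw [mul_inv_eq_iff_eq_mul, W.F_mul, W.F_mul]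
      refine congrArg _ (Prod.ext (by ring) (Prod.ext (by ring) ?_))
      linear_combination hxy

theorem two_classes : ∃ x y : G, orderOf x = 11 ∧ orderOf y = 11 ∧ ¬ IsConj x y ∧
    ∀ w : G, orderOf w = 11 → IsConj w x ∨ IsConj w y := by
  haveI : Fact (Nat.Prime 11) := ⟨by norm_num⟩
  refine ⟨cw a b, b, orderOf_eq_prime W.c11 W.c_ne, orderOf_eq_prime W.b11 fun e => ?_, W.not_conj,
    fun w hw => W.classes A hw⟩
  refine W.c_ne ?_
  rw [W.cw_eq, e]
  group

theorem sylow_facts (S : Sylow 11 G) :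
    Cfsg.IsExtraspecial 11 ↥(S : Subgroup G) ∧ Nat.card ↥(S : Subgroup G) = 11 ^ 3 ∧
    Monoid.exponent ↥(S : Subgroup G) = 11 ∧
    Nat.card ↥(Subgroup.normalizer ((S : Subgroup G) : Set G)) = 2 ^ 4 * 3 * 5 * 11 ^ 3 ∧
    ∃ K : Subgroup G, K ≤ Subgroup.normalizer ((S : Subgroup G) : Set G) ∧
      Nonempty (↥K ≃* GL (Fin 2) (ZMod 3)) := by
  haveI : Fact (Nat.Prime 11) := ⟨by norm_num⟩
  obtain ⟨m, hm⟩ := MulAction.exists_smul_eq G (W.sylow A) S
  set f := (MulAut.conj m).toMonoidHom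
  have hS : (S : Subgroup G) = W.U.map f := by rw [← hm, Sylow.coe_subgroup_smul]; rfl
  have hN : Subgroup.normalizer ((S : Subgroup G) : Set G) = W.N.map f := by
    rw [hS]; exact (Subgroup.map_equiv_normalizer_eq W.U (MulAut.conj m)).symm
  let e := Subgroup.equivMapOfInjective W.U f (MulAut.conj m).injective
  obtain ⟨K, hK, ⟨eK⟩⟩ := W.exists_gl A
  rw [hN, hS]
  refine ⟨CfsgLib.LargeExtra.isExtraspecial_of_equiv e W.extraspecial_U, ?_, ?_, ?_, ?_⟩
  · rw [← Nat.card_congr e.toEquiv, W.card_U]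
  · rw [← Monoid.exponent_eq_of_mulEquiv e, W.exponent_U]
  · rw [Subgroup.card_map_of_injective (MulAut.conj m).injective, W.card_N A]
  · exact ⟨K.map f, Subgroup.map_mono hK,
      ⟨(Subgroup.equivMapOfInjective K f (MulAut.conj m).injective).symm.trans eK⟩⟩

end Wit

end CfsgLib.J4Type.Sym.Eleven
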