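import Mathlib
import Cfsg.Agent.Lib.J4Type.Sym.ElevenData

/-!
The finite group of two by two matrices modulo eleven induced on the Sylow subgroup for eleven: it contains
`GL₂(3)` and an element of order five and is transitive on the nonzero vectors.
-/
set_option autoImplicit false
set_option maxRecDepth 20000
set_option maxHeartbeats 4000000

namespace CfsgLib.J4Type.Sym.Eleven

/-- a packed matrix -/
abbrev Q4 : Type := ℕ × ℕ × ℕ × ℕ

/-- the product modulo `n` -/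
def mmQ (n : ℕ) (p q : Q4) : Q4 :=
  ((p.1 * q.1 + p.2.1 * q.2.2.1) % n, (p.1 * q.2.1 + p.2.1 * q.2.2.2) % n,
    (p.2.2.1 * q.1 + p.2.2.2 * q.2.2.1) % n, (p.2.2.1 * q.2.1 + p.2.2.2 * q.2.2.2) % n)

/-- the matrices of the two normalising elements -/
def genQ (k : ℕ) : Q4 := if Nat.beq k 0 then (10, 6, 9, 10) else (8, 8, 2, 3)

/-- the value of a word -/
def wordQ : List ℕ → Q4
  | [] => (1, 0, 0, 1)
  | k :: w => mmQ 11 (genQ k) (wordQ w)

/-- equality of packed matrices -/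
def eqQ (p q : Q4) : Bool :=
  Nat.beq p.1 q.1 && Nat.beq p.2.1 q.2.1 && Nat.beq p.2.2.1 q.2.2.1 && Nat.beq p.2.2.2 q.2.2.2

theorem eqQ_iff {p q : Q4} (h : eqQ p q = true) : p = q := by
  obtain ⟨a, b, c, d⟩ := p
  obtain ⟨a', b', c', d'⟩ := q
  simp only [eqQ, Bool.and_eq_true] at h
  obtain ⟨⟨⟨h1, h2⟩, h3⟩, h4⟩ := h
  rw [Nat.eq_of_beq_eq_true h1, Nat.eq_of_beq_eq_true h2, Nat.eq_of_beq_eq_true h3, Nat.eq_of_beq_eq_true h4]

theorem eqQ_refl (p : Q4) : eqQ p p = true := by simp [eqQ]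

/-- the word of an element of `GL₂(3)` -/
def glWord (p : Q4) : List ℕ := ((glWords.find? fun e => eqQ e.1 p).map Prod.snd).getD []

theorem gl_mul : (glWords.all fun e => glWords.all fun e' =>
    eqQ (mmQ 11 (wordQ e.2) (wordQ e'.2)) (wordQ (glWord (mmQ 3 e.1 e'.1))) &&
      (!eqQ (wordQ e.2) (wordQ e'.2) || eqQ e.1 e'.1)) = true := by
  decide +kernel

theorem gl_find : (glWords.all fun e => eqQ (wordQ (glWord e.1)) (wordQ e.2)) = true := by
  decide +kernel

theorem gl_all : ((List.range 3).all fun a => (List.range 3).all fun b => (List.range 3).all fun c =>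
    (List.range 3).all fun d => Nat.beq ((a * d + 2 * b * c) % 3) 0 || glWords.any fun e => eqQ e.1 (a, b, c, d)) =
      true := by
  decide +kernel

theorem gl_one : eqQ (wordQ (glWord (1, 0, 0, 1))) (1, 0, 0, 1) = true ∧ glWords.length = 48 := by
  decide +kernel

theorem words_small : ((glWords.all fun e => e.2.all fun k => Nat.blt k 2) &&
    trWords.all fun e => e.2.all fun k => Nat.blt k 2) = true := by
  decide +kernel

theorem five : eqQ (wordQ (List.replicate 40 0)) (1, 0, 0, 1) = true ∧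
    eqQ (wordQ (List.replicate 8 0)) (1, 0, 0, 1) = false := by
  decide +kernel

theorem trans : ((List.range 11).all fun i => (List.range 11).all fun j => (Nat.beq i 0 && Nat.beq j 0) ||
    trWords.any fun e => Nat.beq e.1.1 i && Nat.beq e.1.2 j &&
      Nat.beq (wordQ e.2).1 i && Nat.beq (wordQ e.2).2.2.1 j) = true := by
  decide +kernel

theorem two_gen : ((List.range 10).all fun k => (List.range 10).any fun m => Nat.beq (2 ^ m % 11) (k + 1)) = true := by
  decide +kernel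

/-- the matrix of a packed matrix -/
def toMat (n : ℕ) (p : Q4) : Matrix (Fin 2) (Fin 2) (ZMod n) :=
  !![(p.1 : ZMod n), (p.2.1 : ZMod n); (p.2.2.1 : ZMod n), (p.2.2.2 : ZMod n)]

theorem toMat_mmQ (n : ℕ) (p q : Q4) : toMat n (mmQ n p q) = toMat n p * toMat n q := by
  simp [toMat, mmQ]

theorem toMat_one (n : ℕ) : toMat n (1, 0, 0, 1) = 1 := by
  simp [toMat, Matrix.one_fin_two]

/-- the packed matrix of a matrix -/
def keyQ {n : ℕ} (m : Matrix (Fin 2) (Fin 2) (ZMod n)) : Q4 :=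
  ((m 0 0).val, (m 0 1).val, (m 1 0).val, (m 1 1).val)

theorem toMat_keyQ {n : ℕ} [NeZero n] (m : Matrix (Fin 2) (Fin 2) (ZMod n)) : toMat n (keyQ m) = m := by
  ext i j
  fin_cases i <;> fin_cases j <;> simp [toMat, keyQ]

theorem keyQ_toMat {n : ℕ} {p : Q4} (h1 : p.1 < n) (h2 : p.2.1 < n) (h3 : p.2.2.1 < n) (h4 : p.2.2.2 < n) :
    keyQ (toMat n p) = p := by
  simp [toMat, keyQ, ZMod.val_natCast, Nat.mod_eq_of_lt h1, Nat.mod_eq_of_lt h2, Nat.mod_eq_of_lt h3,
    Nat.mod_eq_of_lt h4]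

theorem wordQ_lt : ∀ w : List ℕ, (wordQ w).1 < 11 ∧ (wordQ w).2.1 < 11 ∧ (wordQ w).2.2.1 < 11 ∧ (wordQ w).2.2.2 < 11
  | [] => by decide
  | _ :: _ => ⟨Nat.mod_lt _ (by norm_num), Nat.mod_lt _ (by norm_num), Nat.mod_lt _ (by norm_num),
      Nat.mod_lt _ (by norm_num)⟩

theorem wordQ_inj {u w : List ℕ} (h : toMat 11 (wordQ u) = toMat 11 (wordQ w)) : wordQ u = wordQ w := by
  obtain ⟨a1, a2, a3, a4⟩ := wordQ_lt u
  obtain ⟨b1, b2, b3, b4⟩ := wordQ_lt w
  rw [← keyQ_toMat (n := 11) a1 a2 a3 a4, h, keyQ_toMat b1 b2 b3 b4]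

/-- the matrices of the two normalising elements -/
def genMat (k : ℕ) : Matrix (Fin 2) (Fin 2) (ZMod 11) := toMat 11 (genQ k)

theorem toMat_wordQ : ∀ w : List ℕ, toMat 11 (wordQ w) = (w.map genMat).prod
  | [] => by rw [wordQ, toMat_one]; rfl
  | k :: w => by rw [wordQ, toMat_mmQ, toMat_wordQ w, List.map_cons, List.prod_cons]; rfl

theorem keyQ_mul (m m' : Matrix (Fin 2) (Fin 2) (ZMod 3)) : keyQ (m * m') = mmQ 3 (keyQ m) (keyQ m') := by
  simp [keyQ, mmQ, Matrix.mul_apply, Fin.sum_univ_two, ZMod.val_add, ZMod.val_mul, Nat.add_mod, Nat.mul_mod]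

theorem exists_word (m : GL (Fin 2) (ZMod 3)) :
    ∃ e ∈ glWords, e.1 = keyQ (m : Matrix (Fin 2) (Fin 2) (ZMod 3)) := by
  set M := (m : Matrix (Fin 2) (Fin 2) (ZMod 3))
  have hd : M.det ≠ 0 := ((Matrix.isUnit_iff_isUnit_det M).1 ⟨m, rfl⟩).ne_zero
  have key : ∀ a b c d : ZMod 3, a * d - b * c ≠ 0 → (a.val * d.val + 2 * b.val * c.val) % 3 ≠ 0 := by decide
  have h := key _ _ _ _ (by rwa [Matrix.det_fin_two] at hd)
  have t := List.all_eq_true.1 (List.all_eq_true.1 (List.all_eq_true.1 (List.all_eq_true.1 gl_all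
    (M 0 0).val (List.mem_range.2 (ZMod.val_lt _))) (M 0 1).val (List.mem_range.2 (ZMod.val_lt _)))
    (M 1 0).val (List.mem_range.2 (ZMod.val_lt _))) (M 1 1).val (List.mem_range.2 (ZMod.val_lt _))
  rcases Bool.or_eq_true _ _ ▸ t with t | t
  · exact absurd (Nat.eq_of_beq_eq_true t) h
  · obtain ⟨e, he, t⟩ := List.any_eq_true.1 t
    exact ⟨e, he, eqQ_iff t⟩

/-- `GL₂(3)` as matrices modulo eleven. -/
def glMat : GL (Fin 2) (ZMod 3) →* Matrix (Fin 2) (Fin 2) (ZMod 11) where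
  toFun m := toMat 11 (wordQ (glWord (keyQ (m : Matrix (Fin 2) (Fin 2) (ZMod 3)))))
  map_one' := by
    have e : keyQ ((1 : GL (Fin 2) (ZMod 3)) : Matrix (Fin 2) (Fin 2) (ZMod 3)) = (1, 0, 0, 1) := by decide
    rw [e, eqQ_iff gl_one.1, toMat_one]
  map_mul' m m' := by
    obtain ⟨e, he, hk⟩ := exists_word m
    obtain ⟨e', he', hk'⟩ := exists_word m'
    rw [Units.val_mul, keyQ_mul, ← hk, ← hk', ← toMat_mmQ,
      eqQ_iff (List.all_eq_true.1 gl_find e he), eqQ_iff (List.all_eq_true.1 gl_find e' he')]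
    have := List.all_eq_true.1 (List.all_eq_true.1 gl_mul e he) e' he'
    rw [Bool.and_eq_true] at this
    rw [eqQ_iff this.1]

theorem glMat_injective : Function.Injective glMat := by
  intro m m' h
  obtain ⟨e, he, hk⟩ := exists_word m
  obtain ⟨e', he', hk'⟩ := exists_word m'
  have h' : toMat 11 (wordQ (glWord e.1)) = toMat 11 (wordQ (glWord e'.1)) := by rw [hk, hk']; exact h
  have h'' := wordQ_inj h'
  rw [eqQ_iff (List.all_eq_true.1 gl_find e he), eqQ_iff (List.all_eq_true.1 gl_find e' he')] at h''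
  have := List.all_eq_true.1 (List.all_eq_true.1 gl_mul e he) e' he'
  rw [Bool.and_eq_true, Bool.or_eq_true, h'', eqQ_refl] at this
  have e0 : e.1 = e'.1 := eqQ_iff (this.2.resolve_left (by simp))
  refine Units.ext ?_
  rw [← toMat_keyQ (m : Matrix (Fin 2) (Fin 2) (ZMod 3)), ← hk, e0, hk', toMat_keyQ]

theorem glMat_mem (m : GL (Fin 2) (ZMod 3)) :
    ∃ w : List ℕ, glMat m = (w.map genMat).prod :=
  ⟨_, toMat_wordQ _⟩

end CfsgLib.J4Type.Sym.Eleven
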