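import Cfsg.Agent.Lib.J4Type.Sym.ElevenCheck
import Cfsg.Agent.Lib.J4Type.Sym.ElevenGroup
import Cfsg.Agent.Lib.J4DCE.Linear
import Mathlib.GroupTheory.Perm.Cycle.Type

/-!
The witnesses in the fourth Janko group read off from the certificate: the centraliser of the two generators
has no elements of prime order other than `2, 3, 11, 31`, and the commutator is not conjugate to the second
generator.
-/
set_option autoImplicit false
set_option maxRecDepth 20000

namespace CfsgLib.J4Type.Sym.Eleven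

open CfsgLib.J4DCE.Mat
open CfsgLib.J4Rep (Vec112 rep)
open CfsgLib.Presented (Vec.force Vec.force_eq)

/-! ### Vectors -/

theorem xor_two_pow_lt {n v : ℕ} (h1 : 2 ^ n ≤ v) (h2 : v < 2 ^ (n + 1)) : v ^^^ 2 ^ n < 2 ^ n := by
  refine Nat.lt_pow_two_of_testBit _ fun i hi => ?_
  rw [Nat.testBit_xor, Nat.testBit_two_pow]
  rcases Nat.lt_or_ge n i with h | h
  · rw [Nat.testBit_lt_two_pow (h2.trans_le (Nat.pow_le_pow_right (by norm_num) h)), decide_eq_false h.ne]
    rfl
  · obtain rfl : i = n := le_antisymm h hi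
    obtain ⟨k, hk⟩ := Nat.exists_eq_add_of_le h1
    rw [hk, Nat.testBit_two_pow_add_eq, Nat.testBit_lt_two_pow (by rw [pow_succ] at h2; omega)]
    simp

theorem vec_induction {N : ℕ} {P : ℕ → Prop} (h0 : P 0)
    (hx : ∀ u v, u < 2 ^ N → v < 2 ^ N → P u → P v → P (u ^^^ v)) (hb : ∀ i < N, P (2 ^ i)) :
    ∀ n ≤ N, ∀ v < 2 ^ n, P v := by
  intro n
  induction n with
  | zero => intro _ v hv; rwa [show v = 0 by simpa using hv]
  | succ n ih =>
    intro hn v hv
    by_cases h : v < 2 ^ n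
    · exact ih (by omega) v h
    · have hlt := xor_two_pow_lt (Nat.le_of_not_lt h) hv
      have hN : 2 ^ n < 2 ^ N := Nat.pow_lt_pow_right (by norm_num) hn
      have := hx _ _ (hlt.trans hN) hN (ih (by omega) _ hlt) (hb n hn)
      rwa [Nat.xor_assoc, Nat.xor_self, Nat.xor_zero] at this

theorem comb_cons (w : ℕ) (ws : List ℕ) (m : ℕ) :
    comb (w :: ws) m = (if m.testBit 0 then w else 0) ^^^ comb ws (m / 2) := by
  rw [comb, Vec.force_eq, Nat.testBit_zero]
  rcases Nat.mod_two_eq_zero_or_one m with h | h <;> simp [h] <;> rfl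

theorem comb_nil (m : ℕ) : comb [] m = 0 := rfl

theorem comb_xor : ∀ (L : List ℕ) (m n : ℕ), comb L (m ^^^ n) = comb L m ^^^ comb L n
  | [], _, _ => (Nat.xor_self 0).symm
  | w :: ws, m, n => by
    have e : (m ^^^ n) / 2 = m / 2 ^^^ n / 2 := Nat.eq_of_testBit_eq fun i => by
      simp only [Nat.testBit_div_two, Nat.testBit_xor]
    rw [comb_cons, comb_cons, comb_cons, e, comb_xor ws, Nat.testBit_xor]
    cases m.testBit 0 <;> cases n.testBit 0 <;>
      simp [Nat.xor_assoc, Nat.xor_comm, Nat.xor_left_comm]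

theorem comb_zero : ∀ L : List ℕ, comb L 0 = 0
  | [] => rfl
  | w :: ws => by rw [comb_cons, Nat.zero_div, comb_zero ws]; simp

theorem comb_mem {P : ℕ → Prop} (h0 : P 0) (hx : ∀ u v, P u → P v → P (u ^^^ v)) :
    ∀ L : List ℕ, (∀ w ∈ L, P w) → ∀ m, P (comb L m)
  | [], _, _ => h0
  | w :: ws, h, m => by
    rw [comb_cons]
    refine hx _ _ ?_ (comb_mem h0 hx ws (fun z hz => h z (List.mem_cons_of_mem _ hz)) _)
    split
    · exact h w List.mem_cons_self
    · exact h0

theorem map_comb {f : ℕ → ℕ} (hf : ∀ u v, f (u ^^^ v) = f u ^^^ f v) :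
    ∀ (L : List ℕ) (m : ℕ), f (comb L m) = comb (L.map f) m
  | [], _ => by
    show f 0 = 0
    have := hf 0 0
    simpa using this
  | w :: ws, m => by
    have h0 : f 0 = 0 := by have := hf 0 0; simpa using this
    rw [List.map_cons, comb_cons, comb_cons, hf, map_comb hf ws]
    split
    · rfl
    · rw [h0]

theorem app1_xor (M u v : ℕ) : app1 M (u ^^^ v) = app1 M u ^^^ app1 M v := applyM_xor M u v 112

theorem app1_lt (M v : ℕ) : app1 M v < 2 ^ 112 := applyM_lt M v 112

theorem iter_succ (M v n : ℕ) : iter M v (n + 1) = app1 M (iter M v n) := Vec.force_eq _ _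

/-- the partial sums of the powers -/
noncomputable def horner (M v : ℕ) (n : ℕ) : ℕ :=
  Nat.rec (motive := fun _ => ℕ) 0 (fun _ ih => Vec.force ih fun r => Nat.xor v (app1 M r)) n

theorem proj_eq (M v : ℕ) : proj M v = horner M v 11 := rfl

theorem horner_succ (M v n : ℕ) : horner M v (n + 1) = v ^^^ app1 M (horner M v n) := by
  show Vec.force (horner M v n) (fun r => Nat.xor v (app1 M r)) = _
  rw [Vec.force_eq]
  rfl

theorem horner_xor (M u v : ℕ) : ∀ n, horner M (u ^^^ v) n = horner M u n ^^^ horner M v n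
  | 0 => (Nat.xor_self 0).symm
  | n + 1 => by
    rw [horner_succ, horner_succ, horner_succ, horner_xor M u v n, app1_xor]
    simp [Nat.xor_assoc, Nat.xor_comm, Nat.xor_left_comm]

theorem proj_xor (M u v : ℕ) : proj M (u ^^^ v) = proj M u ^^^ proj M v := horner_xor M u v 11

theorem proj_zero (M : ℕ) : proj M 0 = 0 := by have := proj_xor M 0 0; simpa using this

theorem proj_lt (M : ℕ) {v : ℕ} (hv : v < 2 ^ 112) : proj M v < 2 ^ 112 := by
  rw [proj_eq, horner_succ]
  exact Nat.xor_lt_two_pow hv (app1_lt _ _)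

theorem proj_fixed {M v : ℕ} (h : app1 M v = v) : proj M v = v := by
  have h0 : app1 M 0 = 0 := by have := app1_xor M 0 0; simpa using this
  have key : ∀ k, horner M v (2 * k + 1) = v := by
    intro k
    induction k with
    | zero => rw [horner_succ]; show v ^^^ app1 M 0 = v; simp [h0]
    | succ k ih =>
      rw [show 2 * (k + 1) + 1 = 2 * k + 1 + 1 + 1 by ring, horner_succ, horner_succ, ih, h, Nat.xor_self, h0,
        Nat.xor_zero]
  exact key 5

/-! ### An element as a map on numbers -/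

/-- the action of an element -/
noncomputable def act (x : Cfsg.Spor.J4) (v : ℕ) : ℕ := if h : v < 2 ^ 112 then (rep x ⟨v, h⟩).1 else 0

theorem act_lt (x : Cfsg.Spor.J4) (v : ℕ) : act x v < 2 ^ 112 := by
  unfold act
  split
  · exact (rep x ⟨v, by assumption⟩).2
  · exact Nat.two_pow_pos _

theorem act_of (x : Cfsg.Spor.J4) (v : Vec112) : act x v.1 = (rep x v).1 := dif_pos v.2

theorem act_mul (x y : Cfsg.Spor.J4) {v : ℕ} (hv : v < 2 ^ 112) : act (x * y) v = act x (act y v) := by
  rw [act_of (x * y) ⟨v, hv⟩, act_of y ⟨v, hv⟩, act_of, map_mul]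
  rfl

theorem act_one {v : ℕ} (hv : v < 2 ^ 112) : act 1 v = v := by
  rw [act_of 1 ⟨v, hv⟩, map_one]
  rfl

theorem act_xor (x : Cfsg.Spor.J4) {u v : ℕ} (hu : u < 2 ^ 112) (hv : v < 2 ^ 112) :
    act x (u ^^^ v) = act x u ^^^ act x v := by
  rw [act_of x ⟨u, hu⟩, act_of x ⟨v, hv⟩]
  show act x (CfsgLib.J4DCE.J.vxor ⟨u, hu⟩ ⟨v, hv⟩).1 = _
  rw [act_of, CfsgLib.J4DCE.J.rep_xor]
  rfl

theorem act_zero (x : Cfsg.Spor.J4) : act x 0 = 0 := by
  have := act_xor x (u := 0) (v := 0) (Nat.two_pow_pos _) (Nat.two_pow_pos _)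
  simpa using this

theorem act_inj (x : Cfsg.Spor.J4) {u v : ℕ} (hu : u < 2 ^ 112) (hv : v < 2 ^ 112) (h : act x u = act x v) :
    u = v := by
  rw [act_of x ⟨u, hu⟩, act_of x ⟨v, hv⟩] at h
  exact congrArg Subtype.val ((rep x).injective (Subtype.ext h))

theorem act_ext {x y : Cfsg.Spor.J4} (h : ∀ v < 2 ^ 112, act x v = act y v) : x = y := by
  refine CfsgLib.J4DCE.J.rep_injective (Equiv.ext fun v => Subtype.ext ?_)
  rw [← act_of, ← act_of]
  exact h _ v.2

theorem act_val {x : Cfsg.Spor.J4} {M : ℕ} (hM : Val x M) {v : ℕ} (hv : v < 2 ^ 112) : act x v = app1 M v := by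
  rw [act_of x ⟨v, hv⟩, hM]
  rfl

theorem act_pow (x : Cfsg.Spor.J4) {v : ℕ} (hv : v < 2 ^ 112) : ∀ n, act (x ^ n) v = (act x)^[n] v
  | 0 => by rw [pow_zero, act_one hv]; rfl
  | n + 1 => by rw [pow_succ', act_mul _ _ hv, act_pow x hv n, Function.iterate_succ_apply']

theorem act_app {x y : Cfsg.Spor.J4} {M : ℕ} (hM : Val y M) (hc : x * y = y * x) {v : ℕ} (hv : v < 2 ^ 112) :
    act x (app1 M v) = app1 M (act x v) := by
  rw [← act_val hM hv, ← act_mul _ _ hv, hc, act_mul _ _ hv, act_val hM (act_lt _ _)]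

theorem act_proj {x y : Cfsg.Spor.J4} {M : ℕ} (hM : Val y M) (hc : x * y = y * x) {v : ℕ} (hv : v < 2 ^ 112) :
    act x (proj M v) = proj M (act x v) := by
  rw [proj_eq, proj_eq]
  suffices h : ∀ n, act x (horner M v n) = horner M (act x v) n from h 11
  intro n
  induction n with
  | zero => exact act_zero x
  | succ n ih => rw [horner_succ, horner_succ, act_xor x hv (app1_lt _ _), act_app hM hc, ih]
                 cases n with
                 | zero => exact Nat.two_pow_pos _
                 | succ k => rw [horner_succ]; exact Nat.xor_lt_two_pow hv (app1_lt _ _)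

/-! ### The tables -/

/-- the images of the unit vectors under the shift -/
def shBasis : List ℕ := [2, 4, 8, 16, 32, 64, 128, 256, 512, 1023]

/-- multiplication by the variable modulo the eleventh cyclotomic polynomial -/
noncomputable def sh (m : ℕ) : ℕ := comb shBasis m

set_option maxHeartbeats 0 in
theorem table_ok : ((List.range 1024).all fun m => Nat.beq m 0 ||
    Nat.beq (comb ((List.range 10).map fun i => sh^[i] m) (invPoly.getD m 0)) 1) = true := by decide +kernel

theorem fc_lt : fc.all (fun m => Nat.blt m 1024) = true := by decide +kernel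

theorem small_facts : pcc.getD 1 0 = 1 ∧ pcc.getD 2 0 = 2 ∧ tB.Nodup ∧ 0 ∉ tB ∧ tB.length = 4 ∧
    wList.Nodup ∧ w1 < 2 ^ 112 ∧ w2 < 2 ^ 112 ∧ vF ≠ 0 ∧ vF < 2 ^ 112 := by decide +kernel

theorem perm_four : ∀ f : Fin 4 → Fin 4, Function.Injective f → f 0 = 0 → ∀ k, f^[6] k = k := by
  decide +kernel

theorem wList_xor {u v : ℕ} (hu : u ∈ wList) (hv : v ∈ wList) : u ^^^ v ∈ wList := by
  simp only [wList, List.mem_cons, List.not_mem_nil, or_false] at hu hv ⊢
  rcases hu with rfl | rfl | rfl | rfl <;> rcases hv with rfl | rfl | rfl | rfl <;> decide +kernel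

theorem wList_lt {u : ℕ} (hu : u ∈ wList) : u < 2 ^ 112 := by
  simp only [wList, List.mem_cons, List.not_mem_nil, or_false] at hu
  rcases hu with rfl | rfl | rfl | rfl
  exacts [Nat.two_pow_pos _, small_facts.2.2.2.2.2.2.1, small_facts.2.2.2.2.2.2.2.1,
    Nat.xor_lt_two_pow small_facts.2.2.2.2.2.2.1 small_facts.2.2.2.2.2.2.2.1]

/-! ### The certificate read as facts -/

/-- The facts of the certificate. -/
structure Cert (A B C : ℕ) : Prop where
  fix : ∀ i < 112, proj C (2 ^ i) = wList.getD (pcc.getD i 0) 0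
  fc0 : fc.getD kF 0 = 1
  last : app1 C (iter C vF 9) = comb (cvL C) 1023
  ten : ∀ i < 112, proj A (2 ^ i ^^^ proj C (2 ^ i)) = comb (cvL C) (fc.getD i 0)
  span : ∀ i < 112, 2 ^ i ^^^ proj C (2 ^ i) = comb (spanL B C) (uc.getD i 0)
  tfix : ∀ t ∈ tB, app1 B t = t ∧ t < 2 ^ 112

namespace Cert

variable {A B C : ℕ} (K : Cert A B C)

include K

theorem mem_w {v : ℕ} (hv : v < 2 ^ 112) : proj C v ∈ wList := by
  refine vec_induction (P := fun v => proj C v ∈ wList) ?_ (fun u v _ _ hu hv => ?_) (fun i hi => ?_) 112 le_rfl v hv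
  · rw [proj_zero]; exact List.mem_cons_self
  · rw [proj_xor]; exact wList_xor hu hv
  · rw [K.fix i hi, List.getD_eq_getElem?_getD]
    cases e : wList[pcc.getD i 0]? with
    | none => exact List.mem_cons_self
    | some z => exact List.mem_of_getElem? e

theorem mem_ten {v : ℕ} (hv : v < 2 ^ 112) : ∃ m < 1024, proj A (v ^^^ proj C v) = comb (cvL C) m := by
  refine vec_induction (P := fun v => ∃ m < 1024, proj A (v ^^^ proj C v) = comb (cvL C) m) ?_
    (fun u v _ _ hu hv => ?_) (fun i hi => ?_) 112 le_rfl v hv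
  · exact ⟨0, by norm_num, by rw [comb_zero, proj_zero, Nat.xor_zero, proj_zero]⟩
  · obtain ⟨m, hm, em⟩ := hu
    obtain ⟨n, hn, en⟩ := hv
    refine ⟨m ^^^ n, Nat.xor_lt_two_pow (n := 10) hm hn, ?_⟩
    rw [comb_xor, ← em, ← en, ← proj_xor, proj_xor C]
    refine congrArg _ ?_
    simp [Nat.xor_assoc, Nat.xor_comm, Nat.xor_left_comm]
  · refine ⟨fc.getD i 0, ?_, K.ten i hi⟩
    rw [List.getD_eq_getElem?_getD]
    cases e : fc[i]? with
    | none => norm_num
    | some z => exact Nat.blt_eq ▸ List.all_eq_true.1 fc_lt z (List.mem_of_getElem? e)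

theorem mem_span {v : ℕ} (hv : v < 2 ^ 112) : ∃ m, v ^^^ proj C v = comb (spanL B C) m := by
  refine vec_induction (P := fun v => ∃ m, v ^^^ proj C v = comb (spanL B C) m) ?_
    (fun u v _ _ hu hv => ?_) (fun i hi => ⟨_, K.span i hi⟩) 112 le_rfl v hv
  · exact ⟨0, by rw [comb_zero, proj_zero, Nat.xor_zero]⟩
  · obtain ⟨m, em⟩ := hu
    obtain ⟨n, en⟩ := hv
    refine ⟨m ^^^ n, ?_⟩
    rw [comb_xor, ← em, ← en, proj_xor C]
    simp [Nat.xor_assoc, Nat.xor_comm, Nat.xor_left_comm]

theorem app_comb (m : ℕ) : app1 C (comb (cvL C) m) = comb (cvL C) (sh m) := by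
  rw [sh, map_comb (app1_xor C), map_comb (comb_xor (cvL C))]
  have hl := K.last
  refine congrArg (comb · m) ?_
  simp [cvL, shBasis, List.range_succ, comb_cons, comb_nil, iter_succ, Nat.testBit_zero] at hl ⊢
  exact hl

theorem iter_comb (m : ℕ) : ∀ i, iter C (comb (cvL C) m) i = comb (cvL C) (sh^[i] m)
  | 0 => rfl
  | i + 1 => by rw [iter_succ, iter_comb m i, K.app_comb, Function.iterate_succ_apply']

theorem reach {m : ℕ} (hm : m < 1024) (h0 : m ≠ 0) :
    ∃ q, comb ((List.range 10).map (iter C (comb (cvL C) m))) q = vF := by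
  refine ⟨invPoly.getD m 0, ?_⟩
  have h := List.all_eq_true.1 table_ok m (List.mem_range.2 hm)
  rw [Bool.or_eq_true] at h
  have e := Nat.eq_of_beq_eq_true (h.resolve_left fun h => h0 (Nat.eq_of_beq_eq_true h))
  have : comb (cvL C) 1 = vF := by
    simp [cvL, List.range_succ, comb_cons, comb_zero]
    rfl
  rw [← this, ← e, map_comb (comb_xor (cvL C))]
  refine congrArg (comb · _) ?_
  rw [List.map_map]
  exact List.map_congr_left fun i _ => K.iter_comb m i

theorem comb_ne_zero {m : ℕ} (hm : m < 1024) (h0 : m ≠ 0) : comb (cvL C) m ≠ 0 := by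
  intro e
  obtain ⟨q, hq⟩ := K.reach hm h0
  have z : app1 C 0 = 0 := by have := app1_xor C 0 0; simpa using this
  refine small_facts.2.2.2.2.2.2.2.2.1 (hq.symm.trans ?_)
  refine comb_mem (P := fun v => v = 0) rfl (fun u v hu hv => by rw [hu, hv]; rfl) _ (fun w hw => ?_) q
  obtain ⟨i, -, rfl⟩ := List.mem_map.1 hw
  rw [e]
  clear hw
  induction i with
  | zero => rfl
  | succ i ih => rw [iter_succ, ih, z]

theorem comb_inj {m n : ℕ} (hm : m < 1024) (hn : n < 1024) (e : comb (cvL C) m = comb (cvL C) n) : m = n := by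
  by_contra h
  refine K.comb_ne_zero (Nat.xor_lt_two_pow (n := 10) hm hn) (fun h' => h (Nat.xor_eq_zero_iff.1 h')) ?_
  rw [comb_xor, e, Nat.xor_self]

end Cert

theorem iter_lt (M : ℕ) {v : ℕ} (hv : v < 2 ^ 112) : ∀ n, iter M v n < 2 ^ 112
  | 0 => hv
  | n + 1 => by rw [iter_succ]; exact app1_lt _ _

theorem act_iter {x y : Cfsg.Spor.J4} {M : ℕ} (hM : Val y M) (hc : x * y = y * x) {v : ℕ} (hv : v < 2 ^ 112) :
    ∀ n, act x (iter M v n) = iter M (act x v) n
  | 0 => rfl
  | n + 1 => by rw [iter_succ, iter_succ, act_app hM hc (iter_lt M hv n), act_iter hM hc hv n]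

/-! ### The centraliser -/

/-- a vector fixed by an element -/
def Fixed (x : Cfsg.Spor.J4) (v : ℕ) : Prop := v < 2 ^ 112 ∧ act x v = v

theorem Fixed.zero (x : Cfsg.Spor.J4) : Fixed x 0 := ⟨Nat.two_pow_pos _, act_zero x⟩

theorem Fixed.xor {x : Cfsg.Spor.J4} (u v : ℕ) (hu : Fixed x u) (hv : Fixed x v) : Fixed x (u ^^^ v) :=
  ⟨Nat.xor_lt_two_pow hu.1 hv.1, by rw [act_xor x hu.1 hv.1, hu.2, hv.2]⟩

theorem Fixed.iter {x y : Cfsg.Spor.J4} {M : ℕ} (hM : Val y M) (hc : x * y = y * x) {v : ℕ} (h : Fixed x v)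
    (n : ℕ) : Fixed x (Eleven.iter M v n) :=
  ⟨iter_lt M h.1 n, by rw [act_iter hM hc h.1, h.2]⟩

section

variable {A B C : ℕ} {a b c x : Cfsg.Spor.J4} (K : Cert A B C) (hA : Val a A) (hB : Val b B) (hC : Val c C)
  (xa : x * a = a * x) (xb : x * b = b * x) (xc : x * c = c * x)

include K hA hB hC xa xb xc

omit hA xa in
theorem fixed_moved (h : Fixed x vF) {v : ℕ} (hv : v < 2 ^ 112) : Fixed x (v ^^^ proj C v) := by
  obtain ⟨m, hm⟩ := K.mem_span hv
  rw [hm]
  refine comb_mem (Fixed.zero x) Fixed.xor _ (fun w hw => ?_) m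
  obtain ⟨j, -, hw⟩ := List.mem_flatMap.1 hw
  obtain ⟨z, hz, rfl⟩ := List.mem_map.1 hw
  obtain ⟨i, -, rfl⟩ := List.mem_map.1 hz
  exact (h.iter hC xc i).iter hB xb j

omit hA xa in
theorem pow_six (h : Fixed x vF) : x ^ 6 = 1 := by
  have hwl : ∀ k : Fin 4, wList.getD k 0 < 2 ^ 112 := fun k => wList_lt (by fin_cases k <;> decide +kernel)
  have hmem : ∀ k : Fin 4, act x (wList.getD k 0) ∈ wList := by
    have pre : ∀ i < 112, act x (proj C (2 ^ i)) ∈ wList := fun i hi => by
      rw [act_proj hC xc (Nat.pow_lt_pow_right (by norm_num) hi)]; exact K.mem_w (act_lt _ _)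
    have h1 : act x w1 ∈ wList := by
      have := pre 1 (by norm_num); rwa [K.fix 1 (by norm_num), small_facts.1] at this
    have h2 : act x w2 ∈ wList := by
      have := pre 2 (by norm_num); rwa [K.fix 2 (by norm_num), small_facts.2.1] at this
    intro k
    fin_cases k
    · show act x 0 ∈ wList
      rw [act_zero]; exact List.mem_cons_self
    · exact h1
    · exact h2
    · show act x (w1 ^^^ w2) ∈ wList
      rw [act_xor x small_facts.2.2.2.2.2.2.1 small_facts.2.2.2.2.2.2.2.1]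
      exact wList_xor h1 h2
  have hf : ∀ k : Fin 4, ∃ l : Fin 4, act x (wList.getD k 0) = wList.getD l 0 := fun k => by
    obtain ⟨l, hl, e⟩ := List.getElem_of_mem (hmem k)
    exact ⟨⟨l, hl⟩, by rw [← e, List.getD_eq_getElem?_getD, List.getElem?_eq_getElem hl]; rfl⟩
  choose f hf using hf
  have hinjW : ∀ k l : Fin 4, wList.getD k 0 = wList.getD l 0 → k = l := by decide +kernel
  have finj : Function.Injective f := fun k l e =>
    hinjW k l (act_inj x (hwl k) (hwl l) (by rw [hf, hf, e]))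
  have f0 : f 0 = 0 := hinjW _ _ (by rw [← hf 0]; exact act_zero x)
  have hit : ∀ n (k : Fin 4), (act x)^[n] (wList.getD k 0) = wList.getD (f^[n] k) 0 := by
    intro n
    induction n with
    | zero => intro k; rfl
    | succ n ih => intro k; rw [Function.iterate_succ_apply, Function.iterate_succ_apply, hf, ih]
  refine act_ext fun v hv => ?_
  rw [act_one hv]
  have h1 := fixed_moved K hB hC xb xc h hv
  have e1 : act (x ^ 6) (v ^^^ proj C v) = v ^^^ proj C v := by
    rw [act_pow x h1.1, Function.iterate_fixed h1.2]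
  have e2 : act (x ^ 6) (proj C v) = proj C v := by
    obtain ⟨l, hl, e⟩ := List.getElem_of_mem (K.mem_w hv)
    have e' : proj C v = wList.getD (⟨l, hl⟩ : Fin 4) 0 := by
      rw [← e, List.getD_eq_getElem?_getD, List.getElem?_eq_getElem hl]; rfl
    rw [e', act_pow x (hwl _), hit, perm_four f finj f0]
  calc act (x ^ 6) v = act (x ^ 6) ((v ^^^ proj C v) ^^^ proj C v) := by
        rw [Nat.xor_assoc, Nat.xor_self, Nat.xor_zero]
    _ = (v ^^^ proj C v) ^^^ proj C v := by rw [act_xor _ h1.1 (proj_lt C hv), e1, e2]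
    _ = v := by rw [Nat.xor_assoc, Nat.xor_self, Nat.xor_zero]

omit hB xb in
theorem ten_invariant {m : ℕ} : ∃ n < 1024, act x (comb (cvL C) m) = comb (cvL C) n := by
  have one : (2 : ℕ) ^ kF < 2 ^ 112 := Nat.pow_lt_pow_right (by norm_num) (by decide)
  have e : vF = proj A (2 ^ kF ^^^ proj C (2 ^ kF)) := by
    rw [K.ten kF (by decide), K.fc0]
    simp [cvL, List.range_succ, comb_cons, comb_zero]
    rfl
  have hF : ∃ n < 1024, act x vF = comb (cvL C) n := by
    rw [e, act_proj hA xa (Nat.xor_lt_two_pow one (proj_lt C one)), act_xor x one (proj_lt C one),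
      act_proj hC xc one]
    exact K.mem_ten (act_lt _ _)
  refine (comb_mem (P := fun v => v < 2 ^ 112 ∧ ∃ n < 1024, act x v = comb (cvL C) n)
    ⟨Nat.two_pow_pos _, 0, by norm_num, by rw [act_zero, comb_zero]⟩
    (fun u v hu hv => ?_) _ (fun w hw => ?_) m).2
  · obtain ⟨hu, p, hp, ep⟩ := hu
    obtain ⟨hv, q, hq, eq⟩ := hv
    exact ⟨Nat.xor_lt_two_pow hu hv, p ^^^ q, Nat.xor_lt_two_pow (n := 10) hp hq,
      by rw [act_xor x hu hv, ep, eq, comb_xor]⟩
  · obtain ⟨i, -, rfl⟩ := List.mem_map.1 hw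
    refine ⟨iter_lt C small_facts.2.2.2.2.2.2.2.2.2 i, ?_⟩
    obtain ⟨n, hn, en⟩ := hF
    refine ⟨sh^[i] n, ?_, ?_⟩
    · clear en
      induction i with
      | zero => exact hn
      | succ i ih =>
        rw [Function.iterate_succ_apply']
        exact comb_mem (P := fun v => v < 1024) (by norm_num)
          (fun u v hu hv => Nat.xor_lt_two_pow (n := 10) hu hv) _ (by decide) _
    · rw [act_iter hC xc small_facts.2.2.2.2.2.2.2.2.2, en, K.iter_comb]

theorem cent_cases {r : ℕ} (hr : r.Prime) (hxr : x ^ r = 1) (hx1 : x ≠ 1) :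
    r = 2 ∨ r = 3 ∨ r = 11 ∨ r = 31 := by
  haveI : Fact r.Prime := ⟨hr⟩
  by_cases hd : r ∣ 1023
  · have h : r ∈ Nat.primeFactors 1023 := Nat.mem_primeFactors.2 ⟨hr, hd, by norm_num⟩
    have hle : r ≤ 1023 := Nat.le_of_dvd (by norm_num) hd
    have e : r ∣ 3 * (11 * 31) := by norm_num; exact hd
    rcases (Nat.Prime.dvd_mul hr).1 e with h | h
    · exact Or.inr (Or.inl ((Nat.prime_dvd_prime_iff_eq hr Nat.prime_three).1 h))
    · rcases (Nat.Prime.dvd_mul hr).1 h with h | h
      · exact Or.inr (Or.inr (Or.inl ((Nat.prime_dvd_prime_iff_eq hr (by norm_num)).1 h)))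
      · exact Or.inr (Or.inr (Or.inr ((Nat.prime_dvd_prime_iff_eq hr (by norm_num)).1 h)))
  · have hlt : ∀ m, comb (cvL C) m < 2 ^ 112 := comb_mem (P := fun v => v < 2 ^ 112) (Nat.two_pow_pos _)
      (fun u v hu hv => Nat.xor_lt_two_pow hu hv) _ fun w hw => by
        obtain ⟨i, -, rfl⟩ := List.mem_map.1 hw
        exact iter_lt C small_facts.2.2.2.2.2.2.2.2.2 i
    let T : Type := {m : Fin 1024 // m ≠ 0}
    have hτ : ∀ m : T, ∃ n : T, act x (comb (cvL C) m.1.1) = comb (cvL C) n.1.1 := fun m => by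
      obtain ⟨n, hn, e⟩ := ten_invariant K hA hC xa xc (m := m.1.1)
      refine ⟨⟨⟨n, hn⟩, fun h => ?_⟩, e⟩
      have hn0 : n = 0 := congrArg Fin.val h
      rw [hn0, comb_zero, ← act_zero x] at e
      exact K.comb_ne_zero m.1.2 (fun h' => m.2 (Fin.ext h')) (act_inj x (hlt _) (Nat.two_pow_pos _) e)
    choose τ hτ using hτ
    have hit : ∀ n (m : T), (act x)^[n] (comb (cvL C) m.1.1) = comb (cvL C) (τ^[n] m).1.1 := by
      intro n
      induction n with
      | zero => intro m; rfl
      | succ n ih => intro m; rw [Function.iterate_succ_apply, Function.iterate_succ_apply, hτ, ih]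
    have hid : ∀ m : T, τ^[r] m = m := fun m => by
      refine Subtype.ext (Fin.ext (K.comb_inj (Fin.is_lt _) (Fin.is_lt _) ?_))
      rw [← hit, ← act_pow x (hlt _), hxr, act_one (hlt _)]
    have hinj : Function.Injective τ := fun m n e => by
      have h := congrArg (τ^[r - 1]) e
      rwa [← Function.iterate_succ_apply, ← Function.iterate_succ_apply,
        show (r - 1).succ = r by have := hr.one_lt; omega, hid, hid] at h
    let σ : Equiv.Perm T := Equiv.ofBijective τ (Finite.injective_iff_bijective.1 hinj)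
    have hσ : σ ^ r ^ 1 = 1 := by
      refine Equiv.ext fun m => ?_
      rw [pow_one, Equiv.Perm.coe_pow]
      exact hid m
    have hcard : Fintype.card T = 1023 := by
      simp [T, Fintype.card_subtype_compl]
    obtain ⟨m, hm⟩ := Equiv.Perm.exists_fixed_point_of_prime (by rw [hcard]; exact hd) hσ
    have hfix : Fixed x (comb (cvL C) m.1.1) := ⟨hlt _, by
      rw [hτ, show τ m = m from hm]⟩
    obtain ⟨q, hq⟩ := K.reach m.1.2 (fun h' => m.2 (Fin.ext h'))
    have hF : Fixed x vF := by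
      rw [← hq]
      refine comb_mem (Fixed.zero x) Fixed.xor _ (fun w hw => ?_) q
      obtain ⟨i, -, rfl⟩ := List.mem_map.1 hw
      exact hfix.iter hC xc i
    have h6 := orderOf_dvd_of_pow_eq_one (pow_six K hB hC xb xc hF)
    rw [orderOf_eq_prime hxr hx1, show (6 : ℕ) = 2 * 3 by norm_num] at h6
    rcases (Nat.Prime.dvd_mul hr).1 h6 with h | h
    · exact Or.inl ((Nat.prime_dvd_prime_iff_eq hr Nat.prime_two).1 h)
    · exact Or.inr (Or.inl ((Nat.prime_dvd_prime_iff_eq hr Nat.prime_three).1 h))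

omit hA xa xb xc in
theorem not_conj_of_cert : ¬ IsConj c b := by
  intro h
  obtain ⟨y, hy⟩ := isConj_iff.1 h
  have hcy : c * y⁻¹ = y⁻¹ * b := by rw [← hy]; group
  have key : ∀ t ∈ tB, act y⁻¹ t ∈ [w1, w2, w1 ^^^ w2] := by
    intro t ht
    obtain ⟨h1, h2⟩ := K.tfix t ht
    have e : app1 C (act y⁻¹ t) = act y⁻¹ t := by
      rw [← act_val hC (act_lt _ _), ← act_mul _ _ h2, hcy, act_mul _ _ h2, act_val hB h2, h1]
    have hm := K.mem_w (act_lt y⁻¹ t)
    rw [proj_fixed e] at hm
    rcases List.mem_cons.1 hm with h0 | h'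
    · rw [← act_zero y⁻¹] at h0
      exact absurd (act_inj _ h2 (Nat.two_pow_pos _) h0 ▸ ht) small_facts.2.2.2.1
    · exact h'
  have hnd : (tB.map (act y⁻¹)).Nodup :=
    small_facts.2.2.1.map_on fun s hs t ht e => act_inj _ (K.tfix s hs).2 (K.tfix t ht).2 e
  have hle := (hnd.subperm fun z hz => by
    obtain ⟨t, ht, rfl⟩ := List.mem_map.1 hz
    exact key t ht).length_le
  rw [List.length_map, small_facts.2.2.2.2.1] at hle
  simp at hle

end

/-- The witnesses in the fourth Janko group. -/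
theorem exists_wit : ∃ a b g h : Cfsg.Spor.J4, Wit a b g h := by
  obtain ⟨acc, hgood, hf⟩ := runSLP_sound final_ok
  obtain ⟨a, hA⟩ := good_getD hgood (size - 1 - ia)
  obtain ⟨b, hB⟩ := good_getD hgood (size - 1 - ib)
  obtain ⟨g, hg⟩ := good_getD hgood (size - 1 - ig)
  obtain ⟨h, hh⟩ := good_getD hgood (size - 1 - ih)
  simp only [final, el, allOK, relOK, conjOK, wordM, fixOK, tenOK, spanOK, tOK, Vec.force_eq, Bool.and_eq_true,
    List.all_eq_true, List.any_eq_true, List.mem_range, Bool.not_eq_true', Nat.beq_eq, Nat.blt_eq] at hf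
  generalize acc.getD (size - 1 - ia) idM = A at hf hA
  generalize acc.getD (size - 1 - ib) idM = B at hf hB
  generalize acc.getD (size - 1 - ig) idM = Mg at hf hg
  generalize acc.getD (size - 1 - ih) idM = Mh at hf hh
  have hC : Val (cw a b) (comM A B) :=
    val_mulM (val_mulM (val_mulM hA hB) (val_powM hA 10)) (val_powM hB 10)
  generalize comM A B = C at hf hC
  obtain ⟨⟨⟨⟨⟨⟨⟨⟨⟨⟨⟨⟨a11, b11⟩, hac⟩, hbc⟩, i, hi, hne⟩, hga⟩, hgb⟩, hha⟩, hhb⟩, hfix⟩, ⟨hfc, hlast⟩, hten⟩,
    hspan⟩, htb⟩ := hf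
  have K : Cert A B C := ⟨hfix, hfc, hlast, hten, hspan, htb⟩
  have eqv : ∀ {x y : Cfsg.Spor.J4} {M N : ℕ}, Val x M → Val y N → M = N → x = y := fun {x y M N} hx hy e =>
    CfsgLib.J4DCE.J.rep_injective ((e ▸ hx).rep_eq hy)
  have cj : ∀ {p q : Cfsg.Spor.J4} {P Q : ℕ} (i j k : ℕ), Val p P → Val q Q →
      mulM P Q = mulM (mulM (mulM (powM A i) (powM B j)) (powM C k)) P →
      p * q = a ^ i * b ^ j * cw a b ^ k * p := fun {p q P Q} i j k hp hq e =>
    eqv (val_mulM hp hq)
      (val_mulM (val_mulM (val_mulM (val_powM hA i) (val_powM hB j)) (val_powM hC k)) hp) e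
  refine ⟨a, b, g, h, ?_⟩
  exact
    { a11 := eqv (val_powM hA 11) val_one a11
      b11 := eqv (val_powM hB 11) val_one b11
      ac := eqv (val_mulM hA hC) (val_mulM hC hA) hac
      bc := eqv (val_mulM hB hC) (val_mulM hC hB) hbc
      c_ne := fun e => hC.rep_ne_one hi hne (by rw [e, map_one])
      ga := cj 10 9 10 hg hA hga
      gb := cj 6 10 3 hg hB hgb
      ha := cj 8 2 3 hh hA hha
      hb := cj 8 3 10 hh hB hhb
      cent := fun x r hr xa xb hxr hx1 => by
        have xc : x * cw a b = cw a b * x := by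
          have ha' : Commute x a := xa
          have hb' : Commute x b := xb
          exact ((ha'.mul_right hb').mul_right (ha'.pow_right 10)).mul_right (hb'.pow_right 10)
        exact cent_cases K hA hB hC xa xb xc hr hxr hx1
      not_conj := not_conj_of_cert K hB hC }

/-- Witnesses transport along isomorphisms. -/
theorem Wit.map {G H : Type*} [Group G] [Group H] (e : G ≃* H) {a b g h : G} (W : Wit a b g h) :
    Wit (e a) (e b) (e g) (e h) where
  a11 := by rw [← map_pow, W.a11, map_one]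
  b11 := by rw [← map_pow, W.b11, map_one]
  ac := by simp only [cw, ← map_pow, ← map_mul]; exact congrArg e W.ac
  bc := by simp only [cw, ← map_pow, ← map_mul]; exact congrArg e W.bc
  c_ne := fun h => W.c_ne (e.injective (by simpa [cw] using h))
  ga := by simp only [cw, ← map_pow, ← map_mul]; exact congrArg e W.ga
  gb := by simp only [cw, ← map_pow, ← map_mul]; exact congrArg e W.gb
  ha := by simp only [cw, ← map_pow, ← map_mul]; exact congrArg e W.ha
  hb := by simp only [cw, ← map_pow, ← map_mul]; exact congrArg e W.hb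
  cent := fun x r hr xa xb hxr hx1 =>
    W.cent (e.symm x) r hr (e.injective (by simpa using xa)) (e.injective (by simpa using xb))
      (e.injective (by simpa using hxr)) (fun h => hx1 (e.symm.injective (h.trans (map_one _).symm)))
  not_conj := fun h => W.not_conj (by
    have h' : IsConj (e.symm (cw (e a) (e b))) (e.symm (e b)) := e.symm.toMonoidHom.map_isConj h
    simpa [cw] using h')

end CfsgLib.J4Type.Sym.Eleven
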