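import Cfsg.Agent.Lib.J4Type.GenTop
import Cfsg.Agent.Lib.J4Type.Moved
import Cfsg.Agent.Lib.J4Type86.Basic
import Cfsg.Agent.Lib.Presented.J4Cent.Final
import Cfsg.Prelude.Def_Sporadic

/-!
A finite simple group of Janko-four type with a non-trivial image of the presented fourth Janko group
is that group: the image contains the centraliser of a conjugate of `z` and, being of Janko-four type
itself, the normaliser of a subgroup of order `2^11` in it.
-/

set_option autoImplicit false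
set_option linter.unusedSectionVars false

universe u

namespace CfsgLib.J4Type

variable {G : Type u} [Group G] [Finite G] {z : G} {P : Subgroup G}

namespace Ctx

variable (X : Ctx z P)

/-- An elementary abelian subgroup of order `2^11` of `C(z)` is conjugate to `Vg` within `C(z)`. -/
theorem exists_conj_Vg_cz (W : Subgroup G) (hWe : Cfsg.IsElementaryAbelian 2 W) (hWc : Nat.card W = 2 ^ 11)
    (hWz : W ≤ CC z) : ∃ c ∈ CC z, ∀ a, a ∈ W ↔ c * a * c⁻¹ ∈ X.Vg := by
  classical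
  have hS := X.model.stabFacts
  have hVc : Nat.card X.Vg = 2 ^ 11 := by rw [X.card_Vg hS]; norm_num
  obtain ⟨S, -, hin⟩ := X.exists_sylow
  obtain ⟨c₁, hc₁, hle₁⟩ := hin W (IsPGroup.of_card (n := 11) hWc) hWz
  obtain ⟨c₀, hc₀, hle₀⟩ := hin X.Vg (IsPGroup.of_card (n := 11) hVc) (Subgroup.map_subtype_le _)
  have heq : W.map (MulAut.conj c₁).toMonoidHom = X.Vg.map (MulAut.conj c₀).toMonoidHom :=
    (X.vg_unique' S).unique
      ⟨hle₁, elementary_map hWe _,
        by rw [Subgroup.card_map_of_injective (MulAut.conj c₁).injective, hWc]⟩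
      ⟨hle₀, elementary_map (X.Vg_elementary hS) _,
        by rw [Subgroup.card_map_of_injective (MulAut.conj c₀).injective, hVc]⟩
  refine ⟨c₀⁻¹ * c₁, mul_mem (inv_mem hc₀) hc₁, fun a => ?_⟩
  constructor
  · intro ha
    obtain ⟨v, hv, e⟩ := (heq ▸ ⟨a, ha, rfl⟩ : c₁ * a * c₁⁻¹ ∈ X.Vg.map (MulAut.conj c₀).toMonoidHom)
    have e' : c₀ * v * c₀⁻¹ = c₁ * a * c₁⁻¹ := e
    rw [show c₀⁻¹ * c₁ * a * (c₀⁻¹ * c₁)⁻¹ = c₀⁻¹ * (c₁ * a * c₁⁻¹) * c₀ by group, ← e',
      show c₀⁻¹ * (c₀ * v * c₀⁻¹) * c₀ = v by group]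
    exact hv
  · intro ha
    obtain ⟨w, hw, e⟩ : c₀ * (c₀⁻¹ * c₁ * a * (c₀⁻¹ * c₁)⁻¹) * c₀⁻¹ ∈ W.map (MulAut.conj c₁).toMonoidHom :=
      heq.symm ▸ ⟨_, ha, rfl⟩
    have e' : c₁ * w * c₁⁻¹ = c₁ * a * c₁⁻¹ := by
      refine e.trans ?_
      group
    rwa [← mul_left_cancel (mul_right_cancel e')]

/-- A simple subgroup containing `C(z)` contains `N(Vg)`. -/
theorem normalizer_le_of_cc_le (hmoved : ∃ m ∈ Subgroup.normalizer (X.Vg : Set G), m * z * m⁻¹ ≠ z)
    (H : Subgroup G) (hC : CC z ≤ H) [IsSimpleGroup H] (hna : ¬ IsMulCommutative H) :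
    Subgroup.normalizer (X.Vg : Set G) ≤ H := by
  classical
  obtain ⟨hzH, htype⟩ := type_subgroupOf X.hyp hC
  obtain ⟨Y⟩ := exists_ctx htype
  have hS' := Y.model.stabFacts
  have hsub := H.subtype_injective
  set W := Y.Vg.map H.subtype with hW
  have hWz : W ≤ CC z := by
    rintro _ ⟨v, hv, rfl⟩
    have hvz : v ∈ CC (⟨z, hzH⟩ : ↥H) := Subgroup.map_subtype_le _ hv
    rw [Subgroup.mem_centralizer_singleton_iff] at hvz ⊢
    exact congrArg Subtype.val hvz
  have hWc : Nat.card W = 2 ^ 11 := by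
    rw [hW, Subgroup.card_map_of_injective hsub, Y.card_Vg hS']; norm_num
  obtain ⟨c, hc, hWV⟩ := X.exists_conj_Vg_cz W (elementary_map (Y.Vg_elementary hS') _) hWc hWz
  have hcard : Nat.card ↥(Subgroup.normalizer (Y.Vg : Set ↥H)) = 2048 * 244823040 :=
    (Y.vPackage (Y.exists_moved hna)).vframe.card_normalizer
  have hle : ((Subgroup.normalizer (Y.Vg : Set ↥H)).map H.subtype).map (MulAut.conj c).toMonoidHom ≤
      Subgroup.normalizer (X.Vg : Set G) := by
    rintro _ ⟨_, ⟨n, hn, rfl⟩, rfl⟩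
    rw [Subgroup.mem_normalizer_iff]
    intro v
    show v ∈ X.Vg ↔ c * (n : G) * c⁻¹ * v * (c * (n : G) * c⁻¹)⁻¹ ∈ X.Vg
    have key : ∀ a : G, a ∈ W ↔ (n : G) * a * (n : G)⁻¹ ∈ W := by
      intro a
      constructor
      · rintro ⟨b, hb, rfl⟩
        exact ⟨n * b * n⁻¹, (Subgroup.mem_normalizer_iff.1 hn b).1 hb, rfl⟩
      · rintro ⟨b, hb, e⟩
        refine ⟨n⁻¹ * b * n, (Subgroup.mem_normalizer_iff.1 hn _).2 ?_, ?_⟩
        · rwa [show n * (n⁻¹ * b * n) * n⁻¹ = b by group]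
        · show (n : G)⁻¹ * (b : G) * (n : G) = a
          rw [show (b : G) = (n : G) * a * (n : G)⁻¹ from e]; group
    have h1 := hWV (c⁻¹ * v * c)
    rw [show c * (c⁻¹ * v * c) * c⁻¹ = v by group] at h1
    rw [← h1, key, hWV]
    rw [show c * ((n : G) * (c⁻¹ * v * c) * (n : G)⁻¹) * c⁻¹ =
      c * (n : G) * c⁻¹ * v * (c * (n : G) * c⁻¹)⁻¹ by group]
  have heq := Subgroup.eq_of_le_of_card_ge hle (le_of_eq (by
    rw [Subgroup.card_map_of_injective (MulAut.conj c).injective, Subgroup.card_map_of_injective hsub, hcard,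
      (X.vPackage hmoved).vframe.card_normalizer]))
  rw [← heq]
  rintro _ ⟨_, ⟨n, -, rfl⟩, rfl⟩
  exact mul_mem (mul_mem (hC hc) n.2) (inv_mem (hC hc))

end Ctx

/-- A simple group of Janko-four type with a non-trivial image of the presented fourth Janko group is
that group. -/
theorem bijective_of_hom [IsSimpleGroup G] (hG : ¬ IsMulCommutative G) (hJ : Cfsg.IsJ4 Cfsg.Spor.J4)
    (h : Cfsg.IsOfJankoFourTypeAt z) (f : Cfsg.Spor.J4 →* G) (hf : ∃ x, f x ≠ 1) : Function.Bijective f := by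
  classical
  obtain ⟨P, hP⟩ := h
  have : Finite Cfsg.Spor.J4 := Nat.finite_of_card_ne_zero (by rw [hJ.2]; norm_num)
  have := hJ.1
  have hinj : Function.Injective f := by
    rw [← MonoidHom.ker_eq_bot_iff]
    refine (IsSimpleGroup.eq_bot_or_eq_top_of_normal _ inferInstance).resolve_right fun e => ?_
    obtain ⟨x, hx⟩ := hf
    exact hx (MonoidHom.mem_ker.1 (e ▸ Subgroup.mem_top x : x ∈ f.ker))
  refine ⟨hinj, MonoidHom.range_eq_top.1 ?_⟩
  obtain ⟨X⟩ := exists_ctx hP
  have hmoved := X.exists_moved hG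
  -- the involution of the presented group with the large centraliser
  obtain ⟨w, hw, Q, N, M, -, -, -, hNM, -, -, hN, hM, hn, hM22⟩ := CfsgLib.J4Cent.exists_structure hJ
  have hMc : Nat.card M = 443520 * (3 * 2 ^ 13) := by
    rw [Subgroup.card_eq_card_quotient_mul_card_subgroup (N.subgroupOf M),
      Nat.card_congr (Subgroup.subgroupOfEquivOfLe hNM).toEquiv, hN]
    congr 1
    exact hM22.2
  have hwC : Nat.card ↥(Subgroup.centralizer ({w} : Set Cfsg.Spor.J4)) = 2 ^ 13 * 3 * 887040 := by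
    rw [← M.card_mul_index, hM, hMc]; norm_num
  set u := f w with hu_def
  have hu : orderOf u = 2 := by rw [hu_def, orderOf_injective f hinj, hw]
  have hle : (Subgroup.centralizer ({w} : Set Cfsg.Spor.J4)).map f ≤ Subgroup.centralizer ({u} : Set G) := by
    rintro _ ⟨x, hx, rfl⟩
    rw [Subgroup.mem_centralizer_singleton_iff]
    have := Subgroup.mem_centralizer_singleton_iff.1 hx
    rw [hu_def, ← map_mul, ← map_mul, this]
  have hzC : Nat.card ↥(CC z) = 2 ^ 13 * 3 * 887040 := CfsgLib.J4Type86.card_cH hP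
  have hconj : IsConj z u := by
    by_contra hnc
    obtain ⟨V, K, -, -, hN', -, hV, hKV, hKs, ⟨e⟩⟩ := X.centralizer_split hmoved u hu hnc
    have hb := Subgroup.card_le_card_group ((Subgroup.centralizer ({w} : Set Cfsg.Spor.J4)).map f |>.subgroupOf
      (Subgroup.centralizer ({u} : Set G)))
    rw [Nat.card_congr (Subgroup.subgroupOfEquivOfLe hle).toEquiv,
      Subgroup.card_map_of_injective hinj, hwC] at hb
    have hK : Nat.card ↥K = 887040 := by
      rw [Nat.card_congr e.toEquiv, CfsgLib.MathieuAut22.natCard_mulAut_sporM22]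
    have hcount : Nat.card ↥(Subgroup.centralizer ({u} : Set G)) ≤ 887040 * 2 ^ 11 := by
      rw [← hKs, ← hK, ← hV, ← SetLike.coe_sort_coe]
      have hKN : K ≤ Subgroup.normalizer (V : Set G) := le_trans (le_sup_left.trans hKs.le) hN'
      rw [Subgroup.coe_mul_of_left_le_normalizer_right K V hKN, ← SetLike.coe_sort_coe K, ← SetLike.coe_sort_coe V]
      exact Set.natCard_mul_le
    omega
  obtain ⟨g, hg⟩ := isConj_iff.1 hconj
  set f' := (MulAut.conj g⁻¹).toMonoidHom.comp f with hf'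
  have hinj' : Function.Injective f' := (MulAut.conj g⁻¹).injective.comp hinj
  have hC : CC z ≤ f'.range := by
    have hle' : ((Subgroup.centralizer ({w} : Set Cfsg.Spor.J4)).map f') ≤ CC z := by
      rintro _ ⟨x, hx, rfl⟩
      rw [Subgroup.mem_centralizer_singleton_iff]
      have hxw : f x * u = u * f x := Subgroup.mem_centralizer_singleton_iff.1 (hle ⟨x, hx, rfl⟩)
      show g⁻¹ * f x * g⁻¹⁻¹ * z = z * (g⁻¹ * f x * g⁻¹⁻¹)
      rw [← hg] at hxw
      calc g⁻¹ * f x * g⁻¹⁻¹ * z = g⁻¹ * (f x * (g * z * g⁻¹)) * g := by group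
        _ = z * (g⁻¹ * f x * g⁻¹⁻¹) := by rw [hxw]; group
    rw [← Subgroup.eq_of_le_of_card_ge hle' (by rw [hzC, Subgroup.card_map_of_injective hinj', hwC])]
    exact Subgroup.map_le_range _ _
  have e := MonoidHom.ofInjective hinj'
  have : Nontrivial f'.range := e.toEquiv.symm.nontrivial
  have : IsSimpleGroup f'.range := IsSimpleGroup.isSimpleGroup_of_surjective e.toMonoidHom e.surjective
  have hna : ¬ IsMulCommutative f'.range := by
    intro hc
    let _ : CommGroup f'.range := CommGroup.mk (fun a b => mul_comm' a b)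
    have hp : (Nat.card f'.range).Prime := IsSimpleGroup.prime_card
    rw [← Nat.card_congr e.toEquiv, hJ.2] at hp
    exact (Nat.Prime.eq_one_or_self_of_dvd hp 2 (by norm_num)).elim (by norm_num) (by norm_num)
  have htop := X.eq_top_of_le hmoved f'.range hC (X.normalizer_le_of_cc_le hmoved f'.range hC hna)
  rw [eq_top_iff]
  rintro y -
  obtain ⟨x, hx⟩ := (htop.ge (Subgroup.mem_top (g⁻¹ * y * g)) : g⁻¹ * y * g ∈ f'.range)
  refine ⟨x, ?_⟩
  have hx' : g⁻¹ * f x * g⁻¹⁻¹ = g⁻¹ * y * g := hx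
  rw [inv_inv] at hx'
  exact mul_left_cancel (mul_right_cancel hx')

/-- The isomorphism and the order. -/
theorem iso_of_hom [IsSimpleGroup G] (hG : ¬ IsMulCommutative G) (hJ : Cfsg.IsJ4 Cfsg.Spor.J4)
    (h : Cfsg.IsOfJankoFourTypeAt z) (f : Cfsg.Spor.J4 →* G) (hf : ∃ x, f x ≠ 1) :
    Cfsg.Spor.IsoJ4 G ∧ Nat.card G = 86775571046077562880 := by
  have e := MulEquiv.ofBijective f (bijective_of_hom hG hJ h f hf)
  exact ⟨⟨e.symm⟩, by rw [← Nat.card_congr e.toEquiv]; exact hJ.2⟩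

end CfsgLib.J4Type
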