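import Cfsg.Agent.Lib.J4Type.SixFoldWitness
import Cfsg.Agent.Lib.J4Type.Translate
import Cfsg.Agent.Lib.J4Type.Splitting.Five
import Cfsg.Agent.Lib.J4Type.Sym.Model

/-!
Facts at `z` for the environment of the rules: lifts commuting with `p` with prescribed images, the images
of words, and translations against the change of gauge.
-/

set_option autoImplicit false
set_option linter.unusedSectionVars false
set_option maxRecDepth 20000

namespace CfsgLib.J4Type.Sym

open VCode (liftCols kCols qCols)

theorem colsR_low : ((List.range 4).all fun i => (List.range 12).all fun j =>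
    Nat.blt (Nat.xor (app (colsR.getD i []) (2 ^ j)) (2 ^ j)) 64) = true := by
  decide +kernel

theorem colsR_disp_lt (i : ℕ) (hi : i < 4) {v : ℕ} (hv : v < 4096) :
    Nat.xor (app (colsR.getD i []) v) v < 64 := by
  let cols := (List.range 12).map fun j => Nat.xor (app (colsR.getD i []) (2 ^ j)) (2 ^ j)
  have e : Nat.xor (app (colsR.getD i []) v) v = app cols v := by
    refine app_eq_of_units (k := 12) (fun v => Nat.xor (app (colsR.getD i []) v) v) (app cols) (fun a b => ?_)
      (app_xor _) (fun j hj => ?_) hv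
    · show Nat.xor (app _ (Nat.xor a b)) (Nat.xor a b) = _
      rw [app_xor]
      show (_ ^^^ _) ^^^ (a ^^^ b) = (_ ^^^ a) ^^^ (_ ^^^ b)
      ac_rfl
    · rw [app_two_pow cols, List.getD_eq_getElem _ _ (show j < cols.length by simp [cols, hj]),
        List.getElem_map, List.getElem_range]
  rw [e]
  exact app_lt (k := 6) _ _ fun c hc => by
    obtain ⟨j, hj, rfl⟩ := List.mem_map.1 hc
    exact Nat.blt_eq.mp (List.all_eq_true.1 (List.all_eq_true.1 colsR_low i (List.mem_range.2 hi)) j hj)

universe u

variable {G : Type u} [Group G] [Finite G] {z : G} {P : Subgroup G} {X : Ctx z P} (L : Lifts X)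

include L in
/-- Translations commute with the change of gauge. -/
theorem qCols_kCols {m v : ℕ} (hm : m < 16) (hv : v < 4096) {n : ℕ} (hn : n < 2048) :
    app (qCols v) (app (kCols m) n) = app (kCols m) (app (qCols v) n) := by
  obtain ⟨-, -, hklow⟩ := kCols_facts hm
  obtain ⟨g1, g2, g3⟩ := L.qCols_getD v
  refine app_eq_of_units (k := 11) (fun n => app (qCols v) (app (kCols m) n))
    (fun n => app (kCols m) (app (qCols v) n)) (fun a b => by show app _ (app _ _) = _; rw [app_xor, app_xor])
    (fun a b => by show app _ (app _ _) = _; rw [app_xor, app_xor]) (fun j hj => ?_) hn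
  show app (qCols v) (app (kCols m) (2 ^ j)) = app (kCols m) (app (qCols v) (2 ^ j))
  rw [app_two_pow (qCols v)]
  have hb : ∀ b : Bool, (if b then 64 else 0 : ℕ) < 128 := fun b => by cases b <;> simp
  have hxl : ∀ a b : ℕ, a < 128 → b < 128 → Nat.xor a b < 128 := fun a b ha hb =>
    Nat.xor_lt_two_pow (n := 7) ha hb
  rcases Nat.lt_trichotomy j 6 with h | h | h
  · have h64 : 2 ^ j < 64 := L.two_pow_lt (k := 6) h
    rw [hklow _ (by omega), app_two_pow, g1 j h, hklow _ (hxl _ _ (by omega) (hb _))]
  · subst h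
    rw [hklow _ (by norm_num), app_two_pow, g2, hklow _ (by norm_num)]
  · obtain ⟨i, rfl⟩ : ∃ i, j = 7 + i := ⟨j - 7, by omega⟩
    have hi : i < 4 := by omega
    have ek : app (kCols m) (2 ^ (7 + i)) = Nat.xor (128 * 2 ^ i) (if Nat.testBit m i then 64 else 0) := by
      rw [app_two_pow, kCols, List.getD_append_right _ _ _ _ (by simp), List.length_map, List.length_range,
        Nat.add_sub_cancel_left, List.getD_eq_getElem _ _ (by simp [hi]), List.getElem_map, List.getElem_range]
    have e128 : (128 : ℕ) * 2 ^ i = 2 ^ (7 + i) := by rw [pow_add]; norm_num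
    have e64 : app (qCols v) (if Nat.testBit m i then 64 else 0) = if Nat.testBit m i then 64 else 0 := by
      split_ifs
      · rw [show (64 : ℕ) = 2 ^ 6 by norm_num, app_two_pow, g2]; norm_num
      · exact app_zero _
    have hd : Nat.xor (Nat.xor (app (colsR.getD i []) v) v)
        (if VCode.bn v (app colsT (Nat.xor (app (colsR.getD i []) v) v)) then 64 else 0) < 128 :=
      hxl _ _ (lt_trans (colsR_disp_lt i hi hv) (by norm_num)) (hb _)
    rw [g3 i hi, app_xor (kCols m), hklow _ hd, e128, ek, app_xor (qCols v), e64, e128, app_two_pow (qCols v),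
      g3 i hi, e128]
    simp only [show ∀ a b, Nat.xor a b = a ^^^ b from fun a b => rfl]
    simp [Nat.xor_assoc, Nat.xor_comm, Nat.xor_left_comm]

include L in
/-- An element with image in the normal subgroup of order sixteen that commutes with `p` lies in `VV`. -/
theorem mem_VV_of_p (hsq : ∀ a ∈ X.VV, a * a = 1) {w : CC z} (hw : w * L.p = L.p * w)
    (h : (QuotientGroup.mk w : CC z ⧸ QQ z) ∈ X.model.rSub) : w ∈ X.VV := by
  obtain ⟨n, hn, e⟩ := X.model.exists_evR h
  have hc : L.enc (128 * n) * L.p = L.p * L.enc (128 * n) := by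
    rw [show 128 * n = 64 * (2 * n) by ring]
    exact L.enc_p hsq (by omega)
  rcases L.unique_lift hc hw ((L.mk_high hsq hn).trans e) with e' | e'
  · exact e' ▸ L.enc_mem hsq _
  · rw [e']; exact mul_mem (L.enc_mem hsq _) (L.enc_z ▸ L.enc_mem hsq _)

include L in
/-- A lift of `h` commuting with `p` acting on `VV` as a given element with the same columns on `W`. -/
theorem exists_lift_same (hsq : ∀ a ∈ X.VV, a * a = 1) {a : CC z} (hap : a * L.p = L.p * a)
    {h : CC z ⧸ QQ z} (hh : h * X.model.gens.t = X.model.gens.t * h) (col cols : List ℕ)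
    (hcl : ∀ n, n < 64 → app cols n = app col n ∧ app col n < 64)
    (hA : ∀ n, n < 2048 → a * L.enc n * a⁻¹ = L.enc (app cols n))
    (hact : ∀ v, X.model.code ((ext13_of X.hyp).rep.ρ h v) = app col (X.model.code v)) :
    ∃ a' : CC z, (QuotientGroup.mk a' : CC z ⧸ QQ z) = h ∧ a' * L.p = L.p * a' ∧
      ∀ n, n < 2048 → a' * L.enc n * a'⁻¹ = L.enc (app cols n) := by
  obtain ⟨a', ha', hap'⟩ := exists_comm_lift (QQ z) (not_three_dvd X.hyp) L.p_three (h := h)
    (by rw [L.p_mk]; exact hh)
  refine ⟨a', ha', hap', ?_⟩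
  set R := (ext13_of X.hyp).rep
  have hW : ∀ v, X.model.code v < 64 →
      X.model.code (R.ρ (QuotientGroup.mk a) v) = app col (X.model.code v) := by
    intro v hv
    obtain ⟨b, rfl⟩ := pr_surj v
    obtain ⟨h1, h2⟩ := hcl _ hv
    set n := X.model.code (pr b)
    have eb : R.ρ (QuotientGroup.mk a) (pr b) = R.ρ (QuotientGroup.mk a) (pr (L.sec n)) :=
      congrArg _ (X.model.code_inj _ _ (L.code_sec hv).symm)
    rw [eb, (ext13_of X.hyp).rep_apply]
    have e : cjQ a (L.sec n) = L.sec (app col n) := Subtype.ext (by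
      rw [cjQ_val, ← L.enc_sec hsq hv, hA n (by omega), h1, L.enc_sec hsq h2])
    rw [e, L.code_sec h2]
  have hfix : X.model.FixesW ((QuotientGroup.mk a : CC z ⧸ QQ z)⁻¹ * h) := by
    intro v hv
    have e : R.ρ h v = R.ρ (QuotientGroup.mk a) v := X.model.code_inj _ _ (by rw [hact, hW v hv])
    rw [R.mul_apply, e, ← R.mul_apply, inv_mul_cancel, R.one_apply]
  have hm : (QuotientGroup.mk (a⁻¹ * a') : CC z ⧸ QQ z) ∈ X.model.rSub := by
    rw [QuotientGroup.mk_mul, QuotientGroup.mk_inv, ha']
    exact X.model.fixesW_iff.1 hfix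
  have hca : Commute a L.p := hap
  have hca' : Commute a' L.p := hap'
  have hv : a⁻¹ * a' ∈ X.VV := mem_VV_of_p L hsq (hca.inv_left.mul_left hca').eq hm
  intro n hn
  have inv : ∀ w ∈ X.VV, w⁻¹ = w := fun w hw => inv_eq_of_mul_eq_one_right (hsq w hw)
  have hcomm : a⁻¹ * a' * L.enc n = L.enc n * (a⁻¹ * a') := by
    rw [← inv _ (mul_mem hv (L.enc_mem hsq n)), mul_inv_rev, inv _ hv, inv _ (L.enc_mem hsq n)]
  calc a' * L.enc n * a'⁻¹ = a * (a⁻¹ * a' * L.enc n) * (a⁻¹ * a')⁻¹ * a⁻¹ := by group
    _ = a * L.enc n * a⁻¹ := by rw [hcomm]; group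
    _ = _ := hA n hn

/-- The image in `G` of a word. -/
theorem coe_evW (a c : CC z) (w : List Bool) : ((evW a c w : CC z) : G) = evW (a : G) (c : G) w := by
  rw [evW, evW, Subgroup.val_list_prod, List.map_map]
  exact congrArg List.prod (List.map_congr_left fun b _ => by cases b <;> rfl)

theorem mk_evW (a c : CC z) (w : List Bool) :
    (QuotientGroup.mk (evW a c w) : CC z ⧸ QQ z) = evW (QuotientGroup.mk a) (QuotientGroup.mk c) w := by
  rw [evW, evW, ← QuotientGroup.mk'_apply, map_list_prod, List.map_map]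
  exact congrArg List.prod (List.map_congr_left fun b _ => by cases b <;> rfl)

theorem commute_evW {a c : CC z} (ha : a * L.p = L.p * a) (hc : c * L.p = L.p * c) (w : List Bool) :
    Commute (evW a c w) L.p := by
  induction w with
  | nil => exact Commute.one_left _
  | cons b w ih => cases b <;> exact (Commute.mul_left (by assumption) ih)

include L in
/-- An element commuting with `p` and a product with the same image differ by `1` or `z`, in `G`. -/
theorem eq_or_eq_z {x y : CC z} (hx : x * L.p = L.p * x) (hy : y * L.p = L.p * y)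
    (h : (QuotientGroup.mk x : CC z ⧸ QQ z) = QuotientGroup.mk y) :
    (x : G) = y ∨ (x : G) = z * y := by
  rcases L.unique_lift hy hx h.symm with e | e <;> rw [e]
  · exact Or.inl rfl
  · exact Or.inr (congrArg Subtype.val (Ctx.zc_central y).symm)

omit [Finite G] in
/-- Every element conjugates `t` to itself or its inverse. -/
theorem t_conj {H : Type*} [Group H] (S : Gens H) (h : H) : h * S.t * h⁻¹ = S.t ∨ h * S.t * h⁻¹ = S.t⁻¹ := by
  have hh : h ∈ (⊤ : Subgroup H) := Subgroup.mem_top h
  rw [← S.top] at hh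
  induction hh using Subgroup.closure_induction with
  | mem x hx =>
    rcases hx with (rfl | rfl | rfl | rfl) | ⟨i, rfl⟩
    · exact Or.inl (by rw [S.t_a, mul_inv_cancel_right])
    · exact Or.inl (by rw [S.t_c, mul_inv_cancel_right])
    · exact Or.inl (by rw [S.t_g, mul_inv_cancel_right])
    · exact Or.inr S.u_t
    · exact Or.inl (by rw [S.t_r i, mul_inv_cancel_right])
  | one => exact Or.inl (by rw [one_mul, inv_one, mul_one])
  | mul x y _ _ hx hy =>
    have e : x * y * S.t * (x * y)⁻¹ = x * (y * S.t * y⁻¹) * x⁻¹ := by group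
    rw [e]
    rcases hy with hy | hy <;> rw [hy]
    · exact hx
    · rw [show x * S.t⁻¹ * x⁻¹ = (x * S.t * x⁻¹)⁻¹ by group]
      rcases hx with hx | hx <;> rw [hx]
      · exact Or.inr rfl
      · exact Or.inl (inv_inv _)
  | inv x _ hx =>
    rcases hx with hx | hx
    · refine Or.inl ?_
      calc x⁻¹ * S.t * x⁻¹⁻¹ = x⁻¹ * (x * S.t * x⁻¹) * x := by rw [hx, inv_inv]
        _ = S.t := by group
    · refine Or.inr ?_
      calc x⁻¹ * S.t * x⁻¹⁻¹ = x⁻¹ * (x * S.t * x⁻¹)⁻¹ * x := by rw [hx, inv_inv, inv_inv]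
        _ = S.t⁻¹ := by group

end CfsgLib.J4Type.Sym
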