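import Cfsg.Agent.Lib.J4Type.Assemble
import Cfsg.Agent.Lib.J4Type.Fusion
import Cfsg.Agent.Lib.J4Type.Model.Ctx
import Cfsg.Agent.Lib.J4Type.Sym.EnvBasics

/-!
In a simple group of Janko-four type there are a subgroup of order `2^11` with the environment of the rules
and a complement of it in its normaliser.
-/

set_option autoImplicit false
set_option linter.unusedSectionVars false
set_option maxRecDepth 20000

namespace CfsgLib.J4Type.Sym

open Cfsg
open VCode (liftCols kCols qCols)

theorem low_cols_AC : ((List.range 64).all fun n =>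
    ((List.range 16).all fun e => Nat.beq (app (liftCols colsA arPat e) n) (app colsA n) &&
      Nat.beq (app (liftCols colsC crPat e) n) (app colsC n)) &&
      Nat.blt (app colsA n) 64 && Nat.blt (app colsC n) 64) = true := by
  decide +kernel

universe u

variable {G : Type u} [Group G] [Finite G] {z : G} {P : Subgroup G} {X : Ctx z P}

open scoped Classical in
/-- The code of an element of the largest normal 2-subgroup of the centraliser, in `G`. -/
noncomputable def qcode (X : Ctx z P) (y : G) : ℕ :=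
  if h : ∃ b : QQ z, ((b : CC z) : G) = y then X.model.code (pr h.choose) else 0

theorem qcode_val (X : Ctx z P) (b : QQ z) : qcode X ((b : CC z) : G) = X.model.code (pr b) := by
  have h : ∃ b' : QQ z, ((b' : CC z) : G) = ((b : CC z) : G) := ⟨b, rfl⟩
  rw [qcode, dif_pos h]
  exact congrArg (fun w => X.model.code (pr w)) (Subtype.ext (Subtype.ext h.choose_spec))

theorem exists_q {y : G} (hy : y ∈ Cfsg.twoCoreOfCentralizer z) : ∃ b : QQ z, ((b : CC z) : G) = y := by
  rw [← map_QQ] at hy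
  obtain ⟨b, hb, rfl⟩ := hy
  exact ⟨⟨b, hb⟩, rfl⟩

/-- The environment from the lifts, once `z` moves and the normaliser of `P` centralises it. -/
theorem nonempty_env (L : Lifts X) (hpP : (L.p : G) ∈ P)
    (hmoved : ∃ m ∈ Subgroup.normalizer (X.Vg : Set G), m * z * m⁻¹ ≠ z)
    (hnorm : Subgroup.normalizer (P : Set G) ≤ CC z) : Nonempty (Env z X.Vg) := by
  classical
  have hS := X.model.stabFacts
  have hsq : ∀ a ∈ X.VV, a * a = 1 := fun a ha => X.VV_sq hS ha
  obtain ⟨ec, D, m, a₀, c₀, hm, hD, hap₀, hcp₀, hA₀, hC₀⟩ :=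
    exists_vact_coords L hsq (X.card_normalizer hS) X.exists_norm_conj_z hmoved
  obtain rfl : ec = 2 := D.ec_eq
  obtain ⟨hk2, hklt, hklow⟩ := kCols_facts hm
  have hlow := List.all_eq_true.1 low_cols_AC
  -- the lifts
  have key : ∀ (b : CC z) (h : CC z ⧸ QQ z) (col pat : List ℕ) (e : ℕ), b * L.p = L.p * b →
      h * X.model.gens.t = X.model.gens.t * h →
      (∀ v, X.model.code ((ext13_of X.hyp).rep.ρ h v) = app col (X.model.code v)) →
      (∀ n, n < 64 → app (liftCols col pat e) n = app col n ∧ app col n < 64) →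
      (∀ v, v < 2048 → (b : G) * D.enc v * (b : G)⁻¹ = D.enc (app (liftCols col pat e) v)) →
      ∃ b' : CC z, (QuotientGroup.mk b' : CC z ⧸ QQ z) = h ∧ b' * L.p = L.p * b' ∧
        ∀ v, v < 2048 → (b' : G) * D.enc v * (b' : G)⁻¹ = D.enc (app (liftCols col pat e) v) := by
    intro b h col pat e hbp hh hact hcl hb
    let cols := (List.range 11).map fun j => app (kCols m) (app (liftCols col pat e) (app (kCols m) (2 ^ j)))
    have hcols : ∀ n, n < 2048 → app cols n = app (kCols m) (app (liftCols col pat e) (app (kCols m) n)) :=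
      fun n hn => app_eq_of_units (k := 11) (app cols) (fun n => app (kCols m) (app (liftCols col pat e) (app (kCols m) n)))
        (app_xor _) (fun a b => by show app _ (app _ (app _ _)) = _; rw [app_xor, app_xor, app_xor])
        (fun j hj => by
          rw [app_two_pow, List.getD_eq_getElem _ _ (show j < cols.length by simp [cols, hj]), List.getElem_map,
            List.getElem_range]) hn
    obtain ⟨b', h1, h2, h3⟩ := exists_lift_same L hsq hbp hh col cols (fun n hn => by
      obtain ⟨e1, e2⟩ := hcl n hn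
      rw [hcols n (by omega), hklow n (by omega), e1, hklow _ (by omega)]
      exact ⟨rfl, e2⟩) (fun n hn => by
      have h' := hb _ (hklt n)
      rw [hD, hD, hk2 n hn] at h'
      rw [hcols n hn]
      exact Subtype.ext h') hact
    refine ⟨b', h1, h2, fun v hv => ?_⟩
    rw [hD, hD]
    have h' := congrArg Subtype.val (h3 _ (hklt v))
    rw [hcols _ (hklt v), hk2 v hv] at h'
    exact h'
  obtain ⟨a, ha, hap, hA⟩ := key a₀ X.model.gens.a colsA arPat 0 hap₀ X.model.gens.t_a X.model.act_a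
    (fun n hn => by
      have h := hlow n (List.mem_range.2 hn)
      simp only [Bool.and_eq_true, Nat.blt_eq, List.all_eq_true, List.mem_range] at h
      exact ⟨Nat.eq_of_beq_eq_true (h.1.1 0 (by norm_num)).1, h.1.2⟩) hA₀
  obtain ⟨c, hc, hcp, hC⟩ := key c₀ X.model.gens.c colsC crPat 2 hcp₀ X.model.gens.t_c X.model.act_c
    (fun n hn => by
      have h := hlow n (List.mem_range.2 hn)
      simp only [Bool.and_eq_true, Nat.blt_eq, List.all_eq_true, List.mem_range] at h
      exact ⟨Nat.eq_of_beq_eq_true (h.1.1 2 (by norm_num)).2, h.2⟩) hC₀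
  obtain ⟨g, hg, hgp⟩ := exists_comm_lift (QQ z) (not_three_dvd X.hyp) L.p_three
    (h := X.model.gens.g) (by rw [L.p_mk]; exact X.model.gens.t_g)
  have cap : Commute a L.p := hap
  have ccp : Commute c L.p := hcp
  have cgp : Commute g L.p := hgp
  have hp1 : (L.p : G) ≠ 1 := fun e => X.model.gens.t_ne (by
    rw [← L.p_mk, show L.p = 1 from Subtype.ext e, QuotientGroup.mk_one])
  have hgen : Subgroup.zpowers (L.p : G) = P := by
    refine Subgroup.eq_of_le_of_card_ge (Subgroup.zpowers_le.2 hpP) ?_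
    rw [Nat.card_zpowers, orderOf_eq_prime (p := 3) (hp := ⟨Nat.prime_three⟩)
      (congrArg Subtype.val L.p_three) hp1, X.hyp.2.2.2.2.2.1]
  have hPn : ∀ x : G, (x * (L.p : G) * x⁻¹ = L.p ∨ x * (L.p : G) * x⁻¹ = (L.p : G)⁻¹) → x * z = z * x := by
    intro x hx
    refine Subgroup.mem_centralizer_singleton_iff.1 (hnorm (Subgroup.mem_normalizer_fintype fun q hq => ?_))
    rw [SetLike.mem_coe, ← hgen, Subgroup.mem_zpowers_iff] at hq ⊢
    obtain ⟨n, rfl⟩ := hq
    rw [← conj_zpow]
    rcases hx with hx | hx <;> rw [hx]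
    · exact ⟨n, rfl⟩
    · exact ⟨-n, by rw [zpow_neg, inv_zpow]⟩
  -- products commuting with `p` with trivial image
  have triv : ∀ x : CC z, x * L.p = L.p * x → (QuotientGroup.mk x : CC z ⧸ QQ z) = 1 →
      (x : G) = 1 ∨ (x : G) = z := fun x hx h => by
    rcases eq_or_eq_z L hx (y := 1) (by rw [one_mul, mul_one]) h with e | e
    · exact Or.inl e
    · exact Or.inr (e.trans (mul_one z))
  have word : ∀ (x : CC z) (k : ℕ) (w : List Bool), x * L.p = L.p * x →
      (QuotientGroup.mk x : CC z ⧸ QQ z) = X.model.gens.t ^ k * evW X.model.gens.a X.model.gens.c w →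
      (x : G) = (L.p : G) ^ k * evW (a : G) (c : G) w ∨ (x : G) = z * ((L.p : G) ^ k * evW (a : G) (c : G) w) := by
    intro x k w hx h
    have hy : Commute (L.p ^ k * evW a c w) L.p :=
      (Commute.pow_left (Commute.refl _) k).mul_left (commute_evW L hap hcp w)
    have h' := eq_or_eq_z L hx hy.eq (by
      rw [h, QuotientGroup.mk_mul, QuotientGroup.mk_pow, L.p_mk, mk_evW, ha, hc])
    rwa [Subgroup.coe_mul, SubmonoidClass.coe_pow, coe_evW] at h'
  have hS13 := ext13_of X.hyp
  refine ⟨{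
    enc := D.enc
    enc_mem := D.enc_mem
    enc_inj := D.enc_inj
    enc_surj := D.enc_surj
    enc_xor := D.enc_xor
    enc_z := D.enc_z
    nc := D.ec_sel.2
    self_cent := D.self_cent
    card_norm := D.vframe.card_normalizer
    Q := Cfsg.twoCoreOfCentralizer z
    code := qcode X
    Q_cent := fun y hy => by
      obtain ⟨b, rfl⟩ := exists_q hy
      exact Subgroup.mem_centralizer_singleton_iff.1 (b : CC z).2
    code_lt := fun y hy => by
      obtain ⟨b, rfl⟩ := exists_q hy
      rw [qcode_val]; exact X.model.code_lt _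
    code_mul := fun y hy y' hy' => by
      obtain ⟨b, rfl⟩ := exists_q hy
      obtain ⟨b', rfl⟩ := exists_q hy'
      rw [qcode_val, qcode_val, show ((b : CC z) : G) * ((b' : CC z) : G) = (((b * b' : QQ z) : CC z) : G) from rfl,
        qcode_val, pr_mul, X.model.code_add]
    code_zero := fun y hy h => by
      obtain ⟨b, rfl⟩ := exists_q hy
      rw [qcode_val] at h
      rcases X.center_eq (hS13.pr_eq_zero.1 (X.code_eq_zero.1 h)) with e | e <;> rw [e]
      · exact Or.inl rfl
      · exact Or.inr rfl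
    low_mem := ?_
    code_low := ?_
    Q_norm := fun x hx y hy => by
      obtain ⟨b, rfl⟩ := exists_q hy
      obtain ⟨x', rfl⟩ : ∃ x' : CC z, (x' : G) = x :=
        ⟨⟨x, Subgroup.mem_centralizer_singleton_iff.2 hx⟩, rfl⟩
      rw [show (x' : G) * ((b : CC z) : G) * (x' : G)⁻¹ = (((cjQ x' b : QQ z) : CC z) : G) from
        congrArg Subtype.val (cjQ_val x' b).symm, ← map_QQ]
      exact ⟨_, (cjQ x' b).2, rfl⟩
    Q_comm := fun y hy y' hy' => by
      obtain ⟨b, rfl⟩ := exists_q hy
      obtain ⟨b', rfl⟩ := exists_q hy'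
      have h : b⁻¹ * b'⁻¹ * b * b' ∈ Subgroup.center (QQ z) := by
        have := hS13.comm_mem b⁻¹ b'⁻¹
        rwa [commutatorElement_def, inv_inv, inv_inv] at this
      rcases X.center_eq h with e | e
      · exact Or.inl (congrArg (fun w : QQ z => ((w : CC z) : G)) e)
      · exact Or.inr (congrArg (fun w : QQ z => ((w : CC z) : G)) e)
    a := a
    c := c
    p := L.p
    g := g
    a_cent := Subgroup.mem_centralizer_singleton_iff.1 a.2
    c_cent := Subgroup.mem_centralizer_singleton_iff.1 c.2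
    g_cent := Subgroup.mem_centralizer_singleton_iff.1 g.2
    p_cube := congrArg Subtype.val L.p_three
    p_ne := hp1
    a_p := congrArg Subtype.val hap
    c_p := congrArg Subtype.val hcp
    g_p := congrArg Subtype.val hgp
    conj_a := hA
    conj_c := hC
    conj_p := fun v hv => ?_
    conj_Q := fun y hy v hv => ?_
    g_Q := fun y hy => ?_
    p_cent := fun x hx => hPn x (Or.inl (by rw [hx, mul_inv_cancel_right]))
    p_norm := hPn
    g_a := ?_
    g_c := ?_
    g_g := ?_
    rel_a := ?_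
    rel_c := ?_
    rel_ac := ?_
    rel_acc := ?_
    p_comm_Q := fun x hxz hx => ?_ }⟩
  · intro v hv
    have hv' : (L.enc v : CC z) ∈ X.Wc := by
      rcases Nat.lt_or_ge v 64 with h | h
      · rw [L.enc_sec hsq h]; exact L.sec_mem h
      · have e64 : ∀ l, l < 64 → 64 + l = Nat.xor 64 l := by decide +kernel
        obtain ⟨l, rfl⟩ : ∃ l, v = 64 + l := ⟨v - 64, by omega⟩
        rw [e64 l (by omega), L.enc_xor hsq, L.enc_z, L.enc_sec hsq (show l < 64 by omega)]
        exact mul_mem L.zc_Wc (L.sec_mem (by omega))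
    rw [hD, hklow v hv, ← map_QQ]
    exact ⟨_, X.mem_QQ_of_Wc hv', rfl⟩
  · intro v hv
    rw [hD, hklow v hv]
    rcases Nat.lt_or_ge v 64 with h | h
    · rw [L.enc_sec hsq h, qcode_val, L.code_sec h, Nat.mod_eq_of_lt h]
    · have e64 : ∀ l, l < 64 → 64 + l = Nat.xor 64 l ∧ (64 + l) % 64 = l := by decide +kernel
      obtain ⟨l, rfl⟩ : ∃ l, v = 64 + l := ⟨v - 64, by omega⟩
      have hl : l < 64 := by omega
      rw [(e64 l hl).2, (e64 l hl).1, L.enc_xor hsq, L.enc_z, L.enc_sec hsq hl,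
        show Ctx.zc z * (L.sec l : CC z) = ((X.zQ * L.sec l : QQ z) : CC z) from rfl, qcode_val, pr_mul,
        X.pr_zQ, zero_add, L.code_sec hl]
  · rw [hD, hD, show (L.p : G) * (L.enc (app (kCols m) v) : G) * (L.p : G)⁻¹ =
      ((L.p * L.enc (app (kCols m) v) * L.p⁻¹ : CC z) : G) from rfl, L.conj_p hsq (hklt v)]
    refine congrArg (fun n => ((L.enc n : CC z) : G)) ?_
    refine app_eq_of_units (k := 11) (fun n => app colsVP (app (kCols m) n)) (fun n => app (kCols m) (app colsVP n))
      (fun a b => by show app _ (app _ _) = _; rw [app_xor, app_xor])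
      (fun a b => by show app _ (app _ _) = _; rw [app_xor, app_xor]) (fun j hj => ?_) hv
    have := List.all_eq_true.1 (List.all_eq_true.1 (List.all_eq_true.1 VCode.gauge_spec 0
      (List.mem_range.2 (by norm_num))) m (List.mem_range.2 hm)) j (List.mem_range.2 hj)
    simp only [Bool.and_eq_true] at this
    exact Nat.eq_of_beq_eq_true this.2
  · obtain ⟨b, rfl⟩ := exists_q hy
    rw [qcode_val, hD, hD, ← qCols_kCols L hm (X.model.code_lt _) hv]
    exact congrArg Subtype.val (L.conj_trans hsq b (hklt v))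
  · obtain ⟨b, rfl⟩ := exists_q hy
    have e : (g : G) * ((b : CC z) : G) * (g : G)⁻¹ = (((cjQ g b : QQ z) : CC z) : G) :=
      congrArg Subtype.val (cjQ_val g b).symm
    rw [e, qcode_val, qcode_val, L.code_rho g hg, X.model.act_g]
    exact ⟨by rw [← map_QQ]; exact ⟨_, (cjQ g b).2, rfl⟩, rfl⟩
  · obtain ⟨k, hk⟩ := X.model.gens.g_a
    exact ⟨k, word (g * a * g⁻¹) k _ ((cgp.mul_left cap).mul_left cgp.inv_left).eq
      (by rw [QuotientGroup.mk_mul, QuotientGroup.mk_mul, QuotientGroup.mk_inv, hg, ha, hk])⟩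
  · obtain ⟨k, hk⟩ := X.model.gens.g_c
    exact ⟨k, word (g * c * g⁻¹) k _ ((cgp.mul_left ccp).mul_left cgp.inv_left).eq
      (by rw [QuotientGroup.mk_mul, QuotientGroup.mk_mul, QuotientGroup.mk_inv, hg, hc, hk])⟩
  · exact ⟨0, word (g * g) 0 _ (cgp.mul_left cgp).eq
      (by rw [QuotientGroup.mk_mul, hg, X.model.gens.g_g, pow_zero, one_mul])⟩
  · exact triv (a * a) (cap.mul_left cap).eq (by rw [QuotientGroup.mk_mul, ha, X.model.gens.a_sq])
  · exact triv (c ^ 4) (ccp.pow_left 4).eq (by rw [QuotientGroup.mk_pow, hc, X.model.gens.c_four])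
  · obtain ⟨k, hk⟩ := X.model.gens.ac_five
    refine ⟨2 * k, triv ((a * c) ^ 5 * L.p ^ (2 * k))
      (((cap.mul_left ccp).pow_left 5).mul_left ((Commute.refl L.p).pow_left _)).eq ?_⟩
    rw [QuotientGroup.mk_mul, QuotientGroup.mk_pow, QuotientGroup.mk_pow, QuotientGroup.mk_mul, ha, hc, hk,
      L.p_mk, ← pow_add, show k + 2 * k = 3 * k by omega, pow_mul, X.model.gens.t_cube, one_pow]
  · refine ⟨0, triv ((a * (c * c)) ^ 5 * L.p ^ 0)
      (((cap.mul_left (ccp.mul_left ccp)).pow_left 5).mul_left ((Commute.refl L.p).pow_left _)).eq ?_⟩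
    rw [QuotientGroup.mk_mul, QuotientGroup.mk_pow, QuotientGroup.mk_mul, QuotientGroup.mk_mul, ha, hc,
      X.model.gens.ac2_five, pow_zero, QuotientGroup.mk_one, mul_one]
  · obtain ⟨x', rfl⟩ : ∃ x' : CC z, (x' : G) = x :=
      ⟨⟨x, Subgroup.mem_centralizer_singleton_iff.2 hxz⟩, rfl⟩
    set t := X.model.gens.t
    have hmk : (QuotientGroup.mk (x' * L.p * x'⁻¹ * L.p⁻¹) : CC z ⧸ QQ z) =
        (QuotientGroup.mk x' : CC z ⧸ QQ z) * t * (QuotientGroup.mk x' : CC z ⧸ QQ z)⁻¹ * t⁻¹ := by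
      rw [QuotientGroup.mk_mul, QuotientGroup.mk_mul, QuotientGroup.mk_mul, QuotientGroup.mk_inv,
        QuotientGroup.mk_inv, L.p_mk]
    have h2 : (x' * L.p * x'⁻¹ * L.p⁻¹) * (x' * L.p * x'⁻¹ * L.p⁻¹) = 1 := Subtype.ext hx
    have h2' := congrArg (fun w : CC z => (QuotientGroup.mk w : CC z ⧸ QQ z)) h2
    simp only [QuotientGroup.mk_mul _ (x' * L.p * x'⁻¹ * L.p⁻¹), QuotientGroup.mk_one, hmk] at h2'
    have hq : x' * L.p * x'⁻¹ * L.p⁻¹ ∈ QQ z := by
      rw [← QuotientGroup.eq_one_iff, hmk]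
      rcases t_conj X.model.gens (QuotientGroup.mk x') with e | e
      · rw [e, mul_inv_cancel]
      · rw [e] at h2' ⊢
        have e3 : t⁻¹ * t⁻¹ = t := by
          rw [← mul_inv_rev, inv_eq_iff_mul_eq_one, ← sq, ← pow_succ, X.model.gens.t_cube]
        rw [e3] at h2' ⊢
        calc t = t ^ 3 * (t * t)⁻¹ * 1 := by rw [pow_three]; group
          _ = 1 := by rw [X.model.gens.t_cube, h2', inv_one, mul_one, mul_one]
    rw [← map_QQ]
    exact ⟨_, hq, rfl⟩

/-- **The environment of the rules**, with a complement isomorphic to Mathieu's group. -/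
theorem exists_env [IsSimpleGroup G] (hG : ¬ IsMulCommutative G) {z : G} (hJ : Cfsg.IsOfJankoFourTypeAt z) :
    ∃ A : Subgroup G, Nonempty (Env z A) ∧ ∃ K : Subgroup G, K ≤ Subgroup.normalizer (A : Set G) ∧
      K ⊓ A = ⊥ ∧ K ⊔ A = Subgroup.normalizer (A : Set G) ∧ Cfsg.Spor.IsoM24 ↥K := by
  obtain ⟨P, hJP⟩ := hJ
  obtain ⟨X⟩ := exists_ctx hJP
  obtain ⟨g, hg, hne⟩ := X.exists_conj_mem_Vg hG
  obtain ⟨m, hm, hmz⟩ := X.exists_norm_conj_z _ hg (isConj_iff.2 ⟨g, rfl⟩)
  have hmoved : ∃ m ∈ Subgroup.normalizer (X.Vg : Set G), m * z * m⁻¹ ≠ z := ⟨m, hm, hmz ▸ hne⟩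
  obtain ⟨L, hpP⟩ := exists_lifts_mem X
  have hnorm := (CfsgLib.J4Type86.sixFold hJP (hasWitness X X.exists_norm_conj_z hmoved)).2.2.2.2
  exact ⟨X.Vg, nonempty_env L hpP hmoved hnorm, (X.vPackage hmoved).split⟩

end CfsgLib.J4Type.Sym
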