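import Cfsg.Agent.Lib.J4Type.Sym.LabelMap
import Cfsg.Agent.Lib.Golay.Mathieu

/-!
The normaliser of the subgroup of order `2^11` acts on the pairs of the 24 points through the group of the
code, with the subgroup as kernel; table checks for the three elements of the stabiliser of `z`.
-/
set_option autoImplicit false
set_option maxRecDepth 20000
set_option linter.style.haveILetI false

namespace CfsgLib.J4Type.Sym.Lbl

open Cfsg
open CfsgLib.J4DCE (pk pget pget_pk imgF imgF_lt okPerm exists_of_okPerm)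
open CfsgLib.Golay (idx pt pt_idx idx_pt)

universe u

variable {G : Type u} [Group G] {z : G} {A : Subgroup G}

namespace Coords

variable (C : Coords z A)

theorem enc_zero : C.enc 0 = 1 := by
  have h := C.enc_xor 0 0 (by norm_num) (by norm_num)
  rw [show Nat.xor 0 0 = 0 from rfl] at h
  exact mul_eq_left.1 h.symm

theorem enc_sq {v : ℕ} (hv : v < 2048) : C.enc v * C.enc v = 1 := by
  rw [← C.enc_xor v v hv hv, Elem.nxor', Nat.xor_self, (Coords.enc_zero C)]

theorem enc_comm {v w : ℕ} (hv : v < 2048) (hw : w < 2048) : C.enc v * C.enc w = C.enc w * C.enc v := by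
  rw [← C.enc_xor v w hv hw, ← C.enc_xor w v hw hv]
  exact congrArg C.enc (Nat.xor_comm v w)

theorem comm (C : Coords z A) {a b : G} (ha : a ∈ A) (hb : b ∈ A) : a * b = b * a := by
  obtain ⟨v, hv, rfl⟩ := C.enc_surj a ha
  obtain ⟨w, hw, rfl⟩ := C.enc_surj b hb
  exact (Coords.enc_comm C) hv hw

theorem card_A (C : Coords z A) : Nat.card A = 2048 := by
  rw [← Nat.card_eq_of_bijective (fun v : Fin 2048 => (⟨C.enc v.1, C.enc_mem v.1 v.2⟩ : A)) ⟨?_, ?_⟩,
    Nat.card_fin]
  · exact fun v w e => Fin.ext (C.enc_inj v w v.2 w.2 (congrArg Subtype.val e))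
  · rintro ⟨a, ha⟩
    obtain ⟨v, hv, e⟩ := C.enc_surj a ha
    exact ⟨⟨v, hv⟩, Subtype.ext e⟩

/-- Conjugation by an element of the normaliser on the codes. -/
theorem exists_codeMap {n : G} (hn : n ∈ Subgroup.normalizer (A : Set G)) :
    ∃ f : ℕ → ℕ, CodeMap f ∧ ∀ v, v < 2048 → n * C.enc v * n⁻¹ = C.enc (f v) := by
  classical
  have hex : ∀ v, ∃ w, v < 2048 → w < 2048 ∧ n * C.enc v * n⁻¹ = C.enc w := by
    intro v
    by_cases hv : v < 2048
    · obtain ⟨w, hw, e⟩ := C.enc_surj _ ((Subgroup.mem_normalizer_iff.1 hn _).1 (C.enc_mem v hv))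
      exact ⟨w, fun _ => ⟨hw, e.symm⟩⟩
    · exact ⟨0, fun h => absurd h hv⟩
  choose f hf using hex
  have hzero : ∀ v, v < 2048 → f v = 0 → v = 0 := fun v hv e => by
    have h := (hf v hv).2
    rw [e, (Coords.enc_zero C), conj_eq_one_iff] at h
    exact C.enc_inj v 0 hv (by norm_num) (h.trans (Coords.enc_zero C).symm)
  refine ⟨f, ⟨fun v hv => (hf v hv).1, fun v w hv hw => ?_, hzero, fun v hv hnc => ?_⟩, fun v hv => (hf v hv).2⟩
  · have hx : Nat.xor v w < 2048 := Nat.xor_lt_two_pow (n := 11) hv hw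
    refine C.enc_inj _ _ (hf _ hx).1 (Nat.xor_lt_two_pow (n := 11) (hf v hv).1 (hf w hw).1) ?_
    rw [← (hf _ hx).2, C.enc_xor v w hv hw, C.enc_xor _ _ (hf v hv).1 (hf w hw).1, ← (hf v hv).2,
      ← (hf w hw).2]
    group
  · obtain ⟨h0, hc⟩ := (C.nc v hv).1 hnc
    refine (C.nc _ (hf v hv).1).2 ⟨fun e => h0 (hzero v hv e), fun h => hc ?_⟩
    rw [← (hf v hv).2] at h
    exact h.trans (isConj_iff.2 ⟨n⁻¹, by group⟩)

end Coords

variable (C : Coords z A)

/-- Every element of the normaliser acts on the pairs as an element of the group of the code. -/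
theorem exists_actsAs {n : G} (hn : n ∈ Subgroup.normalizer (A : Set G)) : ∃ σ : M24, ActsAs C n σ := by
  obtain ⟨f, hf, hfn⟩ := (Coords.exists_codeMap C) hn
  obtain ⟨σ, hσ⟩ := hf.exists_mem_M24
  exact ⟨σ, fun i j hi hj => by rw [hfn _ (lab_lt hi hj), hσ i j hi hj]⟩

theorem pget_lt (σ : M24) {i : ℕ} (hi : i < 24) : pget (pk σ.1) i < 24 := by
  rw [pget_pk _ hi]
  exact imgF_lt _ _

theorem pget_mul (σ τ : M24) {i : ℕ} (hi : i < 24) :
    pget (pk σ.1) (pget (pk τ.1) i) = pget (pk (σ * τ).1) i := by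
  rw [pget_pk _ hi, pget_pk _ hi, pget_pk _ (imgF_lt _ _)]
  exact J4DCE.imgF_mul _ _ hi

theorem pget_inj (σ : M24) {i j : ℕ} (hi : i < 24) (hj : j < 24) (e : pget (pk σ.1) i = pget (pk σ.1) j) :
    i = j := by
  have h1 := pget_mul σ⁻¹ σ hi
  have h2 := pget_mul σ⁻¹ σ hj
  rw [e, h2, inv_mul_cancel, show (1 : M24).1 = 1 from rfl, pget_pk _ hi, pget_pk _ hj,
    J4DCE.imgF_one hi, J4DCE.imgF_one hj] at h1
  exact h1.symm

/-- The permutation is determined by the element. -/
theorem actsAs_unique {n : G} {σ τ : M24} (hσ : ActsAs C n σ) (hτ : ActsAs C n τ) : σ = τ := by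
  have key : ∀ i, i < 24 → pget (pk σ.1) i = pget (pk τ.1) i := by
    intro i hi
    obtain ⟨j, k, hj, hk, hji, hki, hjk⟩ : ∃ j k, j < 24 ∧ k < 24 ∧ j ≠ i ∧ k ≠ i ∧ j ≠ k :=
      ⟨if i = 0 then 1 else 0, if i = 2 then 1 else 2, by split <;> omega, by split <;> omega,
        by split <;> omega, by split <;> omega, by split <;> split <;> omega⟩
    have h : ∀ j, j < 24 → j ≠ i → pget (pk σ.1) i = pget (pk τ.1) i ∨ pget (pk σ.1) i = pget (pk τ.1) j := by
      intro j hj hji
      have e := C.enc_inj _ _ (lab_lt (pget_lt σ hi) (pget_lt σ hj)) (lab_lt (pget_lt τ hi) (pget_lt τ hj))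
        ((hσ i j hi hj).symm.trans (hτ i j hi hj))
      exact (lab_unique (pget_lt σ hi) (pget_lt σ hj) (pget_lt τ hi) (pget_lt τ hj)
        (fun e' => hji (pget_inj σ hi hj e').symm) (fun e' => hji (pget_inj τ hi hj e').symm) e).imp
          And.left And.left
    rcases h j hj hji with h1 | h1
    · exact h1
    rcases h k hk hki with h2 | h2
    · exact h2
    · exact absurd (pget_inj τ hj hk (h1.symm.trans h2)) hjk
  refine Subtype.ext (J4DCE.pk_injective (J4DCE.enc_congr fun i hi => ?_))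
  rw [← pget_pk _ hi, ← pget_pk _ hi]
  exact key i hi

theorem actsAs_mul {n m : G} {σ τ : M24} (hσ : ActsAs C n σ) (hτ : ActsAs C m τ) :
    ActsAs C (n * m) (σ * τ) := by
  intro i j hi hj
  rw [show n * m * C.enc (lab i j) * (n * m)⁻¹ = n * (m * C.enc (lab i j) * m⁻¹) * n⁻¹ by group,
    hτ i j hi hj, hσ _ _ (pget_lt τ hi) (pget_lt τ hj), pget_mul σ τ hi, pget_mul σ τ hj]

theorem actsAs_of_mem {n : G} (hn : n ∈ A) : ActsAs C n 1 := by
  intro i j hi hj
  have hl := lab_lt hi hj
  rw [(Coords.comm C) hn (C.enc_mem _ hl), mul_inv_cancel_right,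
    show (1 : M24).1 = 1 from rfl, pget_pk _ hi, pget_pk _ hj, J4DCE.imgF_one hi, J4DCE.imgF_one hj]

/-- the points spanning the eleven coordinates -/
def spanPts : List (List ℕ) :=
  [[1, 3, 4, 7], [1, 3, 6, 8], [1, 4], [1, 6], [2, 3, 4, 6, 7, 10], [2, 5, 10, 11], [1, 4, 6, 9],
    [2, 3, 8, 10, 11], [1, 2, 3, 5, 6, 10], [2, 7, 9, 10, 11], [2, 3, 4, 6, 7, 11]]

theorem span_table : ((List.range 11).all fun k =>
    ((spanPts.getD k []).all fun i => Nat.blt i 24) &&
      Nat.beq ((spanPts.getD k []).foldr (fun i v => Nat.xor (lab 0 i) v) 0) (2 ^ k)) = true := by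
  decide +kernel

/-- An element acting trivially on the pairs lies in the subgroup. -/
theorem mem_of_actsAs_one {n : G} (h : ActsAs C n 1) : n ∈ A := by
  have hlab : ∀ i, i < 24 → n * C.enc (lab 0 i) = C.enc (lab 0 i) * n := by
    intro i hi
    have e := h 0 i (by norm_num) hi
    rw [show (1 : M24).1 = 1 from rfl, pget_pk _ hi, pget_pk _ (show (0 : ℕ) < 24 by norm_num),
      J4DCE.imgF_one hi, J4DCE.imgF_one (show (0 : ℕ) < 24 by norm_num)] at e
    exact mul_inv_eq_iff_eq_mul.1 e
  have hlist : ∀ L : List ℕ, (∀ i ∈ L, i < 24) → L.foldr (fun i v => Nat.xor (lab 0 i) v) 0 < 2048 ∧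
      n * C.enc (L.foldr (fun i v => Nat.xor (lab 0 i) v) 0) =
        C.enc (L.foldr (fun i v => Nat.xor (lab 0 i) v) 0) * n := by
    intro L hL
    induction L with
    | nil => simp only [List.foldr_nil]; refine ⟨by norm_num, ?_⟩; rw [(Coords.enc_zero C), mul_one, one_mul]
    | cons a L ih =>
      obtain ⟨h1, h2⟩ := ih fun i hi => hL i (List.mem_cons_of_mem _ hi)
      have ha := lab_lt (show (0 : ℕ) < 24 by norm_num) (hL a List.mem_cons_self)
      simp only [List.foldr_cons]
      refine ⟨Nat.xor_lt_two_pow (n := 11) ha h1, ?_⟩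
      rw [C.enc_xor _ _ ha h1, ← mul_assoc, hlab a (hL a List.mem_cons_self), mul_assoc, h2, ← mul_assoc]
  have hpow : ∀ k, k < 11 → n * C.enc (2 ^ k) = C.enc (2 ^ k) * n := by
    intro k hk
    have ht := List.all_eq_true.1 span_table k (List.mem_range.2 hk)
    rw [Bool.and_eq_true, List.all_eq_true] at ht
    rw [← Nat.eq_of_beq_eq_true ht.2]
    exact (hlist _ fun i hi => Nat.blt_eq ▸ (ht.1 i hi)).2
  have hall : ∀ k, k ≤ 11 → ∀ v, v < 2 ^ k → n * C.enc v = C.enc v * n := by
    intro k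
    induction k with
    | zero =>
      intro _ v hv
      obtain rfl : v = 0 := by simpa using hv
      rw [(Coords.enc_zero C), mul_one, one_mul]
    | succ k ih =>
      intro hk v hv
      by_cases hlt : v < 2 ^ k
      · exact ih (by omega) v hlt
      have hle : 2 ^ (k + 1) ≤ 2 ^ 11 := Nat.pow_le_pow_right (by norm_num) hk
      rw [pow_succ] at hv hle
      have hw : v - 2 ^ k < 2 ^ k := by omega
      have e : v = Nat.xor (2 ^ k) (v - 2 ^ k) := by
        have h1 := Nat.two_pow_add_eq_or_of_lt hw 1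
        rw [mul_one] at h1
        have h2 : 2 ^ k ^^^ (v - 2 ^ k) = 2 ^ k ||| (v - 2 ^ k) := by
          refine Nat.eq_of_testBit_eq fun i => ?_
          rw [Nat.testBit_xor, Nat.testBit_or, Nat.testBit_two_pow]
          by_cases hik : k = i
          · subst hik
            rw [Nat.testBit_lt_two_pow hw]
            simp
          · simp [hik]
        rw [Elem.nxor', h2, ← h1]
        omega
      rw [e, C.enc_xor _ _ (by omega) (by omega), ← mul_assoc, hpow k (by omega), mul_assoc,
        ih (by omega) _ hw, ← mul_assoc]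
  refine C.self_cent (Subgroup.mem_centralizer_iff.2 fun a ha => ?_)
  obtain ⟨v, hv, rfl⟩ := C.enc_surj a ha
  exact (hall 11 le_rfl v hv).symm

/-- The action of the normaliser on the pairs: onto the group of the code, with kernel the subgroup. -/
theorem exists_psi [Finite G] : ∃ ψ : ↥(Subgroup.normalizer (A : Set G)) →* M24, Function.Surjective ψ ∧
    ψ.ker = A.subgroupOf (Subgroup.normalizer (A : Set G)) ∧
    ∀ n : ↥(Subgroup.normalizer (A : Set G)), ActsAs C (n : G) (ψ n) := by
  classical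
  choose s hs using fun n : ↥(Subgroup.normalizer (A : Set G)) => exists_actsAs C n.2
  let ψ : ↥(Subgroup.normalizer (A : Set G)) →* M24 :=
    MonoidHom.mk' s fun n m => actsAs_unique C (hs (n * m)) (actsAs_mul C (hs n) (hs m))
  have hker : ψ.ker = A.subgroupOf (Subgroup.normalizer (A : Set G)) := by
    ext n
    rw [MonoidHom.mem_ker, Subgroup.mem_subgroupOf]
    constructor
    · intro e
      exact mem_of_actsAs_one C (e ▸ hs n : ActsAs C (n : G) 1)
    · intro e
      exact actsAs_unique C (hs n) (actsAs_of_mem C e)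
  refine ⟨ψ, MonoidHom.range_eq_top.1 (Subgroup.eq_top_of_card_eq _ ?_), hker, hs⟩
  have h := C.card_norm
  rw [Subgroup.card_eq_card_quotient_mul_card_subgroup ψ.ker,
    Nat.card_congr (QuotientGroup.quotientKerEquivRange ψ).toEquiv, hker,
    Nat.card_congr (Subgroup.subgroupOfEquivOfLe Subgroup.le_normalizer).toEquiv, (Coords.card_A C)] at h
  rw [Golay.natCard_M24]
  omega

/-- Conjugation given by columns together with a table check. -/
theorem actsAs_of_cols {n : G} {cols : List ℕ} {π : ℕ}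
    (hn : ∀ v, v < 2048 → n * C.enc v * n⁻¹ = C.enc (app cols v))
    (ht : ((List.range 24).all fun i => (List.range 24).all fun j =>
      Nat.beq (app cols (lab i j)) (lab (pget π i) (pget π j))) = true)
    {σ : M24} (hσ : pk σ.1 = π) : ActsAs C n σ := by
  intro i j hi hj
  rw [hn _ (lab_lt hi hj), hσ, Nat.eq_of_beq_eq_true
    (List.all_eq_true.1 (List.all_eq_true.1 ht i (List.mem_range.2 hi)) j (List.mem_range.2 hj))]

/-- the inverse of `piA` -/
def piAi : ℕ := 0x3b6548d66a78ac35c120b98a463828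
/-- the inverse of `piC` -/
def piCi : ℕ := 0x72a914d642034b063e66222e70ac76
/-- the inverse of `piP` -/
def piPi : ℕ := 0x63ab49ca362c0407b52719161428d7

theorem exists_piA : ∃ σ : M24, pk σ.1 = piA := by
  obtain ⟨σ, h, -⟩ := exists_of_okPerm (p := piA) (q := piAi) (by decide +kernel)
  exact ⟨σ, h⟩

theorem exists_piC : ∃ σ : M24, pk σ.1 = piC := by
  obtain ⟨σ, h, -⟩ := exists_of_okPerm (p := piC) (q := piCi) (by decide +kernel)
  exact ⟨σ, h⟩

theorem exists_piP : ∃ σ : M24, pk σ.1 = piP := by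
  obtain ⟨σ, h, -⟩ := exists_of_okPerm (p := piP) (q := piPi) (by decide +kernel)
  exact ⟨σ, h⟩

theorem piA_table : ((List.range 24).all fun i => (List.range 24).all fun j =>
    Nat.beq (app colsVA (lab i j)) (lab (pget piA i) (pget piA j))) = true := by
  decide +kernel

theorem piC_table : ((List.range 24).all fun i => (List.range 24).all fun j =>
    Nat.beq (app colsVC (lab i j)) (lab (pget piC i) (pget piC j))) = true := by
  decide +kernel

theorem piP_table : ((List.range 24).all fun i => (List.range 24).all fun j =>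
    Nat.beq (app colsVP (lab i j)) (lab (pget piP i) (pget piP j))) = true := by
  decide +kernel

namespace Env

variable (E : Env z A)

theorem actsAs_a {σ : M24} (hσ : pk σ.1 = piA) : ActsAs E.toCoords E.a σ :=
  actsAs_of_cols E.toCoords E.conj_a piA_table hσ

theorem actsAs_c {σ : M24} (hσ : pk σ.1 = piC) : ActsAs E.toCoords E.c σ :=
  actsAs_of_cols E.toCoords E.conj_c piC_table hσ

theorem actsAs_p {σ : M24} (hσ : pk σ.1 = piP) : ActsAs E.toCoords E.p σ :=
  actsAs_of_cols E.toCoords E.conj_p piP_table hσ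

end Env

end CfsgLib.J4Type.Sym.Lbl

namespace CfsgLib.J4Type.Sym

open Cfsg

/-- The action of the normaliser of the subgroup of order `2^11` on the 24 points. -/
theorem exists_psi {G : Type*} [Group G] [Finite G] {z : G} {A : Subgroup G} (C : Coords z A) :
    ∃ ψ : ↥(Subgroup.normalizer (A : Set G)) →* M24, Function.Surjective ψ ∧
      ψ.ker = A.subgroupOf (Subgroup.normalizer (A : Set G)) ∧
      ∀ n : ↥(Subgroup.normalizer (A : Set G)), ActsAs C (n : G) (ψ n) :=
  Lbl.exists_psi C

end CfsgLib.J4Type.Sym
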