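import Cfsg.Agent.Lib.J4Type.Sym.Interface
import Cfsg.Agent.Lib.J4DCE.Emb

/-!
The setting of the symmetric presentation from the commutation of the involution with the two generators
of the stabiliser of the trio.
-/
set_option autoImplicit false
set_option maxRecDepth 20000

namespace CfsgLib.J4Type.Sym

open Cfsg
open CfsgLib.J4DCE

attribute [local irreducible] enc pmask tImg

universe u

/-- The two generators of the stabiliser give the setting at the base trio. -/
theorem setting_of_gens {G : Type u} [Group G] {emb : M24 →* G} {t : G} (ht : t * t = 1)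
    (hX : emb mX * t = t * emb mX) (hC : emb J.pc * t = t * emb J.pc) :
    Setting emb t Orb.T0 := by
  have hgens : Orb.chainC.GensIn (centQ emb t Orb.T0) := by
    intro n hn
    have hx : mX ∈ centQ emb t Orb.T0 := mem_centQ (Nat.eq_of_beq_eq_true (by decide +kernel)) hX
    have hc : J.pc ∈ centQ emb t Orb.T0 := mem_centQ (Nat.eq_of_beq_eq_true (by decide +kernel)) hC
    obtain rfl | rfl | rfl | rfl : n = 0 ∨ n = 1 ∨ n = 2 ∨ n = 3 := by
      have hn' : n < 4 := hn
      omega
    · exact ⟨mX, hx, Nat.eq_of_beq_eq_true (by decide +kernel), Nat.eq_of_beq_eq_true (by decide +kernel)⟩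
    · exact ⟨mX⁻¹, Subgroup.inv_mem _ hx, Nat.eq_of_beq_eq_true (by decide +kernel),
        Nat.eq_of_beq_eq_true (by decide +kernel)⟩
    · exact ⟨J.pc, hc, Nat.eq_of_beq_eq_true (by decide +kernel), Nat.eq_of_beq_eq_true (by decide +kernel)⟩
    · exact ⟨J.pc⁻¹, Subgroup.inv_mem _ hc, Nat.eq_of_beq_eq_true (by decide +kernel),
        Nat.eq_of_beq_eq_true (by decide +kernel)⟩
  exact OrbTab.setting Orb.orb_ok ht J.one_fix
    (carries_of_stepOK Orb.chainC_valid hgens Orb.reps_ok J.pk_permX Orb.stepX)
    (carries_of_stepOK Orb.chainC_valid hgens Orb.reps_ok J.pk_permY Orb.stepY)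

theorem T0_eq : T0 = Orb.T0 := Nat.eq_of_beq_eq_true (by decide +kernel)

/-- The same with the trio of the interface. -/
theorem setting_of_gens' {G : Type u} [Group G] {emb : M24 →* G} {t : G} (ht : t * t = 1)
    (hX : emb mX * t = t * emb mX) (hC : emb J.pc * t = t * emb J.pc) : Setting emb t T0 :=
  T0_eq ▸ setting_of_gens ht hX hC

end CfsgLib.J4Type.Sym
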