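import Cfsg.Agent.Lib.J4Type.Sym.MakeSwap
import Cfsg.Agent.Lib.J4Type.Sym.Setting
import Cfsg.Agent.Lib.J4Type.Sym.Label
import Cfsg.Agent.Lib.J4Type.Sym.Complement
import Cfsg.Agent.Lib.J4Type.Sym.ExistsEnv

/-!
The local rules in a group of Janko-four type: `t = g (enc 768) g⁻¹`, the trios at the sextet `S0` give vectors
of `g A g⁻¹`, and `cpCode` is a conjugate of `p` with the matching conjugate of `z` equal to `t`.
-/
set_option autoImplicit false
set_option maxRecDepth 20000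
set_option linter.unusedSectionVars false

namespace CfsgLib.J4Type.Sym

open Cfsg
open CfsgLib.J4DCE (mX mY pk pget pmul pid tImg tau Setting pmask pmaskN testBit_pmaskN okPerm exists_of_okPerm
  pmul_coe pid_coe pget_pk imgF_lt)

attribute [local irreducible] pk pmul pid colsOf pmask tImg

/-- four points of the tetrad `0x252` -/
theorem z_points_check : Nat.beq (Nat.xor (lab 1 4) (lab 6 9)) 64 = true ∧
    S0.head? = some 0x252 := by decide +kernel

universe u

variable {G : Type u} [Group G] {z : G} {A : Subgroup G} {E : Env z A} {emb : M24 →* G} (H : EmbOK E emb)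

namespace EmbOK

include H

theorem stab_z {σ : M24} (hσ : MapsSx σ S0 S0) : emb σ * z = z * emb σ := by
  have hm : pmask (pk σ.1) 0x252 ∈ S0 := hσ _ (by simp [S0])
  set m := pmask (pk σ.1) 0x252 with hmdef
  have hin : ∀ i, i < 24 → (0x252 : ℕ).testBit i = true → m.testBit (pget (pk σ.1) i) = true := by
    intro i hi hb
    rw [hmdef, pmask]
    exact (testBit_pmaskN (pk σ.1) 0x252 (pget (pk σ.1) i) 24).2 ⟨i, hi, hb, rfl⟩
  have hinj : ∀ i j, i < 24 → j < 24 → pget (pk σ.1) i = pget (pk σ.1) j → i = j := fun i j hi hj e => by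
    have := congrArg (pget (pk (σ⁻¹ : M24).1)) e
    rwa [← pgetMul _ _ hi, ← pgetMul _ _ hj, inv_mul_cancel, pget_one hi, pget_one hj] at this
  have hc := List.all_eq_true.1 tetrad_check m hm
  simp only [List.all_eq_true, List.mem_range, Bool.or_eq_true, Nat.beq_eq, Bool.not_eq_true',
    Bool.and_eq_false_iff] at hc
  have h1 := hc _ (pgetLt σ (show 1 < 24 by norm_num)) _ (pgetLt σ (show 4 < 24 by norm_num))
  rcases h1 with (h1 | h1) | h1
  · rw [hin 1 (by norm_num) (by decide), hin 4 (by norm_num) (by decide)] at h1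
    simp at h1
  · exact absurd (hinj 1 4 (by norm_num) (by norm_num) h1) (by norm_num)
  have h2 := h1 _ (pgetLt σ (show 6 < 24 by norm_num)) _ (pgetLt σ (show 9 < 24 by norm_num))
  simp only [hin 6 (by norm_num) (by decide), hin 9 (by norm_num) (by decide), Bool.true_eq_false,
    or_self, false_or] at h2
  have ne : ∀ {i j : ℕ}, i < 24 → j < 24 → i ≠ j → pget (pk σ.1) i ≠ pget (pk σ.1) j :=
    fun hi hj hne e => hne (hinj _ _ hi hj e)
  have h3 : Nat.xor (lab (pget (pk σ.1) 1) (pget (pk σ.1) 4)) (lab (pget (pk σ.1) 6) (pget (pk σ.1) 9)) = 64 := by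
    simpa [ne (show 6 < 24 by norm_num) (show 9 < 24 by norm_num) (by norm_num),
      ne (show 6 < 24 by norm_num) (show 1 < 24 by norm_num) (by norm_num),
      ne (show 6 < 24 by norm_num) (show 4 < 24 by norm_num) (by norm_num),
      ne (show 9 < 24 by norm_num) (show 1 < 24 by norm_num) (by norm_num),
      ne (show 9 < 24 by norm_num) (show 4 < 24 by norm_num) (by norm_num)] using h2
  have e := E.enc_xor (lab 1 4) (lab 6 9) (labLt _ _) (labLt _ _)
  rw [Nat.eq_of_beq_eq_true z_points_check.1, E.enc_z] at e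
  have key : emb σ * z * (emb σ)⁻¹ = z := by
    conv_lhs => rw [e]
    calc emb σ * (E.enc (lab 1 4) * E.enc (lab 6 9)) * (emb σ)⁻¹
        = (emb σ * E.enc (lab 1 4) * (emb σ)⁻¹) * (emb σ * E.enc (lab 6 9) * (emb σ)⁻¹) := by group
      _ = z := by
        rw [H.acts σ 1 4 (by norm_num) (by norm_num), H.acts σ 6 9 (by norm_num) (by norm_num),
          ← E.enc_xor _ _ (labLt _ _) (labLt _ _), h3, E.enc_z]
  exact mul_inv_eq_iff_eq_mul.1 key

/-- The element conjugating `p` to `cpCode` and `z` to `t`. -/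
theorem exists_h {σc : M24} (hσc : pk σc.1 = cpCode) :
    ∃ h : G, emb σc = h * E.p * h⁻¹ ∧ E.tv vT = h * z * h⁻¹ := by
  obtain ⟨hev, hρP, hρ, -, hcube, -⟩ := cp_check
  have hσc' : σc = evP cpWord := pk_coe_injective (by
    rw [hσc, pk_evP]; exact (Nat.eq_of_beq_eq_true hev).symm)
  set φ := evP' cpWord with hφ
  obtain ⟨ρ, hρpk, -⟩ := exists_of_okPerm exists_rho
  set n := E.g⁻¹ * emb σc * E.g with hndef
  set q := emb φ with hq
  have hn : ActsAs E.toCoords n φ := by rw [hndef, hσc']; exact rel_word H cpWord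
  have hφρ : ρ * pP = φ * ρ := eq_of_pk_mul (by rw [hρpk, pk_pP, hφ, pk_evP']; exact hρP)
  have hqρ : q = emb ρ * E.p * (emb ρ)⁻¹ := by
    rw [hq, ← H.hP pP pk_pP, ← map_mul, hφρ, map_mul, mul_inv_cancel_right]
  have hq3 : q * (q * q) = 1 := by
    rw [hqρ, show emb ρ * E.p * (emb ρ)⁻¹ * (emb ρ * E.p * (emb ρ)⁻¹ * (emb ρ * E.p * (emb ρ)⁻¹)) =
      emb ρ * (E.p ^ 3) * (emb ρ)⁻¹ by rw [pow_three]; group, E.p_cube, mul_one, mul_inv_cancel]
  have hn3 : n * (n * n) = 1 := by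
    have h3 : σc * (σc * σc) = 1 := pk_coe_injective (by
      rw [← pmul_coe, ← pmul_coe, hσc]
      exact (Nat.eq_of_beq_eq_true hcube).trans pid_coe)
    rw [hndef, show E.g⁻¹ * emb σc * E.g * (E.g⁻¹ * emb σc * E.g * (E.g⁻¹ * emb σc * E.g)) =
      E.g⁻¹ * (emb σc * (emb σc * emb σc)) * E.g by group, ← map_mul, ← map_mul, h3, map_one, mul_one,
      inv_mul_cancel]
  have hqN : q ∈ Subgroup.normalizer (A : Set G) := H.norm φ
  have ha : n * q⁻¹ ∈ A := by
    have h1 : q⁻¹ * n ∈ A := mem_of_actsAs hn (H.acts φ)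
    have h2 := (Subgroup.mem_normalizer_iff.1 hqN _).1 h1
    rwa [show q * (q⁻¹ * n) * q⁻¹ = n * q⁻¹ by group] at h2
  set a := n * q⁻¹ with hadef
  have haq : n = a * q := by rw [hadef, inv_mul_cancel_right]
  have ha2 : a * a = 1 := E.toCoords.mem_sq ha
  set v := q * a * q⁻¹ with hvdef
  have hvA : v ∈ A := (Subgroup.mem_normalizer_iff.1 hqN _).1 ha
  have hqq : q * q = q⁻¹ := eq_inv_of_mul_eq_one_right hq3
  have hvq : v * q * v⁻¹ = n := by
    have ev : v⁻¹ = v := inv_eq_of_mul_eq_one_right (E.toCoords.mem_sq hvA)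
    have hai : a⁻¹ = a := inv_eq_of_mul_eq_one_right ha2
    have h1 : q * a * q * a = a * q⁻¹ := by
      rw [haq] at hn3
      calc q * a * q * a = a⁻¹ * ((a * q) * ((a * q) * (a * q))) * q⁻¹ := by group
        _ = a * q⁻¹ := by rw [hn3, mul_one, hai]
    rw [ev, hvdef, show q * a * q⁻¹ * q * (q * a * q⁻¹) = (q * a * q * a) * q⁻¹ by group, h1, mul_assoc,
      ← mul_inv_rev, hqq, inv_inv, ← haq]
  have hρz : emb ρ * z * (emb ρ)⁻¹ = E.enc vT := by
    have e := (H.acts ρ).app_conj 64 (by norm_num)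
    rw [E.enc_z, hρpk, Nat.eq_of_beq_eq_true hρ] at e
    exact e
  refine ⟨E.g * (v * emb ρ), ?_, ?_⟩
  · rw [show E.g * (v * emb ρ) * E.p * (E.g * (v * emb ρ))⁻¹ =
      E.g * (v * (emb ρ * E.p * (emb ρ)⁻¹) * v⁻¹) * E.g⁻¹ by group, ← hqρ, hvq, hndef]
    group
  · rw [show E.g * (v * emb ρ) * z * (E.g * (v * emb ρ))⁻¹ =
      E.g * (v * (emb ρ * z * (emb ρ)⁻¹) * v⁻¹) * E.g⁻¹ by group, hρz,
      E.toCoords.mem_comm hvA (E.enc_mem vT (by norm_num [vT])), mul_inv_cancel_right, Env.tv]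

theorem comm_nu {σc : M24} (hσc : pk σc.1 = cpCode) {h : G} (hcp : emb σc = h * E.p * h⁻¹)
    (ht : E.tv vT = h * z * h⁻¹) {ν : M24} (hν : normCp (pk ν.1) = true) :
    emb ν * E.tv vT = E.tv vT * emb ν := by
  have hσ3 : σc * σc = σc⁻¹ := eq_inv_of_mul_eq_one_right (pk_coe_injective (by
    rw [← pmul_coe, ← pmul_coe, hσc]
    exact (Nat.eq_of_beq_eq_true cp_check.2.2.2.2.1).trans pid_coe))
  set x := h⁻¹ * emb ν * h with hx
  have hxn : x * E.p * x⁻¹ = E.p ∨ x * E.p * x⁻¹ = E.p⁻¹ := by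
    have e : x * E.p * x⁻¹ = h⁻¹ * (emb ν * emb σc * (emb ν)⁻¹) * h := by rw [hx, hcp]; group
    simp only [normCp, Bool.or_eq_true] at hν
    rcases hν with hν | hν
    · left
      have e2 : ν * σc = σc * ν := eq_of_pk_mul (by rw [hσc]; exact hν)
      rw [e, ← map_mul, e2, map_mul, mul_inv_cancel_right, hcp]; group
    · right
      have e2 : ν * σc = σc * σc * ν := eq_of_pk_mul (by
        rw [← pmul_coe σc σc, hσc]; exact hν)
      rw [e, ← map_mul, e2, map_mul, mul_inv_cancel_right, hσ3, map_inv, hcp]; group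
  have hz := E.p_norm x hxn
  rw [ht]
  calc emb ν * (h * z * h⁻¹) = h * (x * z) * h⁻¹ := by rw [hx]; group
    _ = h * (z * x) * h⁻¹ := by rw [hz]
    _ = h * z * h⁻¹ * emb ν := by rw [hx]; group

theorem exists_rules : ∃ (emb' : M24 →* G) (t : G), Nonempty (Rules emb' t) := by
  obtain ⟨σc, hσc⟩ : ∃ σ : M24, pk σ.1 = cpCode :=
    ⟨evP cpWord, (pk_evP cpWord).trans (Nat.eq_of_beq_eq_true cp_check.1)⟩
  obtain ⟨h, hcp, ht⟩ := exists_h H hσc
  set t := E.tv vT with htdef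
  have hv : vT < 2048 := by norm_num [vT]
  obtain ⟨T1, hT1, -⟩ := exists_of_okPerm trans1_check.2.1
  have hT1e : emb T1 = E.tv 1 := trans_exact H (by norm_num) trans1_check.1 trans1_check.2.2 T1 hT1
  obtain ⟨hn1, hn2, hn3, hn4⟩ := exists_nu
  obtain ⟨c1, c2, c3, c4⟩ := nu_check
  have hmid : emb T1 * t = t * emb T1 := by rw [hT1e, htdef, E.tv_comm (by norm_num) hv]
  have hprod : ∀ {a b : ℕ} {σ : M24} {x y : M24}, pk x.1 = a → pk y.1 = b → normCp a = true → normCp b = true →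
      pk σ.1 = pmul a (pmul tr1 b) → emb σ * t = t * emb σ := by
    intro a b σ x y hx hy ha hb hσ
    have e : σ = x * (T1 * y) := pk_coe_injective (by rw [hσ, ← pmul_coe, ← pmul_coe, hx, hy, hT1])
    have h1 : Commute (emb x) t := comm_nu H hσc hcp ht (hx ▸ ha)
    have h2 : Commute (emb y) t := comm_nu H hσc hcp ht (hy ▸ hb)
    rw [e, map_mul, map_mul]
    exact (h1.mul_left ((show Commute (emb T1) t from hmid).mul_left h2)).eq
  obtain ⟨N1, hN1, -⟩ := exists_of_okPerm hn1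
  obtain ⟨N2, hN2, -⟩ := exists_of_okPerm hn2
  obtain ⟨N3, hN3, -⟩ := exists_of_okPerm hn3
  obtain ⟨N4, hN4, -⟩ := exists_of_okPerm hn4
  have hX : emb mX * t = t * emb mX := hprod hN1 hN2 c1 c2 (Nat.eq_of_beq_eq_true pk_mX_eq)
  have hC : emb CfsgLib.J4DCE.J.pc * t = t * emb CfsgLib.J4DCE.J.pc :=
    hprod hN3 hN4 c3 c4 (Nat.eq_of_beq_eq_true pk_pc_eq)
  have hsq : t * t = 1 := E.tv_sq hv
  have hS : Setting emb t T0 := setting_of_gens' hsq hX hC
  have htri : ∀ e ∈ triWords, tau emb t T0 e.1 = E.tv e.2.2 := by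
    intro e he
    have hc := List.all_eq_true.1 tri_check e he
    rw [Bool.and_eq_true] at hc
    rw [CfsgLib.J4DCE.tau_eq hS (σ := evP e.2.1) (by rw [pk_evP]; exact Nat.eq_of_beq_eq_true hc.1), htdef,
      conj_tv H _ hv, Nat.eq_of_beq_eq_true hc.2]
  have eTa : tau emb t T0 Ta = E.tv 320 := htri (Ta, [0, 1], 320) (by simp [triWords])
  have eTa1 : tau emb t T0 Ta1 = E.tv 576 := htri (Ta1, [0, 1, 1, 1, 0], 576) (by simp [triWords])
  have eTa2 : tau emb t T0 Ta2 = E.tv 1600 := htri (Ta2, [1, 1], 1600) (by simp [triWords])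
  have eTa3 : tau emb t T0 Ta3 = E.tv 1856 := htri (Ta3, [1, 1, 0], 1856) (by simp [triWords])
  let hc : G →* G := (MulAut.conj h).toMonoidHom
  have hmem : ∀ e, e ∈ E.Q.map hc ↔ ∃ y ∈ E.Q, h * y * h⁻¹ = e := fun e => by
    simp [Subgroup.mem_map, hc]
  refine ⟨emb, t, ⟨{
    setting := hS
    emb_injective := emb_injective H
    t_ne := ?_
    s := z
    s_sq := E.toCoords.z_square
    s_stab := fun σ hσ => stab_z H hσ
    s_comm := fun σ => E.toCoords.mem_comm E.toCoords.z_mem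
      ((Subgroup.mem_normalizer_iff.1 (H.norm σ) _).1 E.toCoords.z_mem)
    t_s := ?_
    oct := ?_
    nbr := ?_
    act := ?_
    E := E.Q.map hc
    E_cent := ?_
    t_mem := ?_
    E_conj := ?_
    E_comm := ?_
    E_cube := ?_ }⟩⟩
  · rw [ht]
    exact fun e => E.toCoords.z_ne (conj_eq_one_iff.1 e)
  · exact (congrArg (fun w => t * w) E.tv_64.symm).trans
      ((E.tv_comm hv (by norm_num)).trans (congrArg (fun w => w * t) E.tv_64))
  · rw [eTa, eTa1, htdef, E.tv_mul hv (by norm_num), E.tv_mul (xor_lt_2048' hv (by norm_num)) (by norm_num),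
      show Nat.xor (Nat.xor vT 320) 576 = 0 by decide, E.tv_zero]
  · rw [eTa, eTa2, eTa3, E.tv_mul (by norm_num) (by norm_num), E.tv_mul (xor_lt_2048' (by norm_num) (by norm_num))
      (by norm_num), show Nat.xor (Nat.xor 320 1600) 1856 = 64 by decide, E.tv_64]
  · intro σ w hσ hw
    obtain ⟨a1, a2, a3⟩ := act_check
    have he := (H.acts σ).app_conj 64 (by norm_num)
    rw [E.enc_z, hσ, Nat.eq_of_beq_eq_true a1] at he
    rw [he, eTa]
    set y := E.g⁻¹ * E.enc 54 * E.g with hy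
    have hgi : E.g⁻¹ * z = z * E.g⁻¹ := ((show Commute E.g z from E.g_cent).inv_left).eq
    have hyQ : y ∈ E.Q := by
      have := E.Q_norm E.g⁻¹ hgi _ (E.low_mem 54 (by norm_num))
      rwa [inv_inv] at this
    have hgy : E.g * y * E.g⁻¹ = E.enc 54 := by rw [hy]; group
    have hcode : E.code y = app Classify.colsGInv 54 := by
      have h1 := (E.g_Q y hyQ).2
      rw [hgy, E.code_low 54 (by norm_num)] at h1
      rw [show (54 : ℕ) % 64 = 54 from rfl] at h1
      rw [h1, Classify.g_inv.2 _ (E.code_lt y hyQ)]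
    have hyy : y * y = 1 := by
      rw [hy, show E.g⁻¹ * E.enc 54 * E.g * (E.g⁻¹ * E.enc 54 * E.g) = E.g⁻¹ * (E.enc 54 * E.enc 54) * E.g by group,
        E.toCoords.enc_square (by norm_num), mul_one, inv_mul_cancel]
    have hval : E.tv 320 * E.enc 54 * E.tv 320 * E.enc 54 = E.tv 60 := by
      rw [← hgy, Env.tv, show E.g * E.enc 320 * E.g⁻¹ * (E.g * y * E.g⁻¹) * (E.g * E.enc 320 * E.g⁻¹) *
        (E.g * y * E.g⁻¹) = E.g * (E.enc 320 * (y * E.enc 320 * y⁻¹) * (y * y)) * E.g⁻¹ by group, hyy, mul_one,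
        E.conj_Q y hyQ _ (by norm_num), hcode, ← E.enc_xor _ _ (by norm_num) (by decide +kernel),
        Nat.eq_of_beq_eq_true a3, Env.tv]
    rw [hval, trans_exact H (by norm_num) trans60_check.1 trans60_check.2.2 w hw]
  · intro e he
    obtain ⟨y, hy, rfl⟩ := (hmem e).1 he
    rw [ht]
    calc h * y * h⁻¹ * (h * z * h⁻¹) = h * (y * z) * h⁻¹ := by group
      _ = h * (z * y) * h⁻¹ := by rw [E.Q_cent y hy]
      _ = h * z * h⁻¹ * (h * y * h⁻¹) := by group
  · refine (hmem t).2 ⟨z, ?_, ht.symm⟩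
    have := E.low_mem 64 (by norm_num)
    rwa [E.enc_z] at this
  · intro σ hσ e he
    obtain ⟨y, hy, rfl⟩ := (hmem e).1 he
    set x := h⁻¹ * emb σ * h with hxd
    have hxz : x * z = z * x := by
      have hc' := hS.stab σ hσ
      rw [ht] at hc'
      calc x * z = h⁻¹ * (emb σ * (h * z * h⁻¹)) * h := by rw [hxd]; group
        _ = h⁻¹ * (h * z * h⁻¹ * emb σ) * h := by rw [hc']
        _ = z * x := by rw [hxd]; group
    exact (hmem _).2 ⟨x * y * x⁻¹, E.Q_norm x hxz y hy, by rw [hxd]; group⟩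
  · intro e he f hf
    obtain ⟨a, ha, rfl⟩ := (hmem e).1 he
    obtain ⟨b, hb, rfl⟩ := (hmem f).1 hf
    rw [show (h * a * h⁻¹)⁻¹ * (h * b * h⁻¹)⁻¹ * (h * a * h⁻¹) * (h * b * h⁻¹) =
      h * (a⁻¹ * b⁻¹ * a * b) * h⁻¹ by group, ht]
    rcases E.Q_comm a ha b hb with e | e <;> rw [e]
    · left; group
    · exact Or.inr rfl
  · intro c hc x hx2 hxt hxsq
    have hcσ : c = σc := pk_coe_injective (hc.trans hσc.symm)
    subst hcσ
    rw [hcp] at hxsq ⊢
    set x' := h⁻¹ * x * h with hx'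
    have hx'2 : x'⁻¹ = x' := inv_eq_of_mul_eq_one_right (by
      rw [hx', show h⁻¹ * x * h * (h⁻¹ * x * h) = h⁻¹ * (x * x) * h by group, hx2, mul_one, inv_mul_cancel])
    have hx'z : x' * z = z * x' := by
      rw [ht] at hxt
      calc x' * z = h⁻¹ * (x * (h * z * h⁻¹)) * h := by rw [hx']; group
        _ = h⁻¹ * (h * z * h⁻¹ * x) * h := by rw [hxt]
        _ = z * x' := by rw [hx']; group
    have hconv : x * (h * E.p * h⁻¹ * x * (h * E.p * h⁻¹)⁻¹) = h * (x' * E.p * x'⁻¹ * E.p⁻¹) * h⁻¹ := by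
      rw [hx'2, hx']; group
    rw [hconv] at hxsq ⊢
    refine (hmem _).2 ⟨_, E.p_comm_Q x' hx'z ?_, rfl⟩
    rw [show ∀ w : G, h * w * h⁻¹ * (h * w * h⁻¹) = h * (w * w) * h⁻¹ from fun w => by group] at hxsq
    exact conj_eq_one_iff.1 hxsq

end EmbOK

/-- **The local rules hold in every finite simple group of Janko-four type.** -/
theorem exists_rules_of_type [Finite G] [IsSimpleGroup G] (hG : ¬ IsMulCommutative G)
    (hJ : Cfsg.IsOfJankoFourTypeAt z) : ∃ (emb : M24 →* G) (t : G), Nonempty (Rules emb t) := by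
  obtain ⟨A, ⟨E⟩, K, hK, hKA, hKs, -⟩ := exists_env hG hJ
  obtain ⟨ψ, hsur, hker, hact⟩ := exists_psi E.toCoords
  obtain ⟨emb, -, hN, hP, hA, hC⟩ := exists_emb E ψ hsur hker hact hK hKA hKs
  exact EmbOK.exists_rules (E := E) (emb := emb) ⟨fun σ => (hN σ).1, fun σ => (hN σ).2, hP, hA, hC⟩

end CfsgLib.J4Type.Sym
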