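import Cfsg.Agent.Lib.J4Type.Sym.Interface
import Cfsg.Agent.Lib.J4DCE.Emb

/-!
The local rules imply the two long relators of the presented fourth Janko group, so they give a
homomorphism of the presented group sending the generators to `emb mX`, `emb mY` and `t`.
-/
set_option autoImplicit false
set_option maxRecDepth 20000

namespace CfsgLib.J4Type.Sym

open Cfsg
open CfsgLib.J4DCE (mX mY pk pmask pmul tImg tau Setting okPerm exists_of_okPerm pmul_coe tImg_coe
  tau_eq conj_tau tau_sq InOrb pk_injective)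
open CfsgLib.J4DCE.J (pU pa pb pc)

attribute [local irreducible] CfsgLib.J4DCE.enc pmask tImg

/-- the permutation with a checked code -/
noncomputable def el (p q : ℕ) (h : okPerm p q = true) : M24 := (exists_of_okPerm h).choose

theorem pk_el {p q : ℕ} (h : okPerm p q = true) : pk (el p q h).1 = p :=
  (exists_of_okPerm h).choose_spec.1

theorem pk_el_inv {p q : ℕ} (h : okPerm p q = true) : pk ((el p q h)⁻¹ : M24).1 = q :=
  (exists_of_okPerm h).choose_spec.2

theorem eq_of_pk {x y : M24} (h : pk x.1 = pk y.1) : x = y := Subtype.ext (pk_injective h)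

namespace Rel

/-- takes `S0` to `S2`, `Ta` to `Tb` -/
noncomputable def sg : M24 :=
  el sigCode 0xa9c5274db482ef14b10133c85b2860 (by decide +kernel)
/-- commutes with `cp`, takes `S0` to `S2`, `Ta` to `Tb` -/
noncomputable def sc : M24 :=
  el 0x4ccd155243abe161110d01eeb638a1 0x2b1f2b468d7090324ee93542a82c07 (by decide +kernel)
/-- exchanges `Ta` and `Tb` -/
noncomputable def sw : M24 :=
  el 0x8940122ee849d42935f070ed333295 0x8940122ee849d42935f070ed333295 (by decide +kernel)
/-- fixes `Ta` and `S0`, moves `Tb` -/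
noncomputable def rho : M24 :=
  el 0x8c1ab3c80ea584c7a928184a69d497 0x384f1caf65c2aca2928990a13b4d1 (by decide +kernel)
/-- the element `cp` -/
noncomputable def cp : M24 :=
  el cpCode 0xb3d31ad24bb948e01a6a6a18710470 (by decide +kernel)
/-- places the rule `act` -/
noncomputable def g23 : M24 :=
  el 0x695520a0034bc5585d6e34c94b30f1 0x50d843500b722e24d5f209ec583671 (by decide +kernel)
/-- places the rule `act` -/
noncomputable def g34 : M24 :=
  el 0xbcd52850454a2a074561b0ccf230ed 0xb9db2b515322c024d5ee096033450c (by decide +kernel)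
/-- places the rule `act` -/
noncomputable def g24 : M24 :=
  el 0xb0d2a6bc2762dc489a82b96a804a70 0x3dca9089609366f752a4828ccb2223 (by decide +kernel)
/-- places the octad rule for the first relator -/
noncomputable def gU : M24 :=
  el 0x1cda9209ec01a875564b845170b8b6 0x2014db24c788ab042e8563833bc86f (by decide +kernel)
/-- places the octad rule on `Tb` -/
noncomputable def gB : M24 :=
  el 0x8948c00cd349e1550a966ae4f0dd0e 0x12189816ed200f432de1746d592873 (by decide +kernel)
/-- takes `T0` to `Ta` and fixes `S0` -/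
noncomputable def ha : M24 :=
  el 0x3863529909110136b1d47d9505de43 0x11a88606a43a56a19611bca6e03ecd (by decide +kernel)
/-- moves the second relator into position -/
noncomputable def kk : M24 :=
  el 0x62cf690a6d23c7170149814d50de88 0x150818cd8772e17b2500a94cf6c86a (by decide +kernel)
/-- the translation of `act` -/
noncomputable def wA : M24 :=
  el waCode 0x8d84f1caf0a39402b527419649d42c (by decide +kernel)

/-- a conjugate in the group of the code -/
noncomputable def w3 : M24 := rho * wA * rho⁻¹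
/-- a conjugate in the group of the code -/
noncomputable def w4 : M24 := rho * (rho * wA * rho⁻¹) * rho⁻¹
/-- a conjugate in the group of the code -/
noncomputable def w23 : M24 := g23 * wA * g23⁻¹
/-- a conjugate in the group of the code -/
noncomputable def w34 : M24 := g34 * wA * g34⁻¹
/-- a conjugate in the group of the code -/
noncomputable def w24 : M24 := g24 * wA * g24⁻¹
/-- a conjugate in the group of the code -/
noncomputable def wB : M24 := sw * wA * sw⁻¹
/-- the conjugate of `pa` -/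
noncomputable def pA : M24 := kk * pa * kk⁻¹
/-- the trio `rho Tb` -/
def t3 : ℕ := 0x8516146260431889a8
/-- the trio `rho t3` -/
def t4 : ℕ := 0xc120172656401889a8
/-- the trio collinear with `T0` and `Tb` -/
def Tb1 : ℕ := 0xe602061889a8017451

theorem pid_beq {x : M24} (h : pk x.1 = CfsgLib.J4DCE.pid) : x = 1 :=
  eq_of_pk (h.trans CfsgLib.J4DCE.pid_coe)

theorem wA_sq : wA * wA = 1 := by
  apply pid_beq; simp only [wA, ← pmul_coe, pk_el]; decide +kernel

theorem wA_inv : wA⁻¹ = wA := inv_eq_of_mul_eq_one_right wA_sq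

theorem cp_sc : cp * sc = sc * cp := by
  apply eq_of_pk; simp only [cp, sc, ← pmul_coe, pk_el]; decide +kernel

theorem w_prod : wA * w3 * w4 = 1 := by
  apply pid_beq; simp only [w3, w4, rho, wA, ← pmul_coe, pk_el, pk_el_inv]; decide +kernel

theorem wW_sq : (w23 * (w34 * w24)) * (w23 * (w34 * w24)) = 1 := by
  apply pid_beq
  simp only [w23, w34, w24, g23, g34, g24, wA, ← pmul_coe, pk_el, pk_el_inv]; decide +kernel

theorem pA_prod : pA * pA * (wA * wB) = 1 := by
  apply pid_beq
  simp only [pA, kk, wB, sw, wA, ← pmul_coe, pk_el, pk_el_inv]; decide +kernel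

end Rel

open Rel

universe u

variable {G : Type u} [Group G]

/-- conjugation by the image of a permutation -/
def cj (emb : M24 →* G) (σ : M24) (x : G) : G := emb σ * x * (emb σ)⁻¹

theorem cj_mul (emb : M24 →* G) (σ : M24) (x y : G) : cj emb σ (x * y) = cj emb σ x * cj emb σ y := by
  simp only [cj]; group

theorem cj_cj (emb : M24 →* G) (σ ρ : M24) (x : G) : cj emb σ (cj emb ρ x) = cj emb (σ * ρ) x := by
  simp only [cj, map_mul]; group

theorem cj_emb (emb : M24 →* G) (σ w : M24) : cj emb σ (emb w) = emb (σ * w * σ⁻¹) := by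
  simp only [cj, map_mul, map_inv]

theorem cj_one (emb : M24 →* G) (σ : M24) : cj emb σ (1 : G) = 1 := by simp [cj]

theorem comm_iff_cj (emb : M24 →* G) (σ : M24) (x : G) : cj emb σ x = x ↔ emb σ * x = x * emb σ :=
  mul_inv_eq_iff_eq_mul

theorem three {p q r : G} (hp : p * p = 1) (hq : q * q = 1) (hr : r * r = 1) (h : p * q * r = 1) :
    p * q = r ∧ q * p = r := by
  have e : p * q = r := by rw [eq_inv_of_mul_eq_one_left h, inv_eq_of_mul_eq_one_right hr]
  refine ⟨e, ?_⟩
  have := congrArg (fun x => x⁻¹) e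
  simpa [inv_eq_of_mul_eq_one_right hp, inv_eq_of_mul_eq_one_right hq,
    inv_eq_of_mul_eq_one_right hr] using this

namespace Rules

variable {emb : M24 →* G} {t : G} (hR : Rules emb t)

local notation "τ" => tau emb t T0

include hR

theorem cj_t {σ : M24} (h : tImg (pk σ.1) T0 = T0) : cj emb σ t = t :=
  (comm_iff_cj emb σ t).2 (hR.setting.stab σ h)

theorem tau_T0 : τ T0 = t := by
  rw [tau_eq hR.setting (σ := (1 : M24)) hR.setting.one, map_one]; group

theorem inOrb_T0 : InOrb T0 T0 := ⟨1, hR.setting.one⟩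

theorem cj_tau {T T' : ℕ} (h : InOrb T0 T) {σ : M24} (e : tImg (pk σ.1) T = T') :
    cj emb σ (τ T) = τ T' := by
  rw [cj, conj_tau hR.setting h, e]

theorem inOrb_Ta : InOrb T0 Ta :=
  ⟨ha, by simp only [ha, pk_el]; decide +kernel⟩

theorem inOrb_Ta1 : InOrb T0 Ta1 := by
  have e : tImg (pk (w23 * (w34 * w24) : M24).1) Ta = Ta1 := by
    simp only [w23, w34, w24, g23, g34, g24, wA, ← pmul_coe, pk_el, pk_el_inv]; decide +kernel
  exact e ▸ (inOrb_Ta hR).img _

theorem inOrb_Ta2 : InOrb T0 Ta2 := by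
  have e : tImg (pk cp.1) Ta = Ta2 := by simp only [cp, pk_el]; decide +kernel
  exact e ▸ (inOrb_Ta hR).img _

theorem inOrb_Tb : InOrb T0 Tb := by
  have e : tImg (pk sc.1) Ta = Tb := by simp only [sc, pk_el]; decide +kernel
  exact e ▸ (inOrb_Ta hR).img _

theorem inOrb_t3 : InOrb T0 t3 := by
  have e : tImg (pk rho.1) Tb = t3 := by simp only [rho, pk_el]; decide +kernel
  exact e ▸ (inOrb_Tb hR).img _

theorem a_comm_t : τ Ta * t = t * τ Ta ∧ τ Ta * τ Ta1 = t := by
  have h := three hR.setting.sq (tau_sq hR.setting Ta) (tau_sq hR.setting Ta1) hR.oct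
  refine ⟨h.2.trans h.1.symm, ?_⟩
  rw [← h.2, ← mul_assoc, tau_sq hR.setting, one_mul]

/-- the octad rule at another place -/
theorem line {g : M24} {A B C : ℕ} (h0 : tImg (pk g.1) T0 = A) (h1 : tImg (pk g.1) Ta = B)
    (h2 : tImg (pk g.1) Ta1 = C) : τ A * τ B * τ C = 1 := by
  rw [← hR.cj_tau hR.inOrb_T0 h0, ← hR.cj_tau hR.inOrb_Ta h1, ← hR.cj_tau hR.inOrb_Ta1 h2,
    hR.tau_T0, ← cj_mul, ← cj_mul, hR.oct, cj_one]

theorem a_comm_s : τ Ta * hR.s = hR.s * τ Ta := by
  have h := hR.s_stab ha (by simp only [MapsSx, ha, pk_el]; decide +kernel)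
  have e : cj emb ha t = τ Ta :=
    (tau_eq hR.setting (by simp only [ha, pk_el]; decide +kernel)).symm
  have hs : cj emb ha hR.s = hR.s := (comm_iff_cj emb ha hR.s).2 h
  rw [← e]
  conv_lhs => rw [← hs]
  conv_rhs => rw [← hs]
  rw [← cj_mul, ← cj_mul, hR.t_s]

/-- the vector of the image of `S0` -/
noncomputable def sk (ρ : M24) : G := cj emb ρ hR.s

theorem sk_eq {ρ ρ' : M24} (h : MapsSx (ρ'⁻¹ * ρ) S0 S0) : hR.sk ρ = hR.sk ρ' := by
  have hc := (comm_iff_cj emb _ _).2 (hR.s_stab _ h)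
  rw [sk, sk, ← congrArg (cj emb ρ') hc, cj_cj, mul_inv_cancel_left]

theorem sk_comm {ρ w : M24} (h : MapsSx (ρ⁻¹ * w * ρ) S0 S0) :
    emb w * hR.sk ρ = hR.sk ρ * emb w := by
  rw [← comm_iff_cj, sk, cj_cj]
  exact hR.sk_eq (by rwa [← mul_assoc])

theorem act' {g : M24} {T : ℕ} {ρ : M24} (hT : tImg (pk g.1) Ta = T)
    (hρ : MapsSx (ρ⁻¹ * (g * sg)) S0 S0) :
    τ T * hR.sk ρ * τ T * hR.sk ρ = emb (g * wA * g⁻¹) := by
  rw [← hR.cj_tau hR.inOrb_Ta hT, ← hR.sk_eq hρ, sk, ← cj_cj, ← cj_mul, ← cj_mul, ← cj_mul,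
    ← cj_emb]
  exact congrArg (cj emb g) (hR.act sg wA (pk_el _) (pk_el _))

/-- The key identity: the conjugates at two sextets of one trio. -/
theorem commutator_ab : τ Ta * τ Tb * τ Ta * τ Tb = emb wA * emb wB * t := by
  obtain ⟨hat, haa1⟩ := hR.a_comm_t
  have has := hR.a_comm_s
  have haa := tau_sq hR.setting (emb := emb) (t := t) (T0 := T0) Ta
  have hss := hR.s_sq
  have htt := hR.setting.sq
  have hts := hR.t_s
  have hcp0 : cj emb cp t = t := hR.cj_t (by simp only [cp, pk_el]; decide +kernel)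
  have hrho0 : cj emb rho t = t := hR.cj_t (by simp only [rho, pk_el]; decide +kernel)
  have hsc0 : cj emb sc t = t := hR.cj_t (by simp only [sc, pk_el]; decide +kernel)
  -- `e1` lies in `E`
  have hcpa : cj emb cp (τ Ta) = τ Ta2 :=
    hR.cj_tau hR.inOrb_Ta (by simp only [cp, pk_el]; decide +kernel)
  have hcpa2 : cj emb cp (τ Ta2) = τ Ta3 :=
    hR.cj_tau hR.inOrb_Ta2 (by simp only [cp, pk_el]; decide +kernel)
  have he : τ Ta2 * τ Ta3 = τ Ta * hR.s := by
    rw [← hR.nbr, ← mul_assoc, ← mul_assoc, haa, one_mul]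
  have he1sq : τ Ta * hR.s * (τ Ta * hR.s) = 1 := by
    calc τ Ta * hR.s * (τ Ta * hR.s) = τ Ta * hR.s * (hR.s * τ Ta) := by rw [has]
      _ = τ Ta * (hR.s * hR.s) * τ Ta := by group
      _ = 1 := by rw [hss, mul_one, haa]
  have hat2 : τ Ta2 * t = t * τ Ta2 := by
    rw [← hcpa]
    have h := congrArg (cj emb cp) hat
    rwa [cj_mul, cj_mul, hcp0] at h
  have he1E : τ Ta * hR.s ∈ hR.E := by
    rw [← he, ← hcpa2]
    refine hR.E_cube cp (pk_el _) _ (tau_sq hR.setting _) hat2 ?_
    show τ Ta2 * cj emb cp (τ Ta2) * (τ Ta2 * cj emb cp (τ Ta2)) = 1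
    rw [hcpa2, he, he1sq]
  -- the second sextet
  have hscs : cj emb sc hR.s = hR.sk sg :=
    hR.sk_eq (ρ := sc) (by simp only [MapsSx, sc, sg, ← pmul_coe, pk_el, pk_el_inv]; decide +kernel)
  have hsca : cj emb sc (τ Ta) = τ Tb :=
    hR.cj_tau hR.inOrb_Ta (by simp only [sc, pk_el]; decide +kernel)
  have he2E : τ Tb * hR.sk sg ∈ hR.E := by
    have h1 : cj emb cp (cj emb sc (τ Ta2)) = cj emb sc (τ Ta3) := by
      rw [cj_cj, cp_sc, ← cj_cj, hcpa2]
    rw [← hsca, ← hscs, ← cj_mul, ← he, cj_mul, ← h1]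
    refine hR.E_cube cp (pk_el _) _ ?_ ?_ ?_
    · rw [← cj_mul, tau_sq hR.setting, cj_one]
    · calc cj emb sc (τ Ta2) * t = cj emb sc (τ Ta2) * cj emb sc t := by rw [hsc0]
        _ = cj emb sc (t * τ Ta2) := by rw [← cj_mul, hat2]
        _ = t * cj emb sc (τ Ta2) := by rw [cj_mul, hsc0]
    · show cj emb sc (τ Ta2) * cj emb cp (cj emb sc (τ Ta2)) *
        (cj emb sc (τ Ta2) * cj emb cp (cj emb sc (τ Ta2))) = 1
      rw [h1, ← cj_mul, ← cj_mul, he, he1sq, cj_one]
  have hbb := tau_sq hR.setting (emb := emb) (t := t) (T0 := T0) Tb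
  have hbs2 : τ Tb * hR.sk sg = hR.sk sg * τ Tb := by
    rw [← hsca, ← hscs, ← cj_mul, has, cj_mul]
  have hs22 : hR.sk sg * hR.sk sg = 1 := by rw [sk, ← cj_mul, hss, cj_one]
  -- the sextets at `S0` and the others
  have hsk : ∀ ρ : M24, hR.s * hR.sk ρ = hR.sk ρ * hR.s := fun ρ => hR.s_comm ρ
  -- moving along `rho`
  have hra : cj emb rho (τ Ta) = τ Ta :=
    hR.cj_tau hR.inOrb_Ta (by simp only [rho, pk_el]; decide +kernel)
  have hrs : cj emb rho hR.s = hR.s :=
    (comm_iff_cj _ _ _).2 (hR.s_stab rho (by simp only [MapsSx, rho, pk_el]; decide +kernel))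
  have hrb : cj emb rho (τ Tb) = τ t3 :=
    hR.cj_tau hR.inOrb_Tb (by simp only [rho, pk_el]; decide +kernel)
  have hrb3 : cj emb rho (τ t3) = τ t4 :=
    hR.cj_tau hR.inOrb_t3 (by simp only [rho, pk_el]; decide +kernel)
  have hr2 : cj emb rho (hR.sk sg) = hR.sk (rho * sg) := cj_cj _ _ _ _
  have hr3 : cj emb rho (hR.sk (rho * sg)) = hR.sk (rho * (rho * sg)) := cj_cj _ _ _ _
  -- `act` at the three sextets
  have hA2 : τ Ta * hR.sk sg * τ Ta * hR.sk sg = emb wA := hR.act sg wA (pk_el _) (pk_el _)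
  have hA3 : τ Ta * hR.sk (rho * sg) * τ Ta * hR.sk (rho * sg) = emb w3 := by
    have h := congrArg (cj emb rho) hA2
    simp only [cj_mul, hra, hr2, cj_emb] at h
    exact h
  have hA4 : τ Ta * hR.sk (rho * (rho * sg)) * τ Ta * hR.sk (rho * (rho * sg)) = emb w4 := by
    have h := congrArg (cj emb rho) hA3
    simp only [cj_mul, hra, hr3, cj_emb] at h
    exact h
  have hw3s2 : emb w3 * hR.sk sg = hR.sk sg * emb w3 :=
    hR.sk_comm (by simp only [MapsSx, w3, rho, wA, sg, ← pmul_coe, pk_el, pk_el_inv]; decide +kernel)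
  have hw4s2 : emb w4 * hR.sk sg = hR.sk sg * emb w4 :=
    hR.sk_comm (by simp only [MapsSx, w4, rho, wA, sg, ← pmul_coe, pk_el, pk_el_inv]; decide +kernel)
  have hw4s3 : emb w4 * hR.sk (rho * sg) = hR.sk (rho * sg) * emb w4 :=
    hR.sk_comm (by
      simp only [MapsSx, w4, rho, wA, sg, mul_inv_rev, ← pmul_coe, pk_el, pk_el_inv]; decide +kernel)
  have hD : τ Ta * (hR.sk sg * hR.sk (rho * sg) * hR.sk (rho * (rho * sg))) * τ Ta =
      hR.sk sg * hR.sk (rho * sg) * hR.sk (rho * (rho * sg)) := by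
    have key : ∀ s2 : G, ∀ w : G, s2 * s2 = 1 → τ Ta * s2 * τ Ta * s2 = w →
        τ Ta * s2 * τ Ta = w * s2 := fun s2 w h2 h => by
      rw [← h, mul_assoc _ s2 s2, h2, mul_one]
    have q2 : ∀ ρ, hR.sk ρ * hR.sk ρ = 1 := fun ρ => by rw [sk, ← cj_mul, hss, cj_one]
    have a2 := key _ _ (q2 _) hA2
    have a3 := key _ _ (q2 _) hA3
    have a4 := key _ _ (q2 _) hA4
    generalize hR.sk sg = S2 at *
    generalize hR.sk (rho * sg) = S3 at *
    generalize hR.sk (rho * (rho * sg)) = S4 at *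
    calc τ Ta * (S2 * S3 * S4) * τ Ta
        = τ Ta * S2 * (τ Ta * τ Ta) * S3 * (τ Ta * τ Ta) * S4 * τ Ta := by rw [haa]; group
      _ = (τ Ta * S2 * τ Ta) * (τ Ta * S3 * τ Ta) * (τ Ta * S4 * τ Ta) := by group
      _ = emb wA * (S2 * emb w3) * S3 * (emb w4 * S4) := by rw [a2, a3, a4]; group
      _ = emb wA * emb w3 * (S2 * (S3 * emb w4)) * S4 := by rw [← hw3s2]; group
      _ = emb wA * emb w3 * ((S2 * emb w4) * S3) * S4 := by rw [← hw4s3]; group
      _ = emb wA * emb w3 * emb w4 * (S2 * S3 * S4) := by rw [← hw4s2]; group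
      _ = _ := by rw [← map_mul, ← map_mul, w_prod, map_one, one_mul]
  -- the three products
  have hswap : ∀ {T : ℕ} {ρ g : M24}, τ T * hR.sk ρ * τ T * hR.sk ρ = emb (g * wA * g⁻¹) →
      hR.sk ρ * τ T = emb (g * wA * g⁻¹) * τ T * hR.sk ρ := fun {T ρ g} h => by
    have hinv := congrArg (fun x => x⁻¹) h
    have hq : hR.sk ρ * hR.sk ρ = 1 := by rw [sk, ← cj_mul, hss, cj_one]
    have ew : (emb (g * wA * g⁻¹))⁻¹ = emb (g * wA * g⁻¹) := by
      rw [← map_inv]; congr 1; rw [mul_inv_rev, mul_inv_rev, inv_inv, wA_inv, mul_assoc]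
    simp only [mul_inv_rev, inv_eq_of_mul_eq_one_right hq,
      inv_eq_of_mul_eq_one_right (tau_sq hR.setting T), ew] at hinv
    rw [← hinv]
    calc hR.sk ρ * τ T = hR.sk ρ * τ T * (hR.sk ρ * ((τ T * τ T) * hR.sk ρ)) := by
          rw [tau_sq hR.setting, one_mul, hq, mul_one]
      _ = hR.sk ρ * (τ T * (hR.sk ρ * τ T)) * τ T * hR.sk ρ := by group
  have h23 : hR.sk sg * τ t3 = emb w23 * τ t3 * hR.sk sg :=
    hswap (hR.act' (by simp only [g23, pk_el]; decide +kernel)
      (by simp only [MapsSx, g23, sg, ← pmul_coe, pk_el, pk_el_inv]; decide +kernel))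
  have h34 : hR.sk (rho * sg) * τ t4 = emb w34 * τ t4 * hR.sk (rho * sg) :=
    hswap (hR.act' (by simp only [g34, pk_el]; decide +kernel)
      (by simp only [MapsSx, g34, rho, sg, mul_inv_rev, ← pmul_coe, pk_el, pk_el_inv]; decide +kernel))
  have h24 : hR.sk sg * τ t4 = emb w24 * τ t4 * hR.sk sg :=
    hswap (hR.act' (by simp only [g24, pk_el]; decide +kernel)
      (by simp only [MapsSx, g24, sg, ← pmul_coe, pk_el, pk_el_inv]; decide +kernel))
  have hm23 : emb w23 * τ Tb = τ Tb * emb w23 := (comm_iff_cj _ _ _).1 (hR.cj_tau hR.inOrb_Tb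
    (by simp only [w23, g23, wA, ← pmul_coe, pk_el, pk_el_inv]; decide +kernel))
  have hm34 : emb w34 * hR.sk sg = hR.sk sg * emb w34 := hR.sk_comm
    (by simp only [MapsSx, w34, g34, wA, sg, ← pmul_coe, pk_el, pk_el_inv]; decide +kernel)
  have hmb : emb (w34 * w24) * τ Tb = τ Tb * emb (w34 * w24) :=
    (comm_iff_cj _ _ _).1 (hR.cj_tau hR.inOrb_Tb
      (by simp only [w34, w24, g34, g24, wA, ← pmul_coe, pk_el, pk_el_inv]; decide +kernel))
  have hm3 : emb (w34 * w24) * τ t3 = τ t3 * emb (w34 * w24) :=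
    (comm_iff_cj _ _ _).1 (hR.cj_tau hR.inOrb_t3
      (by simp only [w34, w24, g34, g24, wA, ← pmul_coe, pk_el, pk_el_inv]; decide +kernel))
  have hbl : τ Tb * τ t3 * τ t4 = 1 :=
    hR.line (g := gB) (by simp only [gB, pk_el]; decide +kernel)
      (by simp only [gB, pk_el]; decide +kernel) (by simp only [gB, pk_el]; decide +kernel)
  have hprod : (τ Tb * hR.sk sg) * (τ t3 * hR.sk (rho * sg)) * (τ t4 * hR.sk (rho * (rho * sg))) =
      emb (w23 * (w34 * w24)) * (hR.sk sg * hR.sk (rho * sg) * hR.sk (rho * (rho * sg))) := by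
    rw [map_mul emb w23]
    have hml : emb (w34 * w24) = emb w34 * emb w24 := map_mul _ _ _
    rw [hml] at hmb hm3 ⊢
    generalize hR.sk sg = S2 at *
    generalize hR.sk (rho * sg) = S3 at *
    generalize hR.sk (rho * (rho * sg)) = S4 at *
    generalize τ Tb = b at *
    generalize τ t3 = b3 at *
    generalize τ t4 = b4 at *
    generalize emb w23 = W1 at *
    generalize emb w34 = W2 at *
    generalize emb w24 = W3 at *
    calc b * S2 * (b3 * S3) * (b4 * S4) = b * (S2 * b3) * (S3 * b4) * S4 := by group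
      _ = (b * W1) * b3 * (S2 * W2) * b4 * S3 * S4 := by rw [h23, h34]; group
      _ = W1 * b * b3 * W2 * (S2 * b4) * S3 * S4 := by rw [← hm23, ← hm34]; group
      _ = W1 * b * (b3 * (W2 * W3)) * b4 * S2 * S3 * S4 := by rw [h24]; group
      _ = W1 * (b * (W2 * W3)) * b3 * b4 * S2 * S3 * S4 := by rw [← hm3]; group
      _ = W1 * (W2 * W3) * (b * b3 * b4) * S2 * S3 * S4 := by rw [← hmb]; group
      _ = W1 * (W2 * W3) * (S2 * S3 * S4) := by rw [hbl]; group
  -- the translation `W`
  have hWs : emb (w23 * (w34 * w24)) * hR.s = hR.s * emb (w23 * (w34 * w24)) :=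
    hR.s_stab _ (by
      simp only [MapsSx, w23, w34, w24, g23, g34, g24, wA, ← pmul_coe, pk_el, pk_el_inv]
      decide +kernel)
  have hWa : emb (w23 * (w34 * w24)) * τ Ta = τ Ta1 * emb (w23 * (w34 * w24)) := by
    have h : cj emb (w23 * (w34 * w24)) (τ Ta) = τ Ta1 := hR.cj_tau hR.inOrb_Ta (by
      simp only [w23, w34, w24, g23, g34, g24, wA, ← pmul_coe, pk_el, pk_el_inv]; decide +kernel)
    exact mul_inv_eq_iff_eq_mul.1 h
  have hWW : emb (w23 * (w34 * w24)) * emb (w23 * (w34 * w24)) = 1 := by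
    rw [← map_mul, wW_sq, map_one]
  have hne : τ Ta * hR.s * (τ Tb * hR.sk sg) ≠ τ Tb * hR.sk sg * (τ Ta * hR.s) := by
    intro hc
    have hc3 := congrArg (cj emb rho) hc
    simp only [cj_mul, hra, hrs, hrb, hr2] at hc3
    have hc4 := congrArg (cj emb rho) hc3
    simp only [cj_mul, hra, hrs, hrb3, hr3] at hc4
    apply hR.t_ne
    have hall : Commute (τ Ta * hR.s)
        (emb (w23 * (w34 * w24)) * (hR.sk sg * hR.sk (rho * sg) * hR.sk (rho * (rho * sg)))) := by
      rw [← hprod]
      exact ((show Commute _ _ from hc).mul_right hc3).mul_right hc4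
    have hsD : Commute hR.s (hR.sk sg * hR.sk (rho * sg) * hR.sk (rho * (rho * sg))) :=
      ((show Commute _ _ from hsk _).mul_right (hsk _)).mul_right (hsk _)
    have hD' := hD
    generalize hR.sk sg * hR.sk (rho * sg) * hR.sk (rho * (rho * sg)) = D at hD' hsD hall
    generalize emb (w23 * (w34 * w24)) = W at hWs hWa hWW hall
    generalize hs : hR.s = s at *
    generalize τ Ta = a at *
    generalize τ Ta1 = a1 at *
    have eW : a * s * W * (a * s) = t * W := by
      calc a * s * W * (a * s) = a * (s * W) * a * s := by group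
        _ = a * W * (s * a) * s := by rw [← hWs]; group
        _ = a * (W * a) * (s * s) := by rw [← has]; group
        _ = a * a1 * W := by rw [hWa, hss]; group
        _ = t * W := by rw [haa1]
    have eD : a * s * D * (a * s) = D := by
      calc a * s * D * (a * s) = a * (s * D) * a * s := by group
        _ = a * D * (s * a) * s := by rw [hsD.eq]; group
        _ = (a * D * a) * (s * s) := by rw [← has]; group
        _ = D := by rw [hD', hss, mul_one]
    have h1 : W * D = t * (W * D) := by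
      calc W * D = a * s * (W * D) * (a * s) := by
            rw [hall.eq, mul_assoc, he1sq, mul_one]
        _ = (a * s * W * (a * s)) * (a * s * D * (a * s)) := by
            rw [show a * s * W * (a * s) * (a * s * D * (a * s)) =
              a * s * W * ((a * s) * (a * s)) * D * (a * s) by group, he1sq]; group
        _ = t * (W * D) := by rw [eW, eD, mul_assoc]
    exact mul_eq_right.1 h1.symm
  -- so the commutator is `t`
  have he2sq : τ Tb * hR.sk sg * (τ Tb * hR.sk sg) = 1 := by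
    calc τ Tb * hR.sk sg * (τ Tb * hR.sk sg) = τ Tb * hR.sk sg * (hR.sk sg * τ Tb) := by rw [hbs2]
      _ = τ Tb * (hR.sk sg * hR.sk sg) * τ Tb := by group
      _ = 1 := by rw [hs22, mul_one, hbb]
  have hcomm : τ Ta * hR.s * (τ Tb * hR.sk sg) * (τ Ta * hR.s) * (τ Tb * hR.sk sg) = t := by
    have h := hR.E_comm _ he1E _ he2E
    rw [inv_eq_of_mul_eq_one_right he1sq, inv_eq_of_mul_eq_one_right he2sq] at h
    refine h.resolve_left fun h1 => hne ?_
    rw [mul_assoc (τ Ta * hR.s * (τ Tb * hR.sk sg))] at h1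
    have h2 := eq_inv_of_mul_eq_one_left h1
    rwa [mul_inv_rev, inv_eq_of_mul_eq_one_right he1sq, inv_eq_of_mul_eq_one_right he2sq] at h2
  -- `[b, s]`
  have hB : τ Tb * hR.s * τ Tb * hR.s = emb wB := by
    have hswa : cj emb sw (τ Ta) = τ Tb :=
      hR.cj_tau hR.inOrb_Ta (by simp only [sw, pk_el]; decide +kernel)
    have hsws : cj emb sw (hR.sk sg) = hR.s := by
      rw [sk, cj_cj]
      exact (comm_iff_cj _ _ _).2 (hR.s_stab _
        (by simp only [MapsSx, sw, sg, ← pmul_coe, pk_el]; decide +kernel))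
    have h := congrArg (cj emb sw) hA2
    simp only [cj_mul, hswa, hsws, cj_emb] at h
    exact h
  have hswB : hR.s * τ Tb = emb wB * τ Tb * hR.s := by
    have h := congrArg (fun x => x⁻¹) hB
    have ew : (emb wB)⁻¹ = emb wB := by
      rw [← map_inv]; congr 1; rw [wB, mul_inv_rev, mul_inv_rev, inv_inv, wA_inv, mul_assoc]
    simp only [mul_inv_rev, inv_eq_of_mul_eq_one_right hss, inv_eq_of_mul_eq_one_right hbb, ew] at h
    rw [← h]
    calc hR.s * τ Tb = hR.s * τ Tb * (hR.s * ((τ Tb * τ Tb) * hR.s)) := by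
          rw [hbb, one_mul, hss, mul_one]
      _ = hR.s * (τ Tb * (hR.s * τ Tb)) * τ Tb * hR.s := by group
  have hswA : hR.sk sg * τ Ta = emb wA * τ Ta * hR.sk sg := by
    have h := hswap (g := 1) (T := Ta) (ρ := sg) (by simpa using hA2)
    simpa using h
  have hfa : ∀ w : M24, tImg (pk w.1) Ta = Ta → emb w * τ Ta = τ Ta * emb w := fun w h =>
    (comm_iff_cj _ _ _).1 (hR.cj_tau hR.inOrb_Ta h)
  have hAa := hfa wA (by simp only [wA, pk_el]; decide +kernel)
  have hBa := hfa wB (by simp only [wB, sw, wA, ← pmul_coe, pk_el, pk_el_inv]; decide +kernel)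
  have hAb : emb wA * τ Tb = τ Tb * emb wA :=
    (comm_iff_cj _ _ _).1 (hR.cj_tau hR.inOrb_Tb (by simp only [wA, pk_el]; decide +kernel))
  have hAs : emb wA * hR.s = hR.s * emb wA :=
    hR.s_stab _ (by simp only [MapsSx, wA, pk_el]; decide +kernel)
  have hWAA : emb wA * emb wA = 1 := by rw [← map_mul, wA_sq, map_one]
  have hWBB : emb wB * emb wB = 1 := by
    rw [← map_mul, wB, show sw * wA * sw⁻¹ * (sw * wA * sw⁻¹) = sw * (wA * wA) * sw⁻¹ by group,
      wA_sq, mul_one, mul_inv_cancel, map_one]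
  have hs2s := hsk sg
  generalize hs : hR.s = s at *
  generalize hR.sk sg = S2 at *
  generalize τ Ta = a at *
  generalize τ Tb = b at *
  generalize emb wA = WA at *
  generalize emb wB = WB at *
  have hred : a * s * (b * S2) * (a * s) * (b * S2) = WB * WA * (a * b * a * b) := by
    calc a * s * (b * S2) * (a * s) * (b * S2) = a * (s * b) * (S2 * a) * s * b * S2 := by group
      _ = (a * WB) * b * (s * WA) * a * S2 * s * b * S2 := by rw [hswB, hswA]; group
      _ = WB * a * (b * WA) * s * a * S2 * s * b * S2 := by rw [← hBa, ← hAs]; group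
      _ = WB * (a * WA) * b * s * a * S2 * s * b * S2 := by rw [← hAb]; group
      _ = WB * WA * a * b * (s * a) * (S2 * s) * b * S2 := by rw [← hAa]; group
      _ = WB * WA * a * b * a * (s * s) * S2 * (b * S2) := by rw [← has, ← hs2s]; group
      _ = WB * WA * a * b * a * (S2 * S2) * b := by rw [hss, hbs2]; group
      _ = WB * WA * (a * b * a * b) := by rw [hs22]; group
  calc a * b * a * b = WA * (WB * WB) * WA * (a * b * a * b) := by rw [hWBB, mul_one, hWAA, one_mul]
    _ = WA * WB * (WB * WA * (a * b * a * b)) := by group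
    _ = WA * WB * t := by rw [← hred, hcomm]

theorem relator_y : (emb mY * ((emb pU)⁻¹ * t * emb pU)) ^ 3 = 1 := by
  have hU : InOrb T0 (tImg (pk (pU⁻¹ : M24).1) T0) := hR.inOrb_T0.img _
  have eu : (emb pU)⁻¹ * t * emb pU = τ (tImg (pk (pU⁻¹ : M24).1) T0) := by
    rw [tau_eq hR.setting rfl, map_inv, inv_inv]
  have h := hR.line (g := gU) (A := tImg (pk mY.1) (tImg (pk (pU⁻¹ : M24).1) T0))
    (B := tImg (pk (mY * mY : M24).1) (tImg (pk (pU⁻¹ : M24).1) T0))
    (C := tImg (pk (pU⁻¹ : M24).1) T0)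
    (by simp only [gU, pk_el]; decide +kernel) (by simp only [gU, pk_el]; decide +kernel)
    (by simp only [gU, pk_el]; decide +kernel)
  rw [← hR.cj_tau hU rfl, ← hR.cj_tau hU rfl] at h
  rw [eu]
  generalize τ (tImg (pk (pU⁻¹ : M24).1) T0) = T at h
  have hy3 : emb mY * emb mY * emb mY = 1 := by
    rw [← map_mul, ← map_mul, mul_assoc, CfsgLib.J4DCE.mY_cube, map_one]
  simp only [cj, map_mul] at h
  generalize emb mY = y at *
  have hy : (y * y)⁻¹ = y := inv_eq_of_mul_eq_one_right hy3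
  rw [hy] at h
  rw [pow_succ, pow_succ, pow_one]
  calc y * T * (y * T) * (y * T) = y * T * y⁻¹ * (y * y * T * y) * T := by group
    _ = 1 := h

theorem relator_pair : (emb pa * t * ((emb pb)⁻¹ * t * emb pb)) ^ 2 = 1 := by
  have hPb : InOrb T0 (tImg (pk (pb⁻¹ : M24).1) T0) := hR.inOrb_T0.img _
  have eu : (emb pb)⁻¹ * t * emb pb = τ (tImg (pk (pb⁻¹ : M24).1) T0) := by
    rw [tau_eq hR.setting rfl, map_inv, inv_inv]
  have hka : cj emb kk t = τ Ta := by
    conv_lhs => rw [← hR.tau_T0]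
    exact hR.cj_tau hR.inOrb_T0 (by simp only [kk, pk_el]; decide +kernel)
  have hkb : cj emb kk (τ (tImg (pk (pb⁻¹ : M24).1) T0)) = τ Tb :=
    hR.cj_tau hPb (by simp only [kk, pk_el]; decide +kernel)
  have hz : cj emb kk ((emb pa * t * ((emb pb)⁻¹ * t * emb pb)) ^ 2) = 1 := by
    rw [eu, pow_two, cj_mul, cj_mul, cj_mul, cj_emb, hka, hkb, ← pA]
    have hab := hR.commutator_ab
    obtain ⟨hat, haa1⟩ := hR.a_comm_t
    have hb1l := hR.line (g := sg) (A := T0) (B := Tb) (C := Tb1)
      (by simp only [sg, pk_el]; decide +kernel) (by simp only [sg, pk_el]; decide +kernel)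
      (by simp only [sg, pk_el]; decide +kernel)
    rw [hR.tau_T0] at hb1l
    obtain ⟨h1, h2⟩ := three hR.setting.sq (tau_sq hR.setting Tb) (tau_sq hR.setting Tb1) hb1l
    have hPa : τ Ta * emb pA = emb pA * τ Ta := by
      have h : cj emb pA⁻¹ (τ Ta) = τ Ta := hR.cj_tau hR.inOrb_Ta
        (by simp only [pA, kk, mul_inv_rev, inv_inv, ← pmul_coe, pk_el, pk_el_inv]; decide +kernel)
      rw [cj, map_inv, inv_inv, mul_assoc, inv_mul_eq_iff_eq_mul] at h
      exact h
    have hPb' : τ Tb * emb pA = emb pA * (τ Tb * t) := by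
      have h : cj emb pA⁻¹ (τ Tb) = τ Tb1 := hR.cj_tau hR.inOrb_Tb
        (by simp only [pA, kk, mul_inv_rev, inv_inv, ← pmul_coe, pk_el, pk_el_inv]; decide +kernel)
      rw [cj, map_inv, inv_inv, mul_assoc, inv_mul_eq_iff_eq_mul] at h
      rw [h, h2]
    have htb : t * τ Tb = τ Tb * t := h1.trans h2.symm
    have htt := hR.setting.sq
    have hp : emb pA * emb pA * (emb wA * emb wB) = 1 := by
      rw [← map_mul, ← map_mul, ← map_mul, pA_prod, map_one]
    generalize τ Ta = a at *
    generalize τ Tb = b at *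
    generalize emb pA = P at *
    generalize emb wA = WA at *
    generalize emb wB = WB at *
    calc P * a * b * (P * a * b) = P * a * (b * P) * a * b := by group
      _ = P * (a * P) * b * (t * a) * b := by rw [hPb']; group
      _ = P * P * a * b * a * (t * b) := by rw [hPa, ← hat]; group
      _ = P * P * (a * b * a * b) * t := by rw [htb]; group
      _ = P * P * (WA * WB) * (t * t) := by rw [hab]; group
      _ = 1 := by rw [hp, htt, one_mul]
  rw [cj] at hz
  simpa using hz

/-- The two long relators. -/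
theorem relators :
    (emb mY * ((emb pU)⁻¹ * t * emb pU)) ^ 3 = 1 ∧
    (emb pa * t * ((emb pb)⁻¹ * t * emb pb)) ^ 2 = 1 :=
  ⟨hR.relator_y, hR.relator_pair⟩

/-- The homomorphism from the presented group. -/
theorem exists_hom : ∃ φ : Cfsg.Spor.J4 →* G,
    φ CfsgLib.Presented.J4M24.jx = emb mX ∧ φ CfsgLib.Presented.J4M24.jy = emb mY ∧
      φ CfsgLib.J4DCE.J.jt = t := by
  let f : Cfsg.Spor.J4.Gen → G := fun g => match g with
    | .x => emb mX
    | .y => emb mY
    | .t => t
  have hx : tImg (pk mX.1) T0 = T0 := Nat.eq_of_beq_eq_true (by decide +kernel)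
  have hc : tImg (pk pc.1) T0 = T0 := Nat.eq_of_beq_eq_true (by decide +kernel)
  have comm : ∀ c : G, c * t = t * c → t⁻¹ * c⁻¹ * t * c = 1 := fun c h => by
    rw [mul_assoc, ← h]; group
  have hrel : ∀ r ∈ Cfsg.Spor.coxRelators Cfsg.Spor.J4.edges ∪ {r | r ∈ Cfsg.Spor.J4.extra},
      FreeGroup.lift f r = 1 := by
    intro r hr
    rcases hr with hr | hr
    · obtain ⟨x, hx', -⟩ := hr
      simp [Cfsg.Spor.coxNodes, Cfsg.Spor.J4.edges] at hx'
    · change r ∈ Cfsg.Spor.J4.extra at hr
      revert r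
      simp only [Cfsg.Spor.J4.extra, List.forall_mem_cons, map_mul, map_pow, map_inv,
        FreeGroup.lift_apply_of, f]
      refine ⟨?_, ?_, ?_, ?_, ?_, ?_, ?_, ?_, ?_, ?_, ?_, ?_, by simp⟩
      iterate 7
        · simp only [← map_inv, ← map_mul, ← map_pow]
          rw [show (1 : G) = emb 1 from (map_one emb).symm]
          exact congrArg emb (eq_of_pk (Nat.eq_of_beq_eq_true (by decide +kernel)))
      · rw [pow_two]; exact hR.setting.sq
      · simp only [← map_inv emb, ← map_mul emb, ← map_pow emb]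
        rw [map_inv emb]
        exact comm _ (hR.setting.stab pc hc)
      · exact comm _ (hR.setting.stab mX hx)
      · simpa only [pU, map_mul, map_pow, map_inv] using hR.relators.1
      · simpa only [pa, pb, map_mul, map_pow, map_inv] using hR.relators.2
  refine ⟨PresentedGroup.toGroup hrel, ?_, ?_, ?_⟩
  all_goals exact PresentedGroup.toGroup.of hrel

end Rules

end CfsgLib.J4Type.Sym
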