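import Cfsg.Agent.Lib.J4Type.Sym.Embed
import Cfsg.Agent.Lib.J4Type.Sym.MakeRules
import Cfsg.Agent.Lib.J4Type.Sym.Relators
import Cfsg.Agent.S1703

/-!
Every finite simple group of Janko-four type is the presented fourth Janko group.
-/

set_option autoImplicit false

universe u

namespace CfsgLib.J4Type.Sym

variable {G : Type u} [Group G] [Finite G] [IsSimpleGroup G]

/-- **Every finite simple group of Janko-four type at `z` is the presented fourth Janko group**, and
so has its order. -/
theorem iso_of_typeAt (hG : ¬ IsMulCommutative G) {z : G} (hJ : Cfsg.IsOfJankoFourTypeAt z) :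
    Cfsg.Spor.IsoJ4 G ∧ Nat.card G = 86775571046077562880 := by
  obtain ⟨emb, t, ⟨R⟩⟩ := exists_rules_of_type hG hJ
  obtain ⟨φ, -, -, hφt⟩ := R.exists_hom
  exact iso_of_hom hG Cfsg.Agent.S1703.result hJ φ ⟨_, fun h => R.t_ne (hφt ▸ h)⟩

/-- Uniqueness of the fourth Janko group. -/
theorem iso_of_type (hG : ¬ IsMulCommutative G) (hJ : Cfsg.IsOfJankoFourType G) : Cfsg.Spor.IsoJ4 G :=
  let ⟨_, h⟩ := hJ
  (iso_of_typeAt hG h).1

/-- The order of a finite simple group of Janko-four type. -/
theorem card_of_type (hG : ¬ IsMulCommutative G) (hJ : Cfsg.IsOfJankoFourType G) :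
    Nat.card G = 86775571046077562880 :=
  let ⟨_, h⟩ := hJ
  (iso_of_typeAt hG h).2

end CfsgLib.J4Type.Sym
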