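import Cfsg.Agent.Lib.J4DCE.Stab

/-!
The interface between a group of Janko-four type and the symmetric presentation of the fourth Janko group.

`emb` is a complement of the subgroup of order `2^11` read as the code group on 24 points, `t` the involution
attached to the trio `T0`, `s` the vector of the sextet `S0` refining `T0`.  The rules below are all local:
`oct`, `nbr`, `act` are identities in the centraliser of `s`, the last ones hold in the centraliser of `t`.
-/
set_option autoImplicit false

namespace CfsgLib.J4Type.Sym

open Cfsg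
open CfsgLib.J4DCE (mX mY pk pmask tImg tau Setting)

/-- the base trio (stabilised by the two generators of the centraliser of `t` in the presentation) -/
def T0 : ℕ := 0xa234054542521889a8
/-- a trio sharing an octad with `T0` -/
def Ta : ℕ := 0x8a118945425230ac24
/-- the third trio on the octad and the sextet shared by `T0` and `Ta` -/
def Ta1 : ℕ := 0x92982145425228258c
/-- the image of `Ta` under `cp` -/
def Ta2 : ℕ := 0xa234054d4188108a72
/-- the image of `Ta2` under `cp` -/
def Ta3 : ℕ := 0x8212536564041889a8
/-- a trio sharing another octad with `T0`, the shared sextet being `S2` -/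
def Tb : ℕ := 0xa340544436031889a8
/-- the sextet refining `T0` and `Ta` -/
def S0 : List ℕ := [0x252, 0x80188, 0x108820, 0x202404, 0x454000, 0x821001]
/-- the sextet refining `T0` and `Tb` -/
def S2 : List ℕ := [0x9a0, 0x3401, 0x14050, 0x188008, 0x440202, 0xa20004]
/-- the packed element of order three of `T0` permuting its octads -/
def cpCode : ℕ := 0x7de724c680b30e5822a6229cd08c4b
/-- a packed permutation taking `S0` to `S2` and `Ta` to `Tb` -/
def sigCode : ℕ := 0x68ef09518f34e2a70969b1c850d500
/-- the packed translation of `T0` given by the commutator of `tau Ta` and the vector of `S2` -/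
def waCode : ℕ := 0x8d84f1caf0a39402b527419649d42c

/-- the sextet with masks `S` is taken to the sextet with masks `S'` -/
def MapsSx (σ : M24) (S S' : List ℕ) : Prop := ∀ m ∈ S, pmask (pk σ.1) m ∈ S'

universe u

variable {G : Type u} [Group G]

/-- The local rules. -/
structure Rules (emb : M24 →* G) (t : G) where
  /-- `t` is an involution centralised by the stabiliser of the trio -/
  setting : Setting emb t T0
  emb_injective : Function.Injective emb
  t_ne : t ≠ 1
  /-- the vector of the sextet `S0` -/
  s : G
  s_sq : s * s = 1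
  s_stab : ∀ σ : M24, MapsSx σ S0 S0 → emb σ * s = s * emb σ
  s_comm : ∀ σ : M24, s * (emb σ * s * (emb σ)⁻¹) = emb σ * s * (emb σ)⁻¹ * s
  t_s : t * s = s * t
  /-- three collinear trios on an octad -/
  oct : t * tau emb t T0 Ta * tau emb t T0 Ta1 = 1
  /-- the three octads of `T0` at the sextet `S0` -/
  nbr : tau emb t T0 Ta * tau emb t T0 Ta2 * tau emb t T0 Ta3 = s
  /-- a trio involution against the vector of another sextet of `T0` -/
  act : ∀ σ w : M24, pk σ.1 = sigCode → pk w.1 = waCode →
    tau emb t T0 Ta * (emb σ * s * (emb σ)⁻¹) * tau emb t T0 Ta * (emb σ * s * (emb σ)⁻¹) = emb w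
  /-- the largest normal 2-subgroup of the centraliser of `t` -/
  E : Subgroup G
  E_cent : ∀ e ∈ E, e * t = t * e
  t_mem : t ∈ E
  E_conj : ∀ σ : M24, tImg (pk σ.1) T0 = T0 → ∀ e ∈ E, emb σ * e * (emb σ)⁻¹ ∈ E
  E_comm : ∀ e ∈ E, ∀ f ∈ E, e⁻¹ * f⁻¹ * e * f = 1 ∨ e⁻¹ * f⁻¹ * e * f = t
  E_cube : ∀ c : M24, pk c.1 = cpCode → ∀ x : G, x * x = 1 → x * t = t * x →
    x * (emb c * x * (emb c)⁻¹) * (x * (emb c * x * (emb c)⁻¹)) = 1 → x * (emb c * x * (emb c)⁻¹) ∈ E

end CfsgLib.J4Type.Sym
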