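import Cfsg.Agent.Lib.J4Type.Sym.Model
import Cfsg.Agent.Lib.J4Type.ElemApp
import Cfsg.Agent.Lib.Golay.M24

/-!
The codes of the 276 elements as pairs of the 24 points: an additive map of the codes preserving them is given
by a permutation of the points in the group of the code.
-/
set_option autoImplicit false
set_option maxRecDepth 20000
set_option maxHeartbeats 1000000

namespace CfsgLib.J4Type.Sym.Lbl

open Cfsg
open CfsgLib.J4DCE (pk pget imgF pget_pk okPerm exists_of_okPerm)
open CfsgLib.Golay (idx pt ptEquiv pt_idx idx_pt encS decS codeWord isCode)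
open scoped Pointwise


theorem lab_table : ((List.range 24).all fun i => Nat.beq (lab i i) 0 && (List.range 24).all fun j =>
    Nat.blt (lab i j) 2048 && Nat.beq (lab i j) (lab j i) && (Nat.beq i j || VCode.isNc 2 true (lab i j))) =
      true := by
  decide +kernel

theorem tri_table : ((List.range 24).all fun a => (List.range 24).all fun b => (List.range 24).all fun c =>
    Nat.beq (Nat.xor (lab a b) (lab a c)) (lab b c)) = true := by
  decide +kernel

theorem pair_table : ((List.range 24).all fun i => (List.range 24).all fun j => Nat.ble j i ||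
    (List.range 24).all fun k => (List.range 24).all fun l => Nat.ble l k ||
      ((!Nat.beq (lab i j) (lab k l) || (Nat.beq i k && Nat.beq j l)) &&
        (!VCode.isNc 2 true (Nat.xor (lab i j) (lab k l)) ||
          Nat.beq i k || Nat.beq i l || Nat.beq j k || Nat.beq j l))) = true := by
  decide +kernel

theorem surj_table : ((List.range 2048).all fun v => !VCode.isNc 2 true v ||
    (List.range 24).any fun i => (List.range 24).any fun j => !Nat.beq i j && Nat.beq (lab i j) v) = true := by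
  decide +kernel

theorem lab_self {i : ℕ} (hi : i < 24) : lab i i = 0 := by
  have h := List.all_eq_true.1 lab_table i (List.mem_range.2 hi)
  rw [Bool.and_eq_true] at h
  exact Nat.eq_of_beq_eq_true h.1

theorem lab_facts {i j : ℕ} (hi : i < 24) (hj : j < 24) :
    lab i j < 2048 ∧ lab i j = lab j i ∧ (i ≠ j → VCode.isNc 2 true (lab i j) = true) := by
  have h := List.all_eq_true.1 lab_table i (List.mem_range.2 hi)
  rw [Bool.and_eq_true] at h
  have h' := List.all_eq_true.1 h.2 j (List.mem_range.2 hj)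
  simp only [Bool.and_eq_true, Bool.or_eq_true, Nat.blt_eq] at h'
  exact ⟨h'.1.1, Nat.eq_of_beq_eq_true h'.1.2,
    fun hne => h'.2.resolve_left fun e => hne (Nat.eq_of_beq_eq_true e)⟩

theorem lab_lt {i j : ℕ} (hi : i < 24) (hj : j < 24) : lab i j < 2048 := (lab_facts hi hj).1
theorem lab_comm {i j : ℕ} (hi : i < 24) (hj : j < 24) : lab i j = lab j i := (lab_facts hi hj).2.1

theorem lab_tri {a b c : ℕ} (ha : a < 24) (hb : b < 24) (hc : c < 24) :
    Nat.xor (lab a b) (lab a c) = lab b c :=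
  Nat.eq_of_beq_eq_true (List.all_eq_true.1 (List.all_eq_true.1
    (List.all_eq_true.1 tri_table a (List.mem_range.2 ha)) b (List.mem_range.2 hb)) c (List.mem_range.2 hc))

theorem pair_sorted {i j k l : ℕ} (hi : i < 24) (hj : j < 24) (hk : k < 24) (hl : l < 24)
    (hij : i < j) (hkl : k < l) :
    (lab i j = lab k l → i = k ∧ j = l) ∧
    (VCode.isNc 2 true (Nat.xor (lab i j) (lab k l)) = true → i = k ∨ i = l ∨ j = k ∨ j = l) := by
  have h := List.all_eq_true.1 (List.all_eq_true.1 pair_table i (List.mem_range.2 hi)) j (List.mem_range.2 hj)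
  rw [Bool.or_eq_true] at h
  have h1 := h.resolve_left fun e => absurd (Nat.le_of_ble_eq_true e) (by omega)
  have h2 := List.all_eq_true.1 (List.all_eq_true.1 h1 k (List.mem_range.2 hk)) l (List.mem_range.2 hl)
  rw [Bool.or_eq_true] at h2
  have h3 := h2.resolve_left fun e => absurd (Nat.le_of_ble_eq_true e) (by omega)
  rw [Bool.and_eq_true] at h3
  refine ⟨fun e => ?_, fun e => ?_⟩
  · have h4 := h3.1
    have e' : Nat.beq (lab i j) (lab k l) = true := by rw [e]; exact Nat.beq_refl _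
    rw [e'] at h4
    simp only [Bool.not_true, Bool.false_or, Bool.and_eq_true] at h4
    exact ⟨Nat.eq_of_beq_eq_true h4.1, Nat.eq_of_beq_eq_true h4.2⟩
  · have h4 := h3.2
    simp only [e, Bool.not_true, Bool.false_or, Bool.or_eq_true] at h4
    rcases h4 with ((h4 | h4) | h4) | h4
    · exact Or.inl (Nat.eq_of_beq_eq_true h4)
    · exact Or.inr (Or.inl (Nat.eq_of_beq_eq_true h4))
    · exact Or.inr (Or.inr (Or.inl (Nat.eq_of_beq_eq_true h4)))
    · exact Or.inr (Or.inr (Or.inr (Nat.eq_of_beq_eq_true h4)))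

theorem lab_unique {i j k l : ℕ} (hi : i < 24) (hj : j < 24) (hk : k < 24) (hl : l < 24)
    (hij : i ≠ j) (hkl : k ≠ l) (e : lab i j = lab k l) : (i = k ∧ j = l) ∨ (i = l ∧ j = k) := by
  rcases lt_or_gt_of_ne hij with h1 | h1 <;> rcases lt_or_gt_of_ne hkl with h2 | h2
  · exact Or.inl ((pair_sorted hi hj hk hl h1 h2).1 e)
  · exact Or.inr ((pair_sorted hi hj hl hk h1 h2).1 (e.trans (lab_comm hk hl)))
  · exact Or.inr ((pair_sorted hj hi hk hl h1 h2).1 ((lab_comm hj hi).trans e)).symm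
  · exact Or.inl ((pair_sorted hj hi hl hk h1 h2).1
      (((lab_comm hj hi).trans e).trans (lab_comm hk hl))).symm

theorem lab_meet {i j k l : ℕ} (hi : i < 24) (hj : j < 24) (hk : k < 24) (hl : l < 24)
    (hij : i ≠ j) (hkl : k ≠ l) (e : VCode.isNc 2 true (Nat.xor (lab i j) (lab k l)) = true) :
    i = k ∨ i = l ∨ j = k ∨ j = l := by
  rcases lt_or_gt_of_ne hij with h1 | h1 <;> rcases lt_or_gt_of_ne hkl with h2 | h2
  · exact (pair_sorted hi hj hk hl h1 h2).2 e
  · rw [lab_comm hk hl] at e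
    have := (pair_sorted hi hj hl hk h1 h2).2 e
    tauto
  · rw [lab_comm hi hj] at e
    have := (pair_sorted hj hi hk hl h1 h2).2 e
    tauto
  · rw [lab_comm hi hj, lab_comm hk hl] at e
    have := (pair_sorted hj hi hl hk h1 h2).2 e
    tauto

theorem exists_lab {v : ℕ} (hv : v < 2048) (hn : VCode.isNc 2 true v = true) :
    ∃ i j, i < 24 ∧ j < 24 ∧ i ≠ j ∧ lab i j = v := by
  have h := List.all_eq_true.1 surj_table v (List.mem_range.2 hv)
  simp only [hn, Bool.not_true, Bool.false_or, List.any_eq_true, List.mem_range, Bool.and_eq_true,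
    Bool.not_eq_true'] at h
  obtain ⟨i, hi, j, hj, hne, e⟩ := h
  exact ⟨i, j, hi, hj, fun e' => by rw [e', Nat.beq_refl] at hne; exact Bool.noConfusion hne,
    Nat.eq_of_beq_eq_true e⟩

/-- A map of the codes below `2048`. -/
structure CodeMap (f : ℕ → ℕ) : Prop where
  lt : ∀ v, v < 2048 → f v < 2048
  xor : ∀ v w, v < 2048 → w < 2048 → f (Nat.xor v w) = Nat.xor (f v) (f w)
  inj : ∀ v, v < 2048 → f v = 0 → v = 0
  nc : ∀ v, v < 2048 → VCode.isNc 2 true v = true → VCode.isNc 2 true (f v) = true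

namespace CodeMap

variable {f : ℕ → ℕ}

theorem zero (hf : CodeMap f) : f 0 = 0 := by
  have h := hf.xor 0 0 (by norm_num) (by norm_num)
  simpa [Elem.nxor'] using h

theorem injective (hf : CodeMap f) {v w : ℕ} (hv : v < 2048) (hw : w < 2048) (e : f v = f w) : v = w := by
  have h : Nat.xor v w = 0 := hf.inj _ (Nat.xor_lt_two_pow (n := 11) hv hw)
    (by rw [hf.xor v w hv hw, e, Elem.nxor', Nat.xor_self])
  exact Nat.xor_eq_zero_iff.1 (Elem.nxor' v w ▸ h)

theorem exists_pair (hf : CodeMap f) {i j : ℕ} (hi : i < 24) (hj : j < 24) (hij : i ≠ j) :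
    ∃ a b, a < 24 ∧ b < 24 ∧ a ≠ b ∧ f (lab i j) = lab a b := by
  obtain ⟨a, b, ha, hb, hab, e⟩ := exists_lab (hf.lt _ (lab_lt hi hj))
    (hf.nc _ (lab_lt hi hj) ((lab_facts hi hj).2.2 hij))
  exact ⟨a, b, ha, hb, hab, e.symm⟩

theorem meet (hf : CodeMap f) {i j k : ℕ} (hi : i < 24) (hj : j < 24) (hk : k < 24) (hjk : j ≠ k) :
    VCode.isNc 2 true (Nat.xor (f (lab i j)) (f (lab i k))) = true := by
  rw [← hf.xor _ _ (lab_lt hi hj) (lab_lt hi hk), lab_tri hi hj hk]
  exact hf.nc _ (lab_lt hj hk) ((lab_facts hj hk).2.2 hjk)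

theorem exists_centre (hf : CodeMap f) {i : ℕ} (hi : i < 24) :
    ∃ a, a < 24 ∧ ∀ j, j < 24 → j ≠ i → ∃ x, x < 24 ∧ x ≠ a ∧ f (lab i j) = lab a x := by
  obtain ⟨p, q, hp, hq, hpq, hpi, hqi⟩ : ∃ p q, p < 24 ∧ q < 24 ∧ p ≠ q ∧ p ≠ i ∧ q ≠ i :=
    ⟨if i = 0 then 1 else 0, if i = 2 then 1 else 2, by split <;> omega, by split <;> omega,
      by split <;> split <;> omega, by split <;> omega, by split <;> omega⟩
  obtain ⟨a₁, b₁, ha₁, hb₁, hab₁, e₁⟩ := hf.exists_pair hi hp hpi.symm
  obtain ⟨a₂, b₂, ha₂, hb₂, hab₂, e₂⟩ := hf.exists_pair hi hq hqi.symm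
  have hm := hf.meet hi hp hq hpq
  rw [e₁, e₂] at hm
  obtain ⟨a, b, c, ha, hb, hc, hab, hac, ep, eq⟩ : ∃ a b c, a < 24 ∧ b < 24 ∧ c < 24 ∧ a ≠ b ∧ a ≠ c ∧
      f (lab i p) = lab a b ∧ f (lab i q) = lab a c := by
    rcases lab_meet ha₁ hb₁ ha₂ hb₂ hab₁ hab₂ hm with h | h | h | h <;> subst h
    · exact ⟨a₁, b₁, b₂, ha₁, hb₁, hb₂, hab₁, hab₂, e₁, e₂⟩
    · exact ⟨a₁, b₁, a₂, ha₁, hb₁, ha₂, hab₁, hab₂.symm, e₁, e₂.trans (lab_comm ha₂ ha₁)⟩
    · exact ⟨b₁, a₁, b₂, hb₁, ha₁, hb₂, hab₁.symm, hab₂, e₁.trans (lab_comm ha₁ hb₁), e₂⟩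
    · exact ⟨b₁, a₁, a₂, hb₁, ha₁, ha₂, hab₁.symm, hab₂.symm, e₁.trans (lab_comm ha₁ hb₁),
        e₂.trans (lab_comm ha₂ hb₁)⟩
  have hbc : b ≠ c := by
    rintro rfl
    have := hf.injective (lab_lt hi hp) (lab_lt hi hq) (ep.trans eq.symm)
    rcases lab_unique hi hp hi hq hpi.symm hqi.symm this with h | h
    · exact hpq h.2
    · exact hqi h.1.symm
  refine ⟨a, ha, fun j hj hji => ?_⟩
  by_cases hjp : j = p
  · exact ⟨b, hb, hab.symm, hjp ▸ ep⟩
  by_cases hjq : j = q
  · exact ⟨c, hc, hac.symm, hjq ▸ eq⟩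
  obtain ⟨u, w, hu, hw, huw, e⟩ := hf.exists_pair hi hj hji.symm
  by_cases hua : u = a
  · exact ⟨w, hw, fun h => huw (hua.trans h.symm), hua ▸ e⟩
  by_cases hwa : w = a
  · exact ⟨u, hu, fun h => huw (h.trans hwa.symm), (hwa ▸ e).trans (lab_comm hu ha)⟩
  exfalso
  have h1 := hf.meet hi hj hp hjp
  have h2 := hf.meet hi hj hq hjq
  rw [e, ep] at h1
  rw [e, eq] at h2
  have k1 := lab_meet hu hw ha hb huw hab h1
  have k2 := lab_meet hu hw ha hc huw hac h2
  have hbc' : lab u w = lab b c := by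
    have hu' : (u = b ∧ w = c) ∨ (u = c ∧ w = b) := by
      rcases k1 with h | h | h | h <;> rcases k2 with h' | h' | h' | h' <;>
        first | exact absurd h hua | exact absurd h hwa | exact absurd h' hua | exact absurd h' hwa |
          exact Or.inl ⟨h, h'⟩ | exact Or.inr ⟨h', h⟩ | exact absurd (h.symm.trans h') hbc
    rcases hu' with ⟨rfl, rfl⟩ | ⟨rfl, rfl⟩
    · rfl
    · exact lab_comm hu hw
  have h3 : f (lab i j) = f (lab p q) := by
    rw [← lab_tri hi hp hq, hf.xor _ _ (lab_lt hi hp) (lab_lt hi hq), ep, eq, lab_tri ha hb hc, e, hbc']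
  rcases lab_unique hi hj hp hq hji.symm hpq (hf.injective (lab_lt hi hj) (lab_lt hp hq) h3) with h | h
  · exact hpi h.1.symm
  · exact hqi h.1.symm

/-- The permutation of the points. -/
theorem exists_perm (hf : CodeMap f) : ∃ π : Equiv.Perm (Fin 24), ∀ i j : Fin 24,
    f (lab i.1 j.1) = lab (π i).1 (π j).1 := by
  choose s hs hsp using fun i : Fin 24 => hf.exists_centre i.2
  have hinj : Function.Injective fun i => (⟨s i, hs i⟩ : Fin 24) := by
    intro i k e
    have e' : s i = s k := congrArg Fin.val e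
    by_contra hne
    have hne' : i.1 ≠ k.1 := fun h => hne (Fin.ext h)
    obtain ⟨j, hj, hji, hjk⟩ : ∃ j, j < 24 ∧ j ≠ i.1 ∧ j ≠ k.1 :=
      ⟨if i.1 ≠ 0 ∧ k.1 ≠ 0 then 0 else if i.1 ≠ 1 ∧ k.1 ≠ 1 then 1 else 2,
        by split_ifs <;> omega, by split_ifs <;> omega, by split_ifs <;> omega⟩
    obtain ⟨x, hx, hxa, ex⟩ := hsp i j hj hji
    obtain ⟨y, hy, hya, ey⟩ := hsp k j hj hjk
    obtain ⟨w, hw, hwa, ew⟩ := hsp i k.1 k.2 hne'.symm
    rw [← e'] at hya ey
    have h1 : f (lab i.1 k.1) = lab x y := by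
      rw [← lab_tri hj i.2 k.2, hf.xor _ _ (lab_lt hj i.2) (lab_lt hj k.2), lab_comm hj i.2,
        lab_comm hj k.2, ex, ey, lab_tri (hs i) hx hy]
    have hxy : x ≠ y := by
      intro h
      subst h
      rcases lab_unique i.2 hj k.2 hj hji.symm hjk.symm
        (hf.injective (lab_lt i.2 hj) (lab_lt k.2 hj) (ex.trans ey.symm)) with h | h
      · exact hne' h.1
      · exact hji h.1.symm
    rcases lab_unique hx hy (hs i) hw hxy hwa.symm (h1.symm.trans ew) with h | h
    · exact hxa h.1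
    · exact hya h.2
  refine ⟨Equiv.ofBijective _ (Finite.injective_iff_bijective.1 hinj), fun i j => ?_⟩
  show f (lab i.1 j.1) = lab (s i) (s j)
  by_cases hij : i = j
  · subst hij
    rw [lab_self i.2, lab_self (hs i), hf.zero]
  have hij' : i.1 ≠ j.1 := fun h => hij (Fin.ext h)
  obtain ⟨x, hx, hxa, ex⟩ := hsp i j.1 j.2 hij'.symm
  obtain ⟨y, hy, hyb, ey⟩ := hsp j i.1 i.2 hij'
  have hne : s i ≠ s j := fun h => hij (hinj (Fin.ext h))
  rw [ex]
  rcases lab_unique (hs i) hx (hs j) hy hxa.symm hyb.symm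
    (ex.symm.trans ((congrArg f (lab_comm i.2 j.2)).trans ey)) with h | h
  · exact absurd h.1 hne
  · rw [h.2]

end CodeMap

/-! ### The code as the kernel -/

/-- the vector of a point: its pair with the first point and a bit for the parity -/
def wv (i : ℕ) : ℕ := Nat.xor 2048 (lab 0 i)

/-- the vector of a mask -/
def chN (m : ℕ) : ℕ :=
  (List.range 24).foldr (fun i acc => if Nat.testBit m i then Nat.xor (wv i) acc else acc) 0

theorem code_table : ((List.range 4096).all fun k => Nat.beq (chN (codeWord k)) 0) = true ∧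
    ((List.range 4096).all fun h => Nat.beq h 0 || !Nat.beq (chN (4096 * h)) 0) = true := by
  decide +kernel

/-- bits as a vector -/
def bv (x : ℕ) : Fin 12 → ZMod 2 := fun k => if x.testBit k.1 then 1 else 0

theorem bv_xor (x y : ℕ) : bv (Nat.xor x y) = bv x + bv y := by
  funext k
  simp only [bv, Elem.nxor', Nat.testBit_xor, Pi.add_apply]
  cases x.testBit k.1 <;> cases y.testBit k.1 <;> decide

theorem bv_zero : bv 0 = 0 := by funext k; simp [bv]

theorem eq_zero_of_bv {x : ℕ} (hx : x < 4096) (h : bv x = 0) : x = 0 := by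
  refine Nat.eq_of_testBit_eq fun i => ?_
  rw [Nat.zero_testBit]
  by_cases hi : i < 12
  · by_contra hne
    have := congrFun h ⟨i, hi⟩
    simp only [bv, Bool.not_eq_false] at this hne
    simp [hne] at this
  · exact Nat.testBit_lt_two_pow (hx.trans_le (Nat.pow_le_pow_right (n := 2) (i := 12) (by norm_num) (by omega)))

theorem chN_lt (m : ℕ) : chN m < 4096 := by
  have key : ∀ L : List ℕ, (∀ i ∈ L, i < 24) →
      L.foldr (fun i acc => if Nat.testBit m i then Nat.xor (wv i) acc else acc) 0 < 4096 := by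
    intro L hL
    induction L with
    | nil => simp
    | cons a L ih =>
      have h := ih fun i hi => hL i (List.mem_cons_of_mem _ hi)
      simp only [List.foldr_cons]
      split
      · refine Nat.xor_lt_two_pow (n := 12) (Nat.xor_lt_two_pow (n := 12) (by norm_num) ?_) h
        exact (lab_lt (by norm_num) (hL a List.mem_cons_self)).trans (by norm_num)
      · exact h
  exact key _ fun i hi => List.mem_range.1 hi

theorem bv_chN (m : ℕ) : bv (chN m) = ∑ i : Fin 24, if m.testBit i.1 then bv (wv i.1) else 0 := by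
  have key : ∀ L : List ℕ, bv (L.foldr (fun i acc => if Nat.testBit m i then Nat.xor (wv i) acc else acc) 0) =
      (L.map fun i => if m.testBit i then bv (wv i) else 0).sum := by
    intro L
    induction L with
    | nil => exact bv_zero
    | cons a L ih =>
      simp only [List.foldr_cons, List.map_cons, List.sum_cons]
      split
      · rw [bv_xor, ih]
      · rw [ih, zero_add]
  rw [chN, key, Fin.sum_univ_eq_sum_range (fun i => if m.testBit i then bv (wv i) else 0) 24]
  rfl

theorem chN_xor (a b : ℕ) : bv (chN (a ^^^ b)) = bv (chN a) + bv (chN b) := by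
  simp only [bv_chN, ← Finset.sum_add_distrib, Nat.testBit_xor]
  refine Finset.sum_congr rfl fun i _ => ?_
  cases a.testBit i.1 <;> cases b.testBit i.1 <;> simp
  funext k
  exact (CharTwo.add_self_eq_zero (bv (wv i.1) k)).symm

theorem isCode_iff_chN {m : ℕ} (hm : m < 2 ^ 24) : isCode m = true ↔ bv (chN m) = 0 := by
  have hcw : ∀ k, k < 4096 → bv (chN (codeWord k)) = 0 := fun k hk => by
    rw [Nat.eq_of_beq_eq_true (List.all_eq_true.1 code_table.1 k (List.mem_range.2 hk)), bv_zero]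
  have hlow : m &&& 4095 < 4096 := Nat.lt_succ_of_le Nat.and_le_right
  constructor
  · intro h
    rw [← Golay.isCode_iff.1 h]
    exact hcw _ hlow
  · intro h
    rw [Golay.isCode_iff]
    set d := m ^^^ codeWord (m &&& 4095) with hd
    have hd0 : d % 4096 = 0 := by
      rw [hd, show (4096 : ℕ) = 2 ^ 12 from rfl, Nat.xor_mod_two_pow, ← Nat.and_two_pow_sub_one_eq_mod,
        ← Nat.and_two_pow_sub_one_eq_mod]
      rw [show (2 ^ 12 - 1 : ℕ) = 4095 from rfl, Golay.codeWord_and _ hlow, Nat.xor_self]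
    have hdlt : d < 2 ^ 24 := Nat.xor_lt_two_pow hm (Golay.codeWord_lt _)
    have hch : chN d = 0 := eq_zero_of_bv (chN_lt _) (by rw [hd, chN_xor, h, hcw _ hlow, add_zero])
    have hq : d / 4096 < 4096 := Nat.div_lt_of_lt_mul (by simpa using hdlt)
    have ht := List.all_eq_true.1 code_table.2 (d / 4096) (List.mem_range.2 hq)
    rw [show 4096 * (d / 4096) = d by omega, hch, Nat.beq_refl] at ht
    simp only [Bool.not_true, Bool.or_false] at ht
    have := Nat.eq_of_beq_eq_true ht
    have hd' : d = 0 := by omega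
    exact (Nat.xor_eq_zero_iff.1 hd').symm

theorem bv_chN_encS (b : Finset GolayPt) : bv (chN (encS b)) = ∑ p ∈ b, bv (wv (idx p).1) := by
  rw [bv_chN, ← Equiv.sum_comp ptEquiv.symm fun i : Fin 24 => if (encS b).testBit i.1 then bv (wv i.1) else 0]
  show (∑ p : GolayPt, if (encS b).testBit (idx p).1 then bv (wv (idx p).1) else 0) = _
  simp only [Golay.testBit_encS, decide_eq_true_eq, Finset.sum_ite_mem, Finset.univ_inter]

namespace CodeMap

variable {f : ℕ → ℕ}

theorem exists_mem_M24 (hf : CodeMap f) : ∃ σ : M24, ∀ i j, i < 24 → j < 24 →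
    f (lab i j) = lab (pget (pk σ.1) i) (pget (pk σ.1) j) := by
  classical
  obtain ⟨π, hπ⟩ := hf.exists_perm
  set σ : Equiv.Perm GolayPt := ptEquiv.permCongr π with hσ
  have hidx : ∀ p, idx (σ p) = π (idx p) := fun p => by
    simp [hσ, Equiv.permCongr_apply, ptEquiv, idx_pt]
  have himg : ∀ i (hi : i < 24), pget (pk σ) i = (π ⟨i, hi⟩).1 := fun i hi => by
    rw [pget_pk σ hi, imgF, dif_pos hi, hidx, idx_pt]
  refine ⟨⟨σ, ?_⟩, fun i j hi hj => by rw [himg i hi, himg j hj]; exact hπ ⟨i, hi⟩ ⟨j, hj⟩⟩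
  refine Golay.mem_M24_iff.2 fun b hb => ?_
  rw [Golay.mem_supports, isCode_iff_chN (Golay.encS_lt _), bv_chN_encS] at hb ⊢
  rw [Finset.smul_finset_def, Finset.sum_image fun x _ y _ e => MulAction.injective σ e]
  simp only [Equiv.Perm.smul_def, hidx]
  simp only [wv, bv_xor, Finset.sum_add_distrib, Finset.sum_const] at hb ⊢
  have hlow : ∀ x, x < 2048 → bv x ⟨11, by norm_num⟩ = 0 := fun x hx => by
    simp only [bv]
    rw [if_neg]
    simp [Nat.testBit_lt_two_pow (show x < 2 ^ 11 from hx)]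
  have hpar : ((b.card : ℕ) : ZMod 2) = 0 := by
    have h := congrFun hb ⟨11, by norm_num⟩
    simp only [Pi.add_apply, Finset.sum_apply, nsmul_eq_mul, Pi.zero_apply] at h
    rw [Finset.sum_eq_zero fun p _ => hlow _ (lab_lt (by norm_num) (idx p).2), add_zero] at h
    simpa [bv, show Nat.testBit 2048 11 = true by decide] using h
  have hk : ∀ v : Fin 12 → ZMod 2, b.card • v = 0 := fun v => funext fun k => by
    simp only [Pi.smul_apply, nsmul_eq_mul, hpar, zero_mul, Pi.zero_apply]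
  rw [hk, zero_add] at hb
  rw [hk, zero_add]
  have hsum : ∀ c : Finset GolayPt, ∃ w, w < 2048 ∧ bv w = ∑ p ∈ c, bv (lab 0 (idx p).1) ∧
      bv (f w) = ∑ p ∈ c, bv (f (lab 0 (idx p).1)) := by
    intro c
    induction c using Finset.induction with
    | empty => exact ⟨0, by norm_num, by simp [bv_zero], by simp [hf.zero, bv_zero]⟩
    | @insert q c hq ih =>
      obtain ⟨w, hw, e1, e2⟩ := ih
      have hl := lab_lt (show (0 : ℕ) < 24 by norm_num) (idx q).2
      refine ⟨Nat.xor (lab 0 (idx q).1) w, Nat.xor_lt_two_pow (n := 11) hl hw, ?_, ?_⟩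
      · rw [bv_xor, e1, Finset.sum_insert hq]
      · rw [hf.xor _ _ hl hw, bv_xor, e2, Finset.sum_insert hq]
  obtain ⟨w, hw, e1, e2⟩ := hsum b
  have hw0 : w = 0 := eq_zero_of_bv (hw.trans (by norm_num)) (e1.trans hb)
  set a := (π 0).1 with ha
  have hterm : ∀ p : GolayPt, bv (lab 0 (π (idx p)).1) = bv (lab a 0) + bv (f (lab 0 (idx p).1)) := fun p => by
    rw [← lab_tri (π 0).2 (show (0 : ℕ) < 24 by norm_num) (π (idx p)).2, bv_xor]
    exact congrArg (fun x => bv (lab a 0) + bv x) (hπ 0 (idx p)).symm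
  simp only [hterm, Finset.sum_add_distrib, Finset.sum_const, hk, zero_add, ← e2, hw0, hf.zero, bv_zero]

end CodeMap

end CfsgLib.J4Type.Sym.Lbl
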