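import Mathlib

/-!
A criterion for a group to contain `PGL₂(23)`: a translation, a multiplication by `5` and an inversion satisfying
the products of the Bruhat decomposition.
-/

set_option autoImplicit false

namespace CfsgLib.J4Type.Sym.LinTwentyThree

open Matrix

/-- The field with 23 elements. -/
abbrev F23 : Type := ZMod 23

instance : Fact (Nat.Prime 23) := ⟨by norm_num⟩

/-- Logarithms to base 5. -/
def logTab : List ℕ :=
  [0, 0, 2, 16, 4, 1, 18, 19, 6, 10, 3, 9, 20, 14, 21, 17, 8, 7, 12, 15, 5, 13, 11]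

/-- The logarithm to base 5 of a non-zero residue. -/
def lg (z : F23) : ℕ := logTab.getD z.val 0

theorem five_pow_lg : ∀ z : F23, z ≠ 0 → (5 : F23) ^ lg z = z := by decide +kernel

theorem lg_mul : ∀ x y : F23, x ≠ 0 → y ≠ 0 → (lg x + lg y) % 22 = lg (x * y) := by decide +kernel

theorem lg_one : lg 1 = 0 := by decide +kernel

theorem lg_lt : ∀ z : F23, lg z < 22 := by decide +kernel

theorem eq_one_of_lg : ∀ z : F23, z ≠ 0 → lg z = 0 → z = 1 := by decide +kernel

variable {K : Type*} [Group K]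

/-- The data in a group. -/
structure PglData (U H W : K) : Prop where
  U_pow : U ^ 23 = 1
  H_pow : H ^ 22 = 1
  H_conj : H * U * H⁻¹ = U ^ 5
  W_sq : W * W = 1
  W_H : W * H * W = H⁻¹
  W_U : ∀ x : F23, x ≠ 0 → W * U ^ x.val * W = U ^ (x⁻¹).val * W * H ^ lg (-(x * x)) * U ^ (x⁻¹).val
  U_ne : U ≠ 1
  H_two : H ^ 2 ≠ 1
  H_eleven : H ^ 11 ≠ 1
  W_move : W * U * W ≠ U ∧ W * U * W ≠ U⁻¹

/-- Translations. -/
def uP (U : K) (x : F23) : K := U ^ x.val

/-- Multiplications. -/
def hP (H : K) (z : F23) : K := H ^ lg z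

namespace PglData

variable {U H W : K} (D : PglData U H W)
include D

theorem U_mod (n : ℕ) : U ^ n = U ^ (n % 23) := by
  conv_lhs => rw [← Nat.div_add_mod n 23, pow_add, pow_mul, D.U_pow, one_pow, one_mul]

theorem H_mod (n : ℕ) : H ^ n = H ^ (n % 22) := by
  conv_lhs => rw [← Nat.div_add_mod n 22, pow_add, pow_mul, D.H_pow, one_pow, one_mul]

theorem uP_add (x y : F23) : uP U (x + y) = uP U x * uP U y := by
  rw [uP, uP, uP, ZMod.val_add, ← D.U_mod, pow_add]

theorem uP_zero : uP U (0 : F23) = 1 := by rw [uP, ZMod.val_zero, pow_zero]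

theorem uP_inv (x : F23) : (uP U x)⁻¹ = uP U (-x) :=
  inv_eq_of_mul_eq_one_right (by rw [← D.uP_add, add_neg_cancel, D.uP_zero])

theorem hP_mul {x y : F23} (hx : x ≠ 0) (hy : y ≠ 0) : hP H (x * y) = hP H x * hP H y := by
  rw [hP, hP, hP, ← lg_mul x y hx hy, ← D.H_mod, pow_add]

theorem hP_one : hP H (1 : F23) = 1 := by rw [hP, lg_one, pow_zero]

theorem hP_inv {x : F23} (hx : x ≠ 0) : (hP H x)⁻¹ = hP H x⁻¹ :=
  inv_eq_of_mul_eq_one_right (by rw [← D.hP_mul hx (inv_ne_zero hx), mul_inv_cancel₀ hx, D.hP_one])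

theorem H_pow_mul (n : ℕ) : ∀ m : ℕ, H ^ n * U ^ m = U ^ (5 ^ n * m) * H ^ n := by
  induction n with
  | zero => intro m; simp
  | succ n ih =>
    intro m
    have h1 : H * U ^ m = U ^ (5 * m) * H := by
      rw [pow_mul, ← D.H_conj, conj_pow, inv_mul_cancel_right]
    rw [pow_succ, mul_assoc, h1, ← mul_assoc, ih, mul_assoc, ← mul_assoc (5 ^ n) 5 m, Nat.pow_succ]

theorem hP_uP {z : F23} (hz : z ≠ 0) (x : F23) : hP H z * uP U x = uP U (z * x) * hP H z := by
  rw [hP, uP, D.H_pow_mul, uP]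
  congr 1
  rw [D.U_mod]
  congr 1
  rw [← ZMod.val_natCast 23, Nat.cast_mul, Nat.cast_pow, ZMod.natCast_zmod_val,
    show ((5 : ℕ) : F23) = 5 from rfl, five_pow_lg z hz]

theorem uP_hP {z : F23} (hz : z ≠ 0) (x : F23) : uP U x * hP H z = hP H z * uP U (z⁻¹ * x) := by
  rw [D.hP_uP hz, mul_inv_cancel_left₀ hz]

theorem W_hP {z : F23} (hz : z ≠ 0) : W * hP H z = hP H z⁻¹ * W := by
  have hWi : W⁻¹ = W := inv_eq_of_mul_eq_one_right D.W_sq
  have key : W * hP H z * W⁻¹ = (hP H z)⁻¹ := by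
    rw [hP, ← conj_pow, hWi, D.W_H, inv_pow]
  rw [← D.hP_inv hz, ← key, inv_mul_cancel_right]

theorem W_uP_W {x : F23} (hx : x ≠ 0) :
    W * uP U x * W = uP U x⁻¹ * W * hP H (-(x * x)) * uP U x⁻¹ := D.W_U x hx

end PglData

/-- The value of a matrix. -/
def phi (U H W : K) (M : GL (Fin 2) F23) : K :=
  if M.1 1 0 = 0 then uP U (M.1 0 1 / M.1 1 1) * hP H (M.1 0 0 / M.1 1 1)
  else uP U (M.1 0 0 / M.1 1 0) * W *
    hP H (M.1 1 0 * M.1 1 0 / (M.1 0 1 * M.1 1 0 - M.1 0 0 * M.1 1 1)) * uP U (M.1 1 1 / M.1 1 0)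

/-- The value of four entries. -/
def phiE (U H W : K) (a b c d : F23) : K :=
  if c = 0 then uP U (b / d) * hP H (a / d)
  else uP U (a / c) * W * hP H (c * c / (b * c - a * d)) * uP U (d / c)

theorem phi_eq (U H W : K) (M : GL (Fin 2) F23) :
    phi U H W M = phiE U H W (M.1 0 0) (M.1 0 1) (M.1 1 0) (M.1 1 1) := rfl

theorem det_ne_zero (M : GL (Fin 2) F23) : M.1 0 0 * M.1 1 1 - M.1 0 1 * M.1 1 0 ≠ 0 := by
  have h := (Matrix.GeneralLinearGroup.det M).ne_zero
  rwa [Matrix.GeneralLinearGroup.val_det_apply, Matrix.det_fin_two] at h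

namespace PglData

variable {U H W : K} (D : PglData U H W)
include D

theorem phiE_U (t a b c d : F23) (hd : a * d - b * c ≠ 0) :
    phiE U H W (a + t * c) (b + t * d) c d = uP U t * phiE U H W a b c d := by
  unfold phiE
  by_cases hc : c = 0
  · subst hc
    have hd0 : d ≠ 0 := fun e => hd (by rw [e]; ring)
    rw [if_pos rfl, if_pos rfl, ← mul_assoc, ← D.uP_add]
    congr 2
    · field_simp; ring
    · ring
  · rw [if_neg hc, if_neg hc, ← mul_assoc, ← mul_assoc, ← mul_assoc, ← D.uP_add]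
    congr 3
    · congr 1
      field_simp; ring
    · ring

theorem phiE_D {s : F23} (hs : s ≠ 0) (a b c d : F23) (hd : a * d - b * c ≠ 0) :
    phiE U H W (s * a) (s * b) c d = hP H s * phiE U H W a b c d := by
  unfold phiE
  by_cases hc : c = 0
  · subst hc
    have hd0 : d ≠ 0 := fun e => hd (by rw [e]; ring)
    have ha : a ≠ 0 := fun e => hd (by rw [e]; ring)
    rw [if_pos rfl, if_pos rfl, ← mul_assoc, D.hP_uP hs, mul_assoc, ← D.hP_mul hs (div_ne_zero ha hd0),
      mul_div_assoc, mul_div_assoc]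
  · have hq : c * c / (b * c - a * d) ≠ 0 :=
      div_ne_zero (mul_ne_zero hc hc) (fun e => hd (by linear_combination -e))
    rw [if_neg hc, if_neg hc, ← mul_assoc, ← mul_assoc, ← mul_assoc, D.hP_uP hs, mul_assoc _ (hP H s) W,
      show hP H s * W = W * hP H s⁻¹ by rw [D.W_hP (inv_ne_zero hs), inv_inv], ← mul_assoc, mul_assoc (uP U (s * (a / c)) * W) (hP H s⁻¹) (hP H (c * c / (b * c - a * d))),
      ← D.hP_mul (inv_ne_zero hs) hq, mul_div_assoc]
    congr 3
    rw [show s * b * c - s * a * d = s * (b * c - a * d) by ring, div_mul_eq_div_div_swap]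
    field_simp

theorem phiE_W (a b c d : F23) (hd : a * d - b * c ≠ 0) :
    phiE U H W c d a b = W * phiE U H W a b c d := by
  unfold phiE
  by_cases hc : c = 0
  · subst hc
    have hd0 : d ≠ 0 := fun e => hd (by rw [e]; ring)
    have ha : a ≠ 0 := fun e => hd (by rw [e]; ring)
    rw [if_neg ha, if_pos rfl, zero_div, D.uP_zero, one_mul, D.uP_hP (div_ne_zero ha hd0), ← mul_assoc]
    congr 2
    · congr 1; field_simp; ring
    · field_simp
  · by_cases ha : a = 0
    · subst ha
      have hb : b ≠ 0 := fun e => hd (by rw [e]; ring)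
      rw [if_pos rfl, if_neg hc, zero_div, D.uP_zero, one_mul, ← mul_assoc, ← mul_assoc, D.W_sq, one_mul,
        D.hP_uP (div_ne_zero (mul_ne_zero hc hc) (by simpa using mul_ne_zero hb hc))]
      congr 2
      · field_simp; ring
      · field_simp; ring
    · have hq : c * c / (b * c - a * d) ≠ 0 :=
        div_ne_zero (mul_ne_zero hc hc) (fun e => hd (by linear_combination -e))
      have hm : -(a / c * (a / c)) ≠ 0 := neg_ne_zero.2 (mul_ne_zero (div_ne_zero ha hc) (div_ne_zero ha hc))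
      have hne : b * c - a * d ≠ 0 := fun e => hd (by linear_combination -e)
      rw [if_neg ha, if_neg hc, ← mul_assoc, ← mul_assoc, ← mul_assoc, D.W_uP_W (div_ne_zero ha hc),
        mul_assoc _ (uP U (a / c)⁻¹) (hP H _), D.uP_hP hq, ← mul_assoc, mul_assoc _ (hP H (-_)) (hP H _),
        ← D.hP_mul hm hq, mul_assoc _ (uP U _) (uP U (d / c)), ← D.uP_add, inv_div]
      congr 2
      · congr 1
        rw [show d * a - c * b = -(b * c - a * d) by ring, div_neg]
        field_simp
      · field_simp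
        ring

theorem phiE_smul {s : F23} (hs : s ≠ 0) (a b c d : F23) :
    phiE U H W (s * a) (s * b) (s * c) (s * d) = phiE U H W a b c d := by
  unfold phiE
  by_cases hc : c = 0
  · subst hc
    rw [mul_zero, if_pos rfl, if_pos rfl, mul_div_mul_left _ _ hs, mul_div_mul_left _ _ hs]
  · rw [if_neg (mul_ne_zero hs hc), if_neg hc, mul_div_mul_left _ _ hs, mul_div_mul_left _ _ hs,
      show s * b * (s * c) - s * a * (s * d) = (s * s) * (b * c - a * d) by ring,
      show s * c * (s * c) = (s * s) * (c * c) by ring, mul_div_mul_left _ _ (mul_ne_zero hs hs)]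

theorem phi_mul (M N : GL (Fin 2) F23) : phi U H W (M * N) = phi U H W M * phi U H W N := by
  simp only [phi_eq, Units.val_mul, Matrix.mul_apply, Fin.sum_univ_two]
  have hM := det_ne_zero M
  have hN := det_ne_zero N
  generalize M.1 0 0 = a, M.1 0 1 = b, M.1 1 0 = c, M.1 1 1 = d at *
  generalize N.1 0 0 = e, N.1 0 1 = f, N.1 1 0 = g, N.1 1 1 = k at *
  by_cases hc : c = 0
  · subst hc
    have hd0 : d ≠ 0 := fun z => hM (by rw [z]; ring)
    have ha : a ≠ 0 := fun z => hM (by rw [z]; ring)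
    rw [show phiE U H W a b 0 d = uP U (b / d) * hP H (a / d) from if_pos rfl, mul_assoc,
      ← D.phiE_D (div_ne_zero ha hd0) e f g k hN,
      ← D.phiE_U (b / d) _ _ g k (by rw [show a / d * e * k - a / d * f * g = a / d * (e * k - f * g) by ring];
                                     exact mul_ne_zero (div_ne_zero ha hd0) hN),
      ← D.phiE_smul hd0 (a / d * e + b / d * g)]
    congr 1
    · field_simp
    · field_simp
    · ring
    · ring
  · have hne : b * c - a * d ≠ 0 := fun z => hM (by linear_combination -z)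
    rw [show phiE U H W a b c d = uP U (a / c) * W * hP H (c * c / (b * c - a * d)) * uP U (d / c) from if_neg hc,
      mul_assoc, ← D.phiE_U (d / c) e f g k hN]
    set q := c * c / (b * c - a * d) with hqdef
    have hq : q ≠ 0 := div_ne_zero (mul_ne_zero hc hc) hne
    have h1 : (e + d / c * g) * k - (f + d / c * k) * g ≠ 0 := by
      rw [show (e + d / c * g) * k - (f + d / c * k) * g = e * k - f * g by ring]; exact hN
    have h2 : q * (e + d / c * g) * k - q * (f + d / c * k) * g ≠ 0 := by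
      rw [show q * (e + d / c * g) * k - q * (f + d / c * k) * g = q * ((e + d / c * g) * k - (f + d / c * k) * g) by ring]
      exact mul_ne_zero hq h1
    have h3 : g * (q * (f + d / c * k)) - k * (q * (e + d / c * g)) ≠ 0 := fun z => h2 (by linear_combination -z)
    rw [mul_assoc _ (hP H q) (phiE U H W _ _ _ _), ← D.phiE_D hq _ _ g k h1, mul_assoc, ← D.phiE_W _ _ g k h2,
      ← D.phiE_U (a / c) g k _ _ h3, ← D.phiE_smul (div_ne_zero hc hq) (g + a / c * (q * (e + d / c * g)))]
    congr 1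
    · field_simp; rw [hqdef]; field_simp; ring
    · field_simp; rw [hqdef]; field_simp; ring
    · field_simp
    · field_simp

/-- The homomorphism. -/
def hom : GL (Fin 2) F23 →* K where
  toFun := phi U H W
  map_one' := by
    rw [phi_eq]
    simp [phiE, D.uP_zero, D.hP_one]
  map_mul' := D.phi_mul

theorem pow_eq_one_iff {x : F23} : uP U x = 1 ↔ x = 0 := by
  refine ⟨fun h => ?_, fun h => by rw [h, D.uP_zero]⟩
  have ho : orderOf U = 23 := orderOf_eq_prime D.U_pow D.U_ne
  have hd := orderOf_dvd_of_pow_eq_one (show U ^ x.val = 1 from h)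
  rw [ho] at hd
  exact (ZMod.val_eq_zero x).1 (Nat.eq_zero_of_dvd_of_lt hd (ZMod.val_lt x))

theorem orderOf_H : orderOf H = 22 := by
  have hd : orderOf H ∣ 22 := orderOf_dvd_of_pow_eq_one D.H_pow
  have h2 : ¬ orderOf H ∣ 2 := fun e => D.H_two (orderOf_dvd_iff_pow_eq_one.1 e)
  have h11 : ¬ orderOf H ∣ 11 := fun e => D.H_eleven (orderOf_dvd_iff_pow_eq_one.1 e)
  have key : ∀ n ∈ (22 : ℕ).divisors, ¬ n ∣ 2 → ¬ n ∣ 11 → n = 22 := by decide +kernel
  exact key _ (Nat.mem_divisors.2 ⟨hd, by norm_num⟩) h2 h11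

theorem eq_of_uP_mul_hP {x z : F23} (hz : z ≠ 0) (h : uP U x * hP H z = 1) : x = 0 ∧ z = 1 := by
  have hmem : hP H z = uP U (-x) := by rw [← D.uP_inv, eq_inv_of_mul_eq_one_right h]
  have h23 : hP H z ^ 23 = 1 := by rw [hmem, uP, ← pow_mul, mul_comm, pow_mul, D.U_pow, one_pow]
  have hd := orderOf_dvd_of_pow_eq_one (show H ^ (lg z * 23) = 1 by rw [pow_mul]; exact h23)
  rw [D.orderOf_H] at hd
  have h0 : lg z = 0 := by have := lg_lt z; omega
  have hz1 := eq_one_of_lg z hz h0
  refine ⟨D.pow_eq_one_iff.1 ?_, hz1⟩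
  rwa [hz1, D.hP_one, mul_one] at h

theorem ker_hom : D.hom.ker = Subgroup.center (GL (Fin 2) F23) := by
  ext M
  rw [MonoidHom.mem_ker, Matrix.GeneralLinearGroup.center_eq_range_scalar, MonoidHom.mem_range]
  show phi U H W M = 1 ↔ _
  have hM := det_ne_zero M
  rw [phi_eq]
  constructor
  · intro h
    by_cases hc : M.1 1 0 = 0
    · rw [phiE, if_pos hc] at h
      rw [hc, mul_zero, sub_zero] at hM
      obtain ⟨hx, hz⟩ := D.eq_of_uP_mul_hP (div_ne_zero (left_ne_zero_of_mul hM) (right_ne_zero_of_mul hM)) h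
      have hb : M.1 0 1 = 0 := by
        rcases div_eq_zero_iff.1 hx with e | e
        · exact e
        · exact absurd e (right_ne_zero_of_mul hM)
      have had : M.1 0 0 = M.1 1 1 := by rwa [div_eq_one_iff_eq (right_ne_zero_of_mul hM)] at hz
      refine ⟨Units.mk0 (M.1 1 1) (right_ne_zero_of_mul hM), Units.ext (Matrix.ext fun i j => ?_)⟩
      fin_cases i <;> fin_cases j <;> simp [hb, hc, had]
    · exfalso
      rw [phiE, if_neg hc] at h
      set p := M.1 0 0 / M.1 1 0
      set r := M.1 1 1 / M.1 1 0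
      set q := M.1 1 0 * M.1 1 0 / (M.1 0 1 * M.1 1 0 - M.1 0 0 * M.1 1 1) with hqd
      have hq : q ≠ 0 := div_ne_zero (mul_ne_zero hc hc) (fun z => hM (by linear_combination -z))
      obtain ⟨x, z, hz, hW⟩ : ∃ x z : F23, z ≠ 0 ∧ W = uP U x * hP H z := by
        refine ⟨-p + -r, q⁻¹, inv_ne_zero hq, ?_⟩
        have h' : W = (uP U p)⁻¹ * ((uP U r)⁻¹ * (hP H q)⁻¹) := by
          rw [← _root_.mul_inv_rev, eq_inv_mul_iff_mul_eq, eq_inv_iff_mul_eq_one, ← mul_assoc]
          exact h
        rw [h', D.uP_inv, D.uP_inv, D.hP_inv hq, ← mul_assoc, ← D.uP_add]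
      have h2 : uP U (x + z * x) * hP H (z * z) = 1 := by
        calc uP U (x + z * x) * hP H (z * z) = uP U x * (uP U (z * x) * hP H z) * hP H z := by
              rw [D.uP_add, D.hP_mul hz hz]; group
          _ = W * W := by rw [← D.hP_uP hz, hW]; group
          _ = 1 := D.W_sq
      have hz2 := (D.eq_of_uP_mul_hP (mul_ne_zero hz hz) h2).2
      have hU : W * U * W = uP U z := by
        have hu1 : uP U (1 : F23) = U := pow_one U
        have hWi : W⁻¹ = W := inv_eq_of_mul_eq_one_right D.W_sq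
        calc W * U * W = W * uP U 1 * W⁻¹ := by rw [hu1, hWi]
          _ = uP U x * (hP H z * uP U 1) * (hP H z)⁻¹ * (uP U x)⁻¹ := by rw [hW]; group
          _ = uP U x * uP U (z * 1) * (uP U x)⁻¹ := by rw [D.hP_uP hz]; group
          _ = uP U z := by rw [D.uP_inv, mul_one, ← D.uP_add, ← D.uP_add]; congr 1; ring
      rcases mul_self_eq_one_iff.1 hz2 with rfl | rfl
      · exact D.W_move.1 (by rw [hU]; exact pow_one U)
      · refine D.W_move.2 ?_
        rw [hU, ← D.uP_inv]
        exact congrArg Inv.inv (pow_one U)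
  · rintro ⟨s, rfl⟩
    simp [phiE, D.uP_zero, D.hP_one]

end PglData

end CfsgLib.J4Type.Sym.LinTwentyThree
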