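import Cfsg.Agent.Lib.J4DCE.Simple
import Cfsg.Agent.Lib.J4Type.Sym.LinTwentyThreeHom
import Cfsg.Agent.Lib.J4Type.Sym.LinTwentyThreeData

/-!
The presented fourth Janko group has a subgroup isomorphic to the projective linear group of degree two over
the field with 23 elements: three words satisfy the rules of `PglData`, checked in the faithful action on the
binary vectors of length 112.
-/

set_option autoImplicit false
set_option maxRecDepth 20000
set_option maxHeartbeats 1000000

namespace CfsgLib.J4Type.Sym.LinTwentyThree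

open CfsgLib.Presented (ATree evW)
open CfsgLib.J4Rep (rep Vec112 applyN applyN_xor runW runW_xor ev4 permX permY permT apply_word)
open CfsgLib.J4DCE.J (jev rep_evW rep_injective)

/-- a list of tables applied to a vector, the last one first -/
noncomputable def runT : List (ATree ℕ) → ℕ → ℕ
  | [], v => v
  | A :: L, v => CfsgLib.Presented.Vec.force (runT L v) fun u => applyN A u 112

theorem runT_cons (A : ATree ℕ) (L : List (ATree ℕ)) (v : ℕ) : runT (A :: L) v = applyN A (runT L v) 112 := by
  rw [runT, CfsgLib.Presented.Vec.force_eq]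

theorem runT_append : ∀ (L M : List (ATree ℕ)) (v : ℕ), runT (L ++ M) v = runT L (runT M v)
  | [], M, v => rfl
  | A :: L, M, v => by rw [List.cons_append, runT_cons, runT_cons, runT_append L M v]

theorem runT_xor : ∀ (L : List (ATree ℕ)) (u v : ℕ), runT L (u ^^^ v) = runT L u ^^^ runT L v
  | [], _, _ => rfl
  | A :: L, u, v => by rw [runT_cons, runT_cons, runT_cons, runT_xor L u v, applyN_xor]

/-- two lists of tables agree on the basis -/
noncomputable def sameT (L M : List (ATree ℕ)) : Bool :=
  (List.range 112).all fun i => Nat.beq (runT L (2 ^ i)) (runT M (2 ^ i))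

/-- a word and a table agree on the basis -/
noncomputable def sameW (w : List ℕ) (T : ATree ℕ) : Bool :=
  (List.range 112).all fun i => Nat.beq (runW w (2 ^ i)) (runT [T] (2 ^ i))

theorem agree_lt {f g : ℕ → ℕ} (hf : ∀ u v, f (u ^^^ v) = f u ^^^ f v) (hg : ∀ u v, g (u ^^^ v) = g u ^^^ g v)
    (h : ∀ i < 112, f (2 ^ i) = g (2 ^ i)) : ∀ n ≤ 112, ∀ v < 2 ^ n, f v = g v
  | 0, _, v, hv => by
    rw [pow_zero, Nat.lt_one_iff] at hv
    subst hv
    have h1 := hf 0 0
    have h2 := hg 0 0
    simp only [Nat.xor_self] at h1 h2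
    rw [h1, h2]
  | n + 1, hn, v, hv => by
    by_cases hb : v < 2 ^ n
    · exact agree_lt hf hg h n (by omega) v hb
    · have hlt : v - 2 ^ n < 2 ^ n := by rw [pow_succ] at hv; omega
      have e : v = 2 ^ n ^^^ (v - 2 ^ n) := by
        have h1 : 2 ^ n + (v - 2 ^ n) = v := by omega
        have h2 : 2 ^ n + (v - 2 ^ n) = 2 ^ n ||| (v - 2 ^ n) := by
          simpa using Nat.two_pow_add_eq_or_of_lt hlt 1
        apply Nat.eq_of_testBit_eq
        intro i
        rw [Nat.testBit_xor, show v.testBit i = (2 ^ n ||| (v - 2 ^ n)).testBit i by rw [← h2, h1],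
          Nat.testBit_or, Nat.testBit_two_pow]
        by_cases hi : n = i
        · subst hi
          simp [Nat.testBit_lt_two_pow hlt]
        · simp [hi]
      rw [e, hf, hg, h n (by omega), agree_lt hf hg h n (by omega) _ hlt]

/-- the element acts as the list of tables -/
def Has (g : Cfsg.Spor.J4) (L : List (ATree ℕ)) : Prop := ∀ v : Vec112, (rep g v).1 = runT L v.1

theorem has_one : Has 1 [] := fun v => by rw [map_one]; rfl

theorem Has.mul {g h : Cfsg.Spor.J4} {L M : List (ATree ℕ)} (hg : Has g L) (hh : Has h M) : Has (g * h) (L ++ M) := by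
  intro v
  rw [map_mul, Equiv.Perm.mul_apply, hg, hh, runT_append]

theorem Has.congr {g : Cfsg.Spor.J4} {L M : List (ATree ℕ)} (hg : Has g L) (h : sameT L M = true) : Has g M := by
  simp only [sameT, List.all_eq_true, List.mem_range] at h
  intro v
  rw [hg, agree_lt (runT_xor L) (runT_xor M) (fun i hi => Nat.eq_of_beq_eq_true (h i hi)) 112 le_rfl v.1 v.2]

theorem Has.eq {g h : Cfsg.Spor.J4} {L M : List (ATree ℕ)} (hg : Has g L) (hh : Has h M)
    (e : sameT L M = true) : g = h :=
  rep_injective (Equiv.ext fun v => Subtype.ext (by rw [hg.congr e v, hh v]))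

theorem Has.ne {g h : Cfsg.Spor.J4} {L M : List (ATree ℕ)} (hg : Has g L) (hh : Has h M)
    (e : sameT L M = false) : g ≠ h := by
  intro hgh
  subst hgh
  have : sameT L M = true := by
    simp only [sameT, List.all_eq_true, List.mem_range]
    intro i hi
    have h1 := hg ⟨2 ^ i, Nat.pow_lt_pow_right (by norm_num) hi⟩
    have h2 := hh ⟨2 ^ i, Nat.pow_lt_pow_right (by norm_num) hi⟩
    rw [← h1, ← h2]
    exact Nat.beq_refl _
  exact Bool.noConfusion (e.symm.trans this)

theorem has_word {w : List ℕ} {T : ATree ℕ} (hw : (w.all fun x => Nat.blt x 4) = true)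
    (h : sameW w.reverse T = true) : Has (evW jev w) [T] := by
  simp only [List.all_eq_true, Nat.blt_eq] at hw
  simp only [sameW, List.all_eq_true, List.mem_range] at h
  intro v
  rw [rep_evW, apply_word w hw]
  exact agree_lt (runW_xor _) (runT_xor _) (fun i hi => Nat.eq_of_beq_eq_true (h i hi)) 112 le_rfl v.1 v.2

/-- the translation -/
noncomputable def elU : Cfsg.Spor.J4 := evW jev uWord
/-- the multiplication -/
noncomputable def elH : Cfsg.Spor.J4 := evW jev hWord
/-- the inversion -/
noncomputable def elW : Cfsg.Spor.J4 := evW jev wWord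

/-- the table of a power of the translation -/
def uT (k : ℕ) : ATree ℕ := uTabs.getD k (.leaf 0)
/-- the table of a power of the multiplication -/
def hT (k : ℕ) : ATree ℕ := hTabs.getD k (.leaf 0)

theorem has_U : Has elU [uT 1] := has_word (by decide +kernel) (by decide +kernel)
theorem has_H : Has elH [hT 1] := has_word (by decide +kernel) (by decide +kernel)
theorem has_W : Has elW [wT] := has_word (by decide +kernel) (by decide +kernel)

theorem u_step : ∀ k < 22, sameT [uT k, uT 1] [uT (k + 1)] = true := by decide +kernel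
theorem u_zero : sameT [] [uT 0] = true := by decide +kernel
theorem h_step : ∀ k < 21, sameT [hT k, hT 1] [hT (k + 1)] = true := by decide +kernel
theorem h_zero : sameT [] [hT 0] = true := by decide +kernel

theorem has_U_pow : ∀ k < 23, Has (elU ^ k) [uT k]
  | 0, _ => by rw [pow_zero]; exact has_one.congr u_zero
  | k + 1, hk => by
    rw [pow_succ]
    exact ((has_U_pow k (by omega)).mul has_U).congr (u_step k (by omega))

theorem has_H_pow : ∀ k < 22, Has (elH ^ k) [hT k]
  | 0, _ => by rw [pow_zero]; exact has_one.congr h_zero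
  | k + 1, hk => by
    rw [pow_succ]
    exact ((has_H_pow k (by omega)).mul has_H).congr (h_step k (by omega))

/-- inverses of the residues -/
def invTab : List ℕ :=
  [0, 1, 12, 8, 6, 14, 4, 10, 3, 18, 7, 21, 2, 16, 5, 20, 13, 19, 9, 17, 15, 11, 22]

theorem invTab_mul : ∀ x : F23, x ≠ 0 → x * (invTab.getD x.val 0 : F23) = 1 := by decide +kernel

theorem invTab_lt : ∀ x : F23, invTab.getD x.val 0 < 23 := by decide +kernel

theorem val_inv (x : F23) (hx : x ≠ 0) : (x⁻¹).val = invTab.getD x.val 0 := by
  rw [inv_eq_of_mul_eq_one_right (invTab_mul x hx), ZMod.val_natCast, Nat.mod_eq_of_lt (invTab_lt x)]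

theorem w_rule : ∀ x : F23, x ≠ 0 →
    sameT [wT, uT x.val, wT]
      [uT (invTab.getD x.val 0), wT, hT (lg (-(x * x))), uT (invTab.getD x.val 0)] = true := by decide +kernel

theorem pglData : PglData elU elH elW where
  U_pow := by
    rw [pow_succ]
    exact ((has_U_pow 22 (by norm_num)).mul has_U).eq has_one (by decide +kernel)
  H_pow := by
    rw [pow_succ]
    exact ((has_H_pow 21 (by norm_num)).mul has_H).eq has_one (by decide +kernel)
  H_conj := by
    rw [mul_inv_eq_iff_eq_mul]
    exact (has_H.mul has_U).eq ((has_U_pow 5 (by norm_num)).mul has_H) (by decide +kernel)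
  W_sq := (has_W.mul has_W).eq has_one (by decide +kernel)
  W_H := eq_inv_of_mul_eq_one_right
    ((has_H.mul ((has_W.mul has_H).mul has_W)).eq has_one (by decide +kernel))
  W_U x hx := by
    rw [val_inv x hx]
    exact ((has_W.mul (has_U_pow x.val (ZMod.val_lt x))).mul has_W).eq
      ((((has_U_pow _ (invTab_lt x)).mul has_W).mul (has_H_pow _ (lg_lt _))).mul (has_U_pow _ (invTab_lt x)))
      (w_rule x hx)
  U_ne := has_U.ne has_one (by decide +kernel)
  H_two := (has_H_pow 2 (by norm_num)).ne has_one (by decide +kernel)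
  H_eleven := (has_H_pow 11 (by norm_num)).ne has_one (by decide +kernel)
  W_move := by
    refine ⟨((has_W.mul has_U).mul has_W).ne has_U (by decide +kernel), fun e => ?_⟩
    exact (has_U.mul ((has_W.mul has_U).mul has_W)).ne has_one (by decide +kernel) (by rw [e, mul_inv_cancel])

/-- The presented fourth Janko group, and every group isomorphic to it, contains `PGL₂(23)`. -/
theorem exists_pgl {G : Type*} [Group G] (e : G ≃* Cfsg.Spor.J4) :
    ∃ K : Subgroup G, Nonempty (↥K ≃* GL (Fin 2) (ZMod 23) ⧸ Subgroup.center (GL (Fin 2) (ZMod 23))) :=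
  let f : GL (Fin 2) (ZMod 23) →* G := e.symm.toMonoidHom.comp pglData.hom
  have hker : f.ker = Subgroup.center (GL (Fin 2) (ZMod 23)) := by
    rw [← pglData.ker_hom]
    ext M
    simp [f, MonoidHom.mem_ker]
  ⟨f.range, ⟨((QuotientGroup.quotientKerEquivRange f).symm).trans (QuotientGroup.quotientMulEquivOfEq hker)⟩⟩

end CfsgLib.J4Type.Sym.LinTwentyThree
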