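import Cfsg.Agent.Lib.J4Type.Sym.SwapData
import Cfsg.Agent.Lib.J4Type.Basis
import Cfsg.Agent.Lib.J4Type.StabWords

/-!
Permutations acting on the coordinates, and the conjugation by `g` of the elements of the complement in the
stabiliser of `z`.
-/
set_option autoImplicit false
set_option maxRecDepth 20000
set_option linter.unusedSectionVars false

namespace CfsgLib.J4Type.Sym

open Cfsg
open CfsgLib.J4DCE (pk pget pmul pid tImg pmask okPerm exists_of_okPerm pmul_coe pid_coe imgF_lt pget_pk pget_enc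
  imgF_lt32 imgF_mul pk_injective)

theorem labLt (i j : ℕ) : lab i j < 2048 := by
  unfold lab
  rcases Nat.lt_or_ge i labRows.length with hi | hi
  · rw [List.getD_eq_getElem _ _ hi]
    rcases Nat.lt_or_ge j labRows[i].length with hj | hj
    · rw [List.getD_eq_getElem _ _ hj]
      have := List.all_eq_true.1 (List.all_eq_true.1 labLt_check _ (List.getElem_mem hi)) _ (List.getElem_mem hj)
      exact Nat.blt_eq.mp this
    · rw [List.getD_eq_default _ _ hj]; norm_num
  · rw [List.getD_eq_default _ _ hi]; simp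

theorem xor_lt_2048' {a b : ℕ} (ha : a < 2048) (hb : b < 2048) : Nat.xor a b < 2048 :=
  Nat.xor_lt_two_pow (n := 11) ha hb

theorem sumLab_lt (p : ℕ) : ∀ d, sumLab p d < 2048
  | [] => by norm_num [sumLab]
  | e :: d => xor_lt_2048' (labLt _ _) (sumLab_lt p d)

theorem app_colsOf_lt (p v : ℕ) : app (colsOf p) v < 2048 :=
  app_lt (k := 11) _ _ fun c hc => by
    obtain ⟨d, -, rfl⟩ := List.mem_map.1 hc
    exact sumLab_lt p d

theorem pget_one {i : ℕ} (hi : i < 24) : pget (pk (1 : M24).1) i = i := by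
  rw [pget_pk _ hi]
  exact CfsgLib.J4DCE.imgF_one hi

theorem pgetLt (σ : M24) {i : ℕ} (hi : i < 24) : pget (pk σ.1) i < 24 := by
  rw [pget_pk _ hi]; exact imgF_lt _ _

theorem pgetMul (σ τ : M24) {i : ℕ} (hi : i < 24) :
    pget (pk (σ * τ : M24).1) i = pget (pk σ.1) (pget (pk τ.1) i) := by
  rw [pget_pk _ hi, pget_pk _ hi, pget_pk _ (imgF_lt _ _), imgF_mul _ _ hi]
  rfl

theorem pk_coe_injective {σ τ : M24} (h : pk σ.1 = pk τ.1) : σ = τ := Subtype.ext (pk_injective h)

universe u

variable {G : Type u} [Group G] {z : G} {A : Subgroup G}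

namespace Coords

variable (C : Coords z A)

theorem enc_nought : C.enc 0 = 1 :=
  left_eq_mul.1 (C.enc_xor 0 0 (by norm_num) (by norm_num))

theorem enc_square {v : ℕ} (hv : v < 2048) : C.enc v * C.enc v = 1 := by
  rw [← C.enc_xor v v hv hv, show Nat.xor v v = 0 from Nat.xor_self v, C.enc_nought]

theorem enc_inv {v : ℕ} (hv : v < 2048) : (C.enc v)⁻¹ = C.enc v := inv_eq_of_mul_eq_one_right (C.enc_square hv)

theorem enc_commute {v w : ℕ} (hv : v < 2048) (hw : w < 2048) : C.enc v * C.enc w = C.enc w * C.enc v := by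
  rw [← C.enc_xor v w hv hw, ← C.enc_xor w v hw hv, show Nat.xor v w = Nat.xor w v from Nat.xor_comm v w]

include C

theorem mem_sq {a : G} (ha : a ∈ A) : a * a = 1 := by
  obtain ⟨v, hv, rfl⟩ := C.enc_surj a ha; exact C.enc_square hv

theorem mem_comm {a b : G} (ha : a ∈ A) (hb : b ∈ A) : a * b = b * a := by
  obtain ⟨v, hv, rfl⟩ := C.enc_surj a ha
  obtain ⟨w, hw, rfl⟩ := C.enc_surj b hb
  exact C.enc_commute hv hw

theorem z_mem : z ∈ A := C.enc_z ▸ C.enc_mem 64 (by norm_num)

theorem z_square : z * z = 1 := C.mem_sq C.z_mem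

theorem z_ne : z ≠ 1 := fun h => by
  have := C.enc_inj 64 0 (by norm_num) (by norm_num) (by rw [C.enc_z, C.enc_nought, h])
  omega

theorem actsAs_mem {a : G} (ha : a ∈ A) : ActsAs C a 1 := fun i j hi hj => by
  rw [pget_one hi, pget_one hj, C.mem_comm ha (C.enc_mem _ (labLt i j)), mul_inv_cancel_right]

theorem actsAs_one : ActsAs C (1 : G) 1 := C.actsAs_mem A.one_mem

end Coords

variable {C : Coords z A}

theorem ActsAs.mul {n m : G} {σ τ : M24} (hn : ActsAs C n σ) (hm : ActsAs C m τ) :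
    ActsAs C (n * m) (σ * τ) := fun i j hi hj => by
  rw [pgetMul σ τ hi, pgetMul σ τ hj, ← hn _ _ (pgetLt τ hi) (pgetLt τ hj), ← hm i j hi hj]
  group

theorem ActsAs.inv {n : G} {σ : M24} (hn : ActsAs C n σ) : ActsAs C n⁻¹ σ⁻¹ := fun i j hi hj => by
  have h := hn _ _ (pgetLt σ⁻¹ hi) (pgetLt σ⁻¹ hj)
  rw [← pgetMul, ← pgetMul, mul_inv_cancel, pget_one hi, pget_one hj] at h
  · rw [← h]; group
  all_goals assumption

theorem ActsAs.of_eq {n : G} {σ τ : M24} (hn : ActsAs C n σ) (h : σ = τ) : ActsAs C n τ := h ▸ hn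

theorem ActsAs.app_conj {n : G} {σ : M24} (hn : ActsAs C n σ) :
    ∀ v, v < 2048 → n * C.enc v * n⁻¹ = C.enc (app (colsOf (pk σ.1)) v) := by
  have hsum : ∀ d : List (ℕ × ℕ), (∀ e ∈ d, e.1 < 24 ∧ e.2 < 24) →
      n * C.enc (sumLab (pk (1 : M24).1) d) * n⁻¹ = C.enc (sumLab (pk σ.1) d) := by
    intro d hd
    induction d with
    | nil => simp [sumLab, C.enc_nought]
    | cons e d ih =>
      show n * C.enc (Nat.xor _ (sumLab _ d)) * n⁻¹ = C.enc (Nat.xor _ (sumLab _ d))
      rw [C.enc_xor _ _ (labLt _ _) (sumLab_lt _ d), C.enc_xor _ _ (labLt _ _) (sumLab_lt _ d),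
        ← hn e.1 e.2 (hd e List.mem_cons_self).1 (hd e List.mem_cons_self).2,
        ← ih fun e' he' => hd e' (List.mem_cons_of_mem _ he'),
        pget_one (hd e List.mem_cons_self).1, pget_one (hd e List.mem_cons_self).2]
      group
  have hunit : ∀ i, i < 11 → n * C.enc (2 ^ i) * n⁻¹ = C.enc (app (colsOf (pk σ.1)) (2 ^ i)) := by
    intro i hi
    have hd := dec_check
    simp only [List.all_eq_true, Bool.and_eq_true, Nat.blt_eq, List.mem_range] at hd
    have hlen : i < decUnits.length := by exact hi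
    have hget : (colsOf (pk σ.1)).getD i 0 = sumLab (pk σ.1) (decUnits.getD i []) := by
      rw [colsOf, List.getD_eq_getElem _ _ (by rwa [List.length_map]), List.getD_eq_getElem _ _ hlen,
        List.getElem_map]
    have h1 := Nat.eq_of_beq_eq_true (hd.2 i hi)
    rw [app_two_pow, hget]
    conv_lhs => rw [← h1, pid_coe]
    exact hsum _ (hd.1 _ (by rw [List.getD_eq_getElem _ _ hlen]; exact List.getElem_mem _))
  suffices ∀ k, k ≤ 11 → ∀ v, v < 2 ^ k → n * C.enc v * n⁻¹ = C.enc (app (colsOf (pk σ.1)) v) from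
    fun v hv => this 11 le_rfl v hv
  intro k
  induction k with
  | zero =>
    intro _ v hv
    obtain rfl : v = 0 := by simpa using hv
    rw [app_zero, C.enc_nought, mul_one, mul_inv_cancel]
  | succ k ih =>
    intro hk v hv
    have hkp : 2 ^ k < 2048 := Nat.pow_lt_pow_right (by norm_num) (show k < 11 by omega)
    rcases Nat.lt_or_ge v (2 ^ k) with h | h
    · exact ih (by omega) v h
    · have hw : v - 2 ^ k < 2 ^ k := by rw [pow_succ] at hv; omega
      have e : v = Nat.xor (2 ^ k) (v - 2 ^ k) := by rw [pow_xor_eq hw]; omega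
      rw [e, C.enc_xor _ _ hkp (by omega), app_xor, C.enc_xor _ _ (app_colsOf_lt _ _) (app_colsOf_lt _ _),
        ← ih (by omega) _ hw, ← hunit k (by omega)]
      group

theorem ActsAs.unique {n : G} {σ τ : M24} (h : ActsAs C n σ) (h' : ActsAs C n τ) : σ = τ := by
  have hπ : ActsAs C (n⁻¹ * n) (τ⁻¹ * σ) := h'.inv.mul h
  rw [inv_mul_cancel] at hπ
  suffices τ⁻¹ * σ = 1 from (inv_mul_eq_one.1 this).symm
  set π := τ⁻¹ * σ
  have key : ∀ i j, i < 24 → j < 24 → lab (pget (pk π.1) i) (pget (pk π.1) j) = lab i j := fun i j hi hj =>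
    C.enc_inj _ _ (labLt _ _) (labLt _ _) (by rw [← hπ i j hi hj]; group)
  have hc := lab_point_check
  simp only [List.all_eq_true, List.mem_range, Bool.or_eq_true, Bool.and_eq_true, Bool.not_eq_true',
    Nat.beq_eq] at hc
  have hfix : ∀ i, i < 24 → pget (pk π.1) i = i := fun i hi => by
    have e1 := hc.1 i hi _ (pgetLt π hi) _ (pgetLt π (Nat.mod_lt (i + 1) (show 0 < 24 by norm_num)))
    have e2 := hc.2 i hi _ (pgetLt π hi) _ (pgetLt π (Nat.mod_lt (i + 2) (show 0 < 24 by norm_num)))
    rw [key i _ hi (Nat.mod_lt _ (by norm_num))] at e1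
    rw [key i _ hi (Nat.mod_lt _ (by norm_num))] at e2
    simp only [Nat.beq_refl, Bool.true_eq_false, false_or] at e1 e2
    omega
  refine pk_coe_injective (J4DCE.enc_congr fun i hi => ?_)
  have := hfix i hi
  rw [pget_pk _ hi] at this
  rw [this]
  exact (CfsgLib.J4DCE.imgF_one hi).symm

theorem mem_of_actsAs {n m : G} {σ : M24} (h : ActsAs C n σ) (h' : ActsAs C m σ) : m⁻¹ * n ∈ A := by
  have hh : ActsAs C (m⁻¹ * n) 1 := (h'.inv.mul h).of_eq (inv_mul_cancel σ)
  refine C.self_cent (Subgroup.mem_centralizer_iff.2 fun a ha => ?_)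
  obtain ⟨v, hv, rfl⟩ := C.enc_surj a ha
  have e := hh.app_conj v hv
  have e1 : app (colsOf (pk (1 : M24).1)) v = v := by
    refine C.enc_inj _ _ (app_colsOf_lt _ _) hv ?_
    rw [← C.actsAs_one.app_conj v hv]
    group
  rw [e1] at e
  calc C.enc v * (m⁻¹ * n) = (m⁻¹ * n) * C.enc v * (m⁻¹ * n)⁻¹ * (m⁻¹ * n) := by rw [e]
    _ = m⁻¹ * n * C.enc v := by group

/-- A complement acting as the permutations, containing the three lifts up to `z`. -/
structure EmbOK (E : Env z A) (emb : M24 →* G) : Prop where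
  norm : ∀ σ : M24, emb σ ∈ Subgroup.normalizer (A : Set G)
  acts : ∀ σ : M24, ActsAs E.toCoords (emb σ) σ
  hP : ∀ σ : M24, pk σ.1 = piP → emb σ = E.p
  hA : ∀ σ : M24, pk σ.1 = piA → emb σ = E.a ∨ emb σ = z * E.a
  hC : ∀ σ : M24, pk σ.1 = piC → emb σ = E.c ∨ emb σ = z * E.c

/-- the first lift as a permutation -/
noncomputable def pA : M24 := (exists_of_okPerm okPiA).choose
/-- the second lift as a permutation -/
noncomputable def pC : M24 := (exists_of_okPerm okPiC).choose
/-- the lift of `t` as a permutation -/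
noncomputable def pP : M24 := (exists_of_okPerm okPiP).choose
/-- the first lift moved by `g` -/
noncomputable def fA : M24 := (exists_of_okPerm exists_phiA).choose
/-- the second lift moved by `g` -/
noncomputable def fC : M24 := (exists_of_okPerm exists_phiC).choose

theorem pk_pA : pk pA.1 = piA := (exists_of_okPerm okPiA).choose_spec.1
theorem pk_pC : pk pC.1 = piC := (exists_of_okPerm okPiC).choose_spec.1
theorem pk_pP : pk pP.1 = piP := (exists_of_okPerm okPiP).choose_spec.1
theorem pk_fA : pk fA.1 = phiA := (exists_of_okPerm exists_phiA).choose_spec.1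
theorem pk_fC : pk fC.1 = phiC := (exists_of_okPerm exists_phiC).choose_spec.1

/-- the permutation of a letter -/
noncomputable def lw : ℕ → M24
  | 0 => pA
  | 1 => pC
  | _ => pP

/-- the permutation of a letter moved by `g` -/
noncomputable def lw' : ℕ → M24
  | 0 => fA
  | 1 => fC
  | _ => pP

/-- the permutation of a word -/
noncomputable def evP (w : List ℕ) : M24 := (w.map lw).prod

/-- the permutation of a word moved by `g` -/
noncomputable def evP' (w : List ℕ) : M24 := (w.map lw').prod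

theorem pk_lw : ∀ l, pk (lw l).1 = ltC l
  | 0 => pk_pA
  | 1 => pk_pC
  | _ + 2 => pk_pP

theorem pk_lw' : ∀ l, pk (lw' l).1 = ltC' l
  | 0 => pk_fA
  | 1 => pk_fC
  | _ + 2 => pk_pP

theorem pk_evP : ∀ w, pk (evP w).1 = evC w := by
  intro w
  induction w with
  | nil =>
    rw [evP, evC, List.map_nil, List.prod_nil, List.foldr_nil]
    exact pid_coe.symm
  | cons l w ih =>
    rw [evP] at ih
    rw [evP, List.map_cons, List.prod_cons, evC, List.foldr_cons, ← pmul_coe, pk_lw, ih, evC]

theorem pk_evP' : ∀ w, pk (evP' w).1 = evC' w := by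
  intro w
  induction w with
  | nil =>
    rw [evP', evC', List.map_nil, List.prod_nil, List.foldr_nil]
    exact pid_coe.symm
  | cons l w ih =>
    rw [evP'] at ih
    rw [evP', List.map_cons, List.prod_cons, evC', List.foldr_cons, ← pmul_coe, pk_lw', ih, evC']

theorem eq_of_pk_mul {a b c d : M24} (h : Nat.beq (pmul (pk a.1) (pk b.1)) (pmul (pk c.1) (pk d.1)) = true) :
    a * b = c * d := by
  refine pk_coe_injective ?_
  rw [← pmul_coe, ← pmul_coe]
  exact Nat.eq_of_beq_eq_true h

end CfsgLib.J4Type.Sym
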