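import Cfsg.Agent.Lib.J4Type.Sym.MakeBasics

/-!
The subgroup `g A g⁻¹`, the action on it of the complement, and the translations as elements of it.
-/
set_option autoImplicit false
set_option maxRecDepth 20000
set_option linter.unusedSectionVars false

namespace CfsgLib.J4Type.Sym

open Cfsg
open CfsgLib.J4DCE (pk pget pmul pid tImg pmask okPerm exists_of_okPerm pmul_coe pid_coe pk_one)

attribute [local irreducible] pk pmul pid colsOf

universe u

variable {G : Type u} [Group G] {z : G} {A : Subgroup G}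

theorem xor_split_check : ((List.range 2048).all fun v =>
    Nat.beq (Nat.xor (v % 128) (128 * (v / 128))) v) = true := by decide +kernel

theorem colsG_lt : ∀ c ∈ colsG, c < 2 ^ 12 := by decide

theorem colsVP_lt : ∀ c ∈ colsVP, c < 2 ^ 11 := by decide +kernel

theorem qCols_lt_check : ((List.range 128).all fun x => (VCode.qCols (app colsG (x % 64))).all fun c =>
    Nat.blt c 2048) = true := by decide +kernel

theorem app_one_check : Nat.beq (app (colsOf pid) 64) 64 = true := by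
  unfold colsOf
  decide +kernel

theorem conj_z_eq {x : G} (h : x * z = z * x) : x * z * x⁻¹ = z := by rw [h, mul_inv_cancel_right]

namespace Env

variable (E : Env z A)

/-- the conjugated coordinates -/
def tv (v : ℕ) : G := E.g * E.enc v * E.g⁻¹

theorem tv_64 : E.tv 64 = z := by rw [tv, E.enc_z, conj_z_eq E.g_cent]

theorem tv_zero : E.tv 0 = 1 := by rw [tv, E.toCoords.enc_nought, mul_one, mul_inv_cancel]

theorem tv_mul {v w : ℕ} (hv : v < 2048) (hw : w < 2048) : E.tv v * E.tv w = E.tv (Nat.xor v w) := by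
  rw [tv, tv, tv, E.enc_xor v w hv hw]; group

theorem tv_sq {v : ℕ} (hv : v < 2048) : E.tv v * E.tv v = 1 := by
  rw [E.tv_mul hv hv, show Nat.xor v v = 0 from Nat.xor_self v, E.tv_zero]

theorem tv_inv {v : ℕ} (hv : v < 2048) : (E.tv v)⁻¹ = E.tv v := inv_eq_of_mul_eq_one_right (E.tv_sq hv)

theorem tv_comm {v w : ℕ} (hv : v < 2048) (hw : w < 2048) : E.tv v * E.tv w = E.tv w * E.tv v := by
  rw [E.tv_mul hv hw, E.tv_mul hw hv, show Nat.xor v w = Nat.xor w v from Nat.xor_comm v w]

theorem tv_mem_Q {v : ℕ} (hv : v < 128) : E.tv v ∈ E.Q ∧ E.code (E.tv v) = app colsG (v % 64) := by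
  rw [← E.code_low v hv]
  exact E.g_Q _ (E.low_mem v hv)

theorem conj_p_tv {v : ℕ} (hv : v < 2048) : E.p * E.tv v * E.p⁻¹ = E.tv (app colsVP v) := by
  rw [tv, tv, ← E.conj_p v hv]
  calc E.p * (E.g * E.enc v * E.g⁻¹) * E.p⁻¹ = (E.p * E.g) * E.enc v * (E.p * E.g)⁻¹ := by group
    _ = (E.g * E.p) * E.enc v * (E.g * E.p)⁻¹ := by rw [E.g_p]
    _ = E.g * (E.p * E.enc v * E.p⁻¹) * E.g⁻¹ := by group

theorem lt_of_mem_Q {v : ℕ} (hv : v < 2048) (h : E.enc v ∈ E.Q) : v < 128 := by
  by_contra hge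
  have hx := Nat.eq_of_beq_eq_true (List.all_eq_true.1 xor_split_check v (List.mem_range.2 hv))
  set k := v / 128 with hk
  have hk1 : k < 16 ∧ k ≠ 0 := by omega
  have hkQ : E.enc (128 * k) ∈ E.Q := by
    have e : E.enc (128 * k) = (E.enc (v % 128))⁻¹ * E.enc v := by
      rw [eq_inv_mul_iff_mul_eq, ← E.enc_xor _ _ (by omega) (by omega), hx]
    rw [e]
    exact mul_mem (inv_mem (E.low_mem _ (Nat.mod_lt _ (by norm_num)))) h
  have hc := List.all_eq_true.1 low_check k (List.mem_range.2 hk1.1)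
  simp only [Bool.or_eq_true, Nat.beq_eq, List.any_eq_true, List.mem_range, Bool.not_eq_true',
    Bool.or_eq_false_iff] at hc
  obtain ⟨x, hx128, hd0, hd64⟩ := hc.resolve_left hk1.2
  obtain ⟨hyQ, hyc⟩ := E.tv_mem_Q hx128
  set y := E.tv x
  have hlt : app (VCode.qCols (app colsG (x % 64))) (128 * k) < 2048 :=
    app_lt (k := 11) _ _ fun c hc =>
      Nat.blt_eq.mp (List.all_eq_true.1 (List.all_eq_true.1 qCols_lt_check x (List.mem_range.2 hx128)) c hc)
  have hconj : y * E.enc (128 * k) * y⁻¹ = E.enc (app (VCode.qCols (app colsG (x % 64))) (128 * k)) := by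
    rw [E.conj_Q y hyQ _ (by omega), hyc]
  have hcom := E.Q_comm y⁻¹ (inv_mem hyQ) (E.enc (128 * k))⁻¹ (inv_mem hkQ)
  rw [inv_inv, inv_inv, hconj, E.toCoords.enc_inv (by omega : 128 * k < 2048), ← E.enc_xor _ _ hlt (by omega)] at hcom
  have hlt' := xor_lt_2048' hlt (show 128 * k < 2048 by omega)
  rcases hcom with e | e
  · exact absurd (E.enc_inj _ _ hlt' (by norm_num) (e.trans E.toCoords.enc_nought.symm)) (by
      intro h0; rw [h0] at hd0; simp at hd0)
  · exact absurd (E.enc_inj _ _ hlt' (by norm_num) (e.trans E.enc_z.symm)) (by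
      intro h0; rw [h0] at hd64; simp at hd64)

end Env

variable {E : Env z A} {emb : M24 →* G} (H : EmbOK E emb)

include H

namespace EmbOK

theorem emb_injective : Function.Injective emb := fun σ τ h =>
  (H.acts σ).unique (h ▸ H.acts τ)

theorem comm_z {σ : M24} (h : app (colsOf (pk σ.1)) 64 = 64) : emb σ * z = z * emb σ := by
  have e := (H.acts σ).app_conj 64 (by norm_num)
  rw [h] at e
  rw [show z = E.enc 64 from E.enc_z.symm]
  exact mul_inv_eq_iff_eq_mul.1 e

theorem acts_z_mul {n : G} {σ : M24} (h : ActsAs E.toCoords n σ) : ActsAs E.toCoords (z * n) σ :=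
  ((E.toCoords.actsAs_mem E.toCoords.z_mem).mul h).of_eq (one_mul σ)

theorem acts_of_or {x y : G} {σ : M24} (h : ActsAs E.toCoords x σ) (e : y = x ∨ y = z * x) :
    ActsAs E.toCoords y σ := by
  rcases e with rfl | rfl
  · exact h
  · exact acts_z_mul H h

theorem acts_a : ActsAs E.toCoords E.a pA := by
  refine acts_of_or H (H.acts pA) ?_
  rcases H.hA pA pk_pA with h | h
  · exact Or.inl h.symm
  · right
    rw [h, ← mul_assoc, E.toCoords.z_square, one_mul]

theorem acts_c : ActsAs E.toCoords E.c pC := by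
  refine acts_of_or H (H.acts pC) ?_
  rcases H.hC pC pk_pC with h | h
  · exact Or.inl h.symm
  · right
    rw [h, ← mul_assoc, E.toCoords.z_square, one_mul]

theorem acts_p : ActsAs E.toCoords E.p pP := H.hP pP pk_pP ▸ H.acts pP

theorem acts_evW : ∀ w : List Bool, ActsAs E.toCoords (evW E.a E.c w) (evP (ltrs w))
  | [] => E.toCoords.actsAs_one
  | b :: w => by
    have h : ActsAs E.toCoords (if b then E.c else E.a) (lw (if b then 1 else 0)) := by
      cases b
      · exact acts_a H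
      · exact acts_c H
    exact h.mul (acts_evW w)

theorem acts_evK {k : ℕ} {w : List Bool} {x : G}
    (hx : x = E.p ^ k * evW E.a E.c w ∨ x = z * (E.p ^ k * evW E.a E.c w)) :
    ActsAs E.toCoords x (evP (List.replicate (k % 3) 2 ++ ltrs w)) := by
  refine acts_of_or H ?_ hx
  rw [← Nat.mod_add_div k 3, pow_add, pow_mul, E.p_cube, one_pow, mul_one, Nat.mod_add_div]
  have hp : ∀ j : ℕ, ActsAs E.toCoords (E.p ^ j) (evP (List.replicate j 2)) := by
    intro j
    induction j with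
    | zero => rw [pow_zero]; exact E.toCoords.actsAs_one
    | succ j ih => rw [pow_succ']; exact (acts_p H).mul ih
  have := (hp (k % 3)).mul (acts_evW H w)
  simpa [evP] using this

/-- `g⁻¹ (emb σ) g` acts as `σ'`. -/
def Rel (E : Env z A) (emb : M24 →* G) (σ σ' : M24) : Prop :=
  ActsAs E.toCoords (E.g⁻¹ * emb σ * E.g) σ'

theorem acts_sq_one {n : G} {τ : M24} (hn : ActsAs E.toCoords n τ) (h : n = 1 ∨ n = z) : τ = 1 := by
  rcases h with rfl | rfl
  · exact hn.unique E.toCoords.actsAs_one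
  · exact hn.unique (E.toCoords.actsAs_mem E.toCoords.z_mem)

theorem rel_p : Rel E emb pP pP := by
  rw [Rel, H.hP pP pk_pP, mul_assoc, ← E.g_p, inv_mul_cancel_left]
  exact acts_p H

theorem ginv_z : E.g⁻¹ * z * E.g = z := by rw [mul_assoc, ← E.g_cent, inv_mul_cancel_left]

theorem rel_lift {x : G} {w : List Bool} {σ σ' : M24} (hσ : emb σ = x ∨ emb σ = z * x)
    {k : ℕ} (hk : E.g * x * E.g⁻¹ = E.p ^ k * evW E.a E.c w ∨
      E.g * x * E.g⁻¹ = z * (E.p ^ k * evW E.a E.c w))
    (hk0 : k % 3 = 0)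
    (hsw : ∀ j < 3, Nat.beq (pmul (evK j wGG) (pk σ'.1)) (pmul (evK 0 w) (evK j wGG)) = true) :
    Rel E emb σ σ' := by
  obtain ⟨j, hj⟩ := E.g_g
  have hG := acts_evK H hj
  have hn := acts_evK H hk
  rw [hk0] at hn
  set γ := evP (List.replicate (j % 3) 2 ++ ltrs wGG) with hγ
  set τ := evP (List.replicate 0 2 ++ ltrs w) with hτ
  have e : γ * σ' = τ * γ := eq_of_pk_mul (by
    rw [hγ, hτ, pk_evP, pk_evP]
    exact hsw _ (Nat.mod_lt _ (by norm_num)))
  have hx : ActsAs E.toCoords (E.g⁻¹ * x * E.g) σ' := by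
    have := ((hG.inv.mul hn).mul hG).of_eq (show γ⁻¹ * τ * γ = σ' by rw [mul_assoc, ← e, inv_mul_cancel_left])
    rwa [show (E.g * E.g)⁻¹ * (E.g * x * E.g⁻¹) * (E.g * E.g) = E.g⁻¹ * x * E.g by group] at this
  rcases hσ with h | h
  · rw [Rel, h]; exact hx
  · rw [Rel, h, show E.g⁻¹ * (z * x) * E.g = (E.g⁻¹ * z * E.g) * (E.g⁻¹ * x * E.g) by group, ginv_z H]
    exact acts_z_mul H hx

theorem rel_A : Rel E emb pA fA := by
  obtain ⟨k, hk⟩ := E.g_a
  have hn := acts_evK H hk
  have h0 : k % 3 = 0 := by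
    by_contra h
    have hsq := acts_sq_one H (hn.mul hn) (by
      rw [show E.g * E.a * E.g⁻¹ * (E.g * E.a * E.g⁻¹) = E.g * (E.a * E.a) * E.g⁻¹ by group]
      rcases E.rel_a with e | e <;> rw [e]
      · left; group
      · right; exact conj_z_eq E.g_cent)
    have hc := List.all_eq_true.1 k_zero_check (k % 3) (by simp; omega)
    have h2 : pmul (evK (k % 3) wGA) (evK (k % 3) wGA) = pid := by
      rw [evK, ← pk_evP, pmul_coe, hsq]
      exact pid_coe.symm
    rw [Bool.and_eq_true, h2, Nat.beq_refl] at hc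
    exact Bool.false_ne_true hc.1
  refine rel_lift H (H.hA pA pk_pA) hk h0 fun j hj => ?_
  have hs := List.all_eq_true.1 swap_letters j (by simp; omega)
  rw [Bool.and_eq_true] at hs
  rw [pk_fA]
  exact hs.1

theorem rel_C : Rel E emb pC fC := by
  obtain ⟨k, hk⟩ := E.g_c
  have hn := acts_evK H hk
  have h0 : k % 3 = 0 := by
    by_contra h
    have hsq := acts_sq_one H ((hn.mul hn).mul (hn.mul hn)) (by
      rw [show E.g * E.c * E.g⁻¹ * (E.g * E.c * E.g⁻¹) * (E.g * E.c * E.g⁻¹ * (E.g * E.c * E.g⁻¹)) =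
        E.g * (E.c ^ 4) * E.g⁻¹ by simp only [pow_succ, pow_zero]; group]
      rcases E.rel_c with e | e <;> rw [e]
      · left; group
      · right; exact conj_z_eq E.g_cent)
    have hc := List.all_eq_true.1 k_zero_check (k % 3) (by simp; omega)
    have h2 : pmul (pmul (evK (k % 3) wGC) (evK (k % 3) wGC)) (pmul (evK (k % 3) wGC) (evK (k % 3) wGC)) = pid := by
      rw [evK, ← pk_evP, pmul_coe, pmul_coe, hsq]
      exact pid_coe.symm
    rw [Bool.and_eq_true, h2, Nat.beq_refl] at hc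
    exact Bool.false_ne_true hc.2
  refine rel_lift H (H.hC pC pk_pC) hk h0 fun j hj => ?_
  have hs := List.all_eq_true.1 swap_letters j (by simp; omega)
  rw [Bool.and_eq_true] at hs
  rw [pk_fC]
  exact hs.2

theorem rel_word : ∀ w : List ℕ, Rel E emb (evP w) (evP' w)
  | [] => by
    show ActsAs E.toCoords (E.g⁻¹ * emb 1 * E.g) 1
    rw [map_one, mul_one, inv_mul_cancel]
    exact E.toCoords.actsAs_one
  | l :: w => by
    have hl : Rel E emb (lw l) (lw' l) := by
      rcases l with _ | _ | l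
      · exact rel_A H
      · exact rel_C H
      · exact rel_p H
    show ActsAs E.toCoords (E.g⁻¹ * emb (lw l * evP w) * E.g) (lw' l * evP' w)
    rw [map_mul, show E.g⁻¹ * (emb (lw l) * emb (evP w)) * E.g =
      (E.g⁻¹ * emb (lw l) * E.g) * (E.g⁻¹ * emb (evP w) * E.g) by group]
    exact hl.mul (rel_word w)

theorem conj_tv (w : List ℕ) {v : ℕ} (hv : v < 2048) :
    emb (evP w) * E.tv v * (emb (evP w))⁻¹ = E.tv (app (colsOf (evC' w)) v) := by
  have h := (rel_word H w).app_conj v hv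
  rw [pk_evP'] at h
  rw [Env.tv, Env.tv, ← h]
  group

theorem trans_exact {x : ℕ} {p e : ℕ} {ws : List (List ℕ)} (hx : x < 128) (hdat : transData x p e ws = true)
    (he : okPerm e e = true) (σ : M24) (hσ : pk σ.1 = p) : emb σ = E.tv x := by
  simp only [transData, Bool.and_eq_true, List.all_eq_true, Nat.beq_eq, List.mem_range] at hdat
  obtain ⟨⟨⟨⟨⟨⟨⟨htr, hsq⟩, hpre⟩, hfix⟩, hsum⟩, hws⟩, hlow⟩, htri⟩ := hdat
  obtain ⟨hnQ, hncode⟩ := E.tv_mem_Q hx
  have hn : ActsAs E.toCoords (E.tv x) σ := by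
    intro i j hi hj
    simp only [transOK, List.all_eq_true, List.mem_range, Nat.beq_eq] at htr
    rw [E.conj_Q _ hnQ _ (labLt i j), hncode, htr i hi j hj, hσ]
  have hdA : (E.tv x)⁻¹ * emb σ ∈ A := mem_of_actsAs (H.acts σ) hn
  obtain ⟨v, hv, hvd⟩ := E.enc_surj _ hdA
  have hσv : emb σ = E.tv x * E.enc v := by rw [hvd, mul_inv_cancel_left]
  obtain ⟨η, hη, -⟩ := exists_of_okPerm he
  have hσσ : σ * σ = 1 := pk_coe_injective (by rw [← pmul_coe, hσ, hsq, pid_coe])
  have hσQ : emb σ ∈ E.Q := by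
    have heq : σ * pP * η = η * pP := pk_coe_injective (by
      rw [← pmul_coe, ← pmul_coe, ← pmul_coe, hσ, pk_pP, hη]; exact hpre)
    have e1 : emb σ = emb η * E.p * (emb η)⁻¹ * E.p⁻¹ := by
      rw [← H.hP pP pk_pP, ← map_mul, ← heq, map_mul, map_mul, mul_inv_cancel_right, mul_inv_cancel_right]
    have hz : emb η * z = z * emb η := comm_z H (by rw [hη]; exact hfix)
    rw [e1]
    refine E.p_comm_Q _ hz ?_
    rw [← e1, ← map_mul, hσσ, map_one]
  have hv128 : v < 128 := E.lt_of_mem_Q hv (by rw [hvd]; exact mul_mem (inv_mem hnQ) hσQ)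
  have hcases : v = 0 ∨ v = 64 := by
    have h := hlow v hv128
    simp only [Bool.or_eq_true, Nat.beq_eq, List.any_eq_true, Bool.not_eq_true'] at h
    rcases h with (h | h) | ⟨w, hw, hne⟩
    · exact Or.inl h
    · exact Or.inr h
    · exfalso
      obtain ⟨hw1, hw2⟩ := hws w hw
      have hcomm : evP w * σ = σ * evP w := pk_coe_injective (by
        rw [← pmul_coe, ← pmul_coe, pk_evP, hσ]; exact hw2)
      have hν := congrArg emb hcomm
      rw [map_mul, map_mul] at hν
      have htvc := conj_tv H w (v := x) (by omega)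
      rw [hw1] at htvc
      have hev := (H.acts (evP w)).app_conj v hv
      rw [pk_evP] at hev
      have e : E.enc (app (colsOf (evC w)) v) = E.enc v := by
        rw [← hev, eq_inv_mul_iff_mul_eq.2 hσv.symm]
        calc emb (evP w) * ((E.tv x)⁻¹ * emb σ) * (emb (evP w))⁻¹
            = (emb (evP w) * E.tv x * (emb (evP w))⁻¹)⁻¹ * (emb (evP w) * emb σ) * (emb (evP w))⁻¹ := by group
          _ = (E.tv x)⁻¹ * emb σ := by rw [htvc, hν]; group
      have heq' := E.enc_inj _ _ (app_colsOf_lt _ _) hv e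
      rw [heq', Nat.beq_refl] at hne
      exact Bool.noConfusion hne
  have hd2 : E.enc v * E.enc v = 1 := E.toCoords.enc_square hv
  have hdz : ∀ y : G, y * z = z * y → y * E.enc v = E.enc v * y := by
    intro y hy
    rcases hcases with rfl | rfl
    · rw [E.toCoords.enc_nought, mul_one, one_mul]
    · rw [E.enc_z]; exact hy
  have htri' : σ * ((pP * (σ * (pP * pP))) * (pP * (pP * (σ * pP)))) = 1 := pk_coe_injective (by
    simp only [← pmul_coe, hσ, pk_pP]
    exact htri.trans pid_coe)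
  have h1 := congrArg emb htri'
  simp only [map_mul, map_one, H.hP pP pk_pP] at h1
  have hP3 : E.p * E.p = E.p⁻¹ := by
    rw [eq_comm, inv_eq_iff_mul_eq_one, ← mul_assoc, ← pow_three', E.p_cube]
  have hnz : E.tv x * z = z * E.tv x := E.Q_cent _ hnQ
  have hpz : E.p * z = z * E.p := E.p_cent _ rfl
  set x1 := app colsVP x with hx1d
  set x2 := app colsVP x1 with hx2d
  have hx1 : x1 < 2048 := app_lt (k := 11) _ _ colsVP_lt
  have hx2 : x2 < 2048 := app_lt (k := 11) _ _ colsVP_lt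
  have h3 : E.p * emb σ * E.p⁻¹ = E.tv x1 * E.enc v := by
    calc E.p * emb σ * E.p⁻¹ = (E.p * E.tv x * E.p⁻¹) * (E.p * E.enc v * E.p⁻¹) := by rw [hσv]; group
      _ = _ := by rw [E.conj_p_tv (by omega), hdz _ hpz, mul_inv_cancel_right]
  have h4 : E.p * (E.p * emb σ * E.p⁻¹) * E.p⁻¹ = E.tv x2 * E.enc v := by
    calc E.p * (E.p * emb σ * E.p⁻¹) * E.p⁻¹ = (E.p * E.tv x1 * E.p⁻¹) * (E.p * E.enc v * E.p⁻¹) := by
          rw [h3]; group
      _ = _ := by rw [E.conj_p_tv hx1, hdz _ hpz, mul_inv_cancel_right]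
  have h5 : emb σ * ((E.p * emb σ * E.p⁻¹) * (E.p * (E.p * emb σ * E.p⁻¹) * E.p⁻¹)) = 1 := by
    have hpp : E.p⁻¹ * E.p⁻¹ = E.p := by rw [← mul_inv_rev, hP3, inv_inv]
    rw [show emb σ * ((E.p * emb σ * E.p⁻¹) * (E.p * (E.p * emb σ * E.p⁻¹) * E.p⁻¹)) =
      emb σ * ((E.p * (emb σ * E.p⁻¹)) * (E.p * (E.p * (emb σ * (E.p⁻¹ * E.p⁻¹))))) by group, hpp, ← hP3]
    exact h1
  rw [h4, h3, hσv] at h5
  have hz1 : E.tv x1 * z = z * E.tv x1 := by
    rw [← E.conj_p_tv (show x < 2048 by omega)]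
    calc E.p * E.tv x * E.p⁻¹ * z = E.p * E.tv x * (z * E.p⁻¹) := by
          rw [mul_assoc _ E.p⁻¹ z, (Commute.inv_left hpz).eq]
      _ = E.p * (z * E.tv x) * E.p⁻¹ := by rw [← hnz]; group
      _ = z * (E.p * E.tv x * E.p⁻¹) := by
          rw [← mul_assoc E.p z, hpz]; group
  have hprod : E.tv x * E.tv x1 * E.tv x2 = 1 := by
    rw [E.tv_mul (by omega) hx1, E.tv_mul (xor_lt_2048' (by omega) hx1) hx2, hsum, E.tv_zero]
  have h6 : E.enc v = 1 := by
    calc E.enc v = (E.tv x * E.tv x1 * E.tv x2) * E.enc v * (E.enc v * E.enc v) := by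
          rw [hprod, hd2, one_mul, mul_one]
      _ = E.tv x * E.enc v * (E.tv x1 * E.enc v * (E.tv x2 * E.enc v)) := by
          have c1 : E.enc v * E.tv x1 = E.tv x1 * E.enc v := (hdz _ hz1).symm
          have c2 : E.enc v * E.tv x2 = E.tv x2 * E.enc v := (hdz _ (by
            rw [← E.conj_p_tv hx1]
            exact (((show Commute E.p z from hpz).mul_left hz1).mul_left
              (show Commute E.p z from hpz).inv_left).eq)).symm
          calc E.tv x * E.tv x1 * E.tv x2 * E.enc v * (E.enc v * E.enc v)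
              = E.tv x * (E.tv x1 * (E.tv x2 * E.enc v * E.enc v) * E.enc v) := by group
            _ = E.tv x * (E.tv x1 * (E.enc v * (E.tv x2 * E.enc v)) * E.enc v) := by
                rw [← mul_assoc (E.enc v), c2]
            _ = E.tv x * ((E.enc v * E.tv x1) * (E.tv x2 * E.enc v) * E.enc v) := by
                rw [c1]; group
            _ = E.tv x * (E.enc v * (E.tv x1 * ((E.tv x2 * E.enc v) * E.enc v))) := by group
            _ = E.tv x * (E.enc v * (E.tv x1 * (E.enc v * (E.tv x2 * E.enc v)))) := by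
                rw [← mul_assoc (E.enc v) (E.tv x2), c2]
            _ = _ := by group
      _ = 1 := h5
  rw [hσv, h6, mul_one]

end EmbOK

end CfsgLib.J4Type.Sym
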