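import Cfsg.Agent.Lib.J4Type.Sym.Model
import Cfsg.Agent.Lib.J4DCE.Emb
import Cfsg.Agent.Lib.J4Type.Enc
import Cfsg.Agent.Lib.J4Type.Model.Twists

/-!
The finite checks behind the local rules: permutations of the 24 points against maps of the codes.
-/
set_option autoImplicit false
set_option maxRecDepth 100000

namespace CfsgLib.J4Type.Sym

open Cfsg
open CfsgLib.J4DCE (pk pget pmul pid tImg pmask okPerm exists_of_okPerm)

/-- each coordinate vector as a sum of pairs -/
def decUnits : List (List (ℕ × ℕ)) :=
  [[(0, 2), (10, 12)], [(0, 10), (13, 23)], [(1, 4)], [(1, 6)], [(0, 1), (6, 12)], [(0, 4), (6, 23)],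
    [(0, 12), (17, 23)], [(17, 20)], [(19, 20)], [(18, 21)], [(20, 21)]]

/-- the sum of the images of some pairs -/
noncomputable def sumLab (p : ℕ) (d : List (ℕ × ℕ)) : ℕ :=
  d.foldr (fun e r => Nat.xor (lab (pget p e.1) (pget p e.2)) r) 0

/-- the columns of a permutation -/
noncomputable def colsOf (p : ℕ) : List ℕ := decUnits.map (sumLab p)

/-- all codes of pairs are below `2048` -/
theorem labLt_check : (labRows.all fun r => r.all fun v => Nat.blt v 2048) = true := by decide +kernel

theorem dec_check : (decUnits.all fun d => d.all fun e => Nat.blt e.1 24 && Nat.blt e.2 24) = true ∧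
    ((List.range 11).all fun i => Nat.beq (sumLab pid (decUnits.getD i [])) (2 ^ i)) = true := by
  decide +kernel

/-- a pair is determined by its code, in the shape used for uniqueness -/
theorem lab_point_check : ((List.range 24).all fun i => (List.range 24).all fun k => (List.range 24).all fun l =>
    !(Nat.beq (lab k l) (lab i ((i + 1) % 24))) ||
      (Nat.beq k i && Nat.beq l ((i + 1) % 24)) || (Nat.beq l i && Nat.beq k ((i + 1) % 24))) = true ∧
    ((List.range 24).all fun i => (List.range 24).all fun k => (List.range 24).all fun l =>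
    !(Nat.beq (lab k l) (lab i ((i + 2) % 24))) ||
      (Nat.beq k i && Nat.beq l ((i + 2) % 24)) || (Nat.beq l i && Nat.beq k ((i + 2) % 24))) = true := by
  decide +kernel

theorem okPiA : okPerm piA piA = true := by decide +kernel
theorem okPiC : okPerm piC 0x72a914d642034b063e66222e70ac76 = true := by decide +kernel
theorem okPiP : okPerm piP 0x63ab49ca362c0407b52719161428d7 = true := by decide +kernel

/-- the permutation of the first lift moved by `g` -/
def phiA : ℕ := 0xbbeb24d22bb15ac82a66221c708860
/-- the permutation of the second lift moved by `g` -/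
def phiC : ℕ := 0x31671ad12fbac6401e42541966a1c1

theorem exists_phiA : okPerm phiA phiA = true := by decide +kernel
theorem exists_phiC : okPerm phiC 0x79272aa6868046571e2255ecc6a00b = true := by decide +kernel

/-- a word as letters -/
def ltrs (w : List Bool) : List ℕ := w.map fun b => if b then 1 else 0

/-- the permutation of a letter -/
def ltC : ℕ → ℕ
  | 0 => piA
  | 1 => piC
  | _ => piP

/-- the permutation of a letter moved by `g` -/
def ltC' : ℕ → ℕ
  | 0 => phiA
  | 1 => phiC
  | _ => piP

/-- the permutation of a word -/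
noncomputable def evC (w : List ℕ) : ℕ := w.foldr (fun l r => pmul (ltC l) r) pid

/-- the permutation of a word moved by `g` -/
noncomputable def evC' (w : List ℕ) : ℕ := w.foldr (fun l r => pmul (ltC' l) r) pid

/-- the permutation of a product with a power of `piP` -/
noncomputable def evK (k : ℕ) (w : List Bool) : ℕ := evC (List.replicate k 2 ++ ltrs w)

theorem k_zero_check :
    (([1, 2] : List ℕ).all fun k => !Nat.beq (pmul (evK k wGA) (evK k wGA)) pid &&
      !Nat.beq (pmul (pmul (evK k wGC) (evK k wGC)) (pmul (evK k wGC) (evK k wGC))) pid) = true := by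
  decide +kernel

theorem swap_letters : ((([0, 1, 2] : List ℕ).all fun k =>
    Nat.beq (pmul (evK k wGG) phiA) (pmul (evK 0 wGA) (evK k wGG)) &&
      Nat.beq (pmul (evK k wGG) phiC) (pmul (evK 0 wGC) (evK k wGG)))) = true := by
  decide +kernel

/-! ### translations -/

/-- the translation with code `1` -/
def tr1 : ℕ := 0x49b41d98e7c2b158927418a49a837

/-- the element whose commutator with `piP` is `tr1` -/
def pre1 : ℕ := 0x8b9543c2f27d8405d523998a44342c
/-- the element whose commutator with `piP` is the translation with code `60` -/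
def pre60 : ℕ := 0x659ab3c8102bab7a0923999e442831

/-- a permutation acts on the pairs as the translation by `h` -/
noncomputable def transOK (h p : ℕ) : Bool :=
  (List.range 24).all fun i => (List.range 24).all fun j =>
    Nat.beq (app (VCode.qCols h) (lab i j)) (lab (pget p i) (pget p j))

/-- the words fixing the code `1` -/
def stab1 : List (List ℕ) := [[0], [1, 0, 1, 1, 0, 1, 0, 1, 1, 1, 0, 1]]
/-- the words fixing the code `60` -/
def stab60 : List (List ℕ) := [[1, 1, 0, 1, 1], [0, 1, 0, 1, 1, 1, 0, 1, 0, 1, 0, 2]]

/-- what is checked for a translation by `x` with permutation `p` -/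
noncomputable def transData (x p e : ℕ) (ws : List (List ℕ)) : Bool :=
  transOK (app colsG (x % 64)) p && Nat.beq (pmul p p) pid &&
    Nat.beq (pmul (pmul p piP) e) (pmul e piP) && Nat.beq (app (colsOf e) 64) 64 &&
    Nat.beq (Nat.xor (Nat.xor x (app colsVP x)) (app colsVP (app colsVP x))) 0 &&
    (ws.all fun w => Nat.beq (app (colsOf (evC' w)) x) x && Nat.beq (pmul (evC w) p) (pmul p (evC w))) &&
    ((List.range 128).all fun v => Nat.beq v 0 || Nat.beq v 64 ||
      ws.any fun w => !Nat.beq (app (colsOf (evC w)) v) v) &&
    Nat.beq (pmul p (pmul (pmul piP (pmul p (pmul piP piP))) (pmul piP (pmul piP (pmul p piP))))) pid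

theorem trans1_check : transData 1 tr1 pre1 stab1 = true ∧ okPerm tr1 tr1 = true ∧ okPerm pre1 pre1 = true := by
  decide +kernel

theorem trans60_check :
    transData 60 waCode pre60 stab60 = true ∧ okPerm waCode waCode = true ∧ okPerm pre60 pre60 = true := by
  decide +kernel

/-- `A ∩ O_2` is not larger than the low codes -/
theorem low_check : ((List.range 16).all fun k => Nat.beq k 0 || (List.range 128).any fun x =>
    let d := Nat.xor (app (VCode.qCols (app colsG (x % 64))) (128 * k)) (128 * k)
    !(Nat.beq d 0 || Nat.beq d 64)) = true := by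
  decide +kernel

/-! ### the involution of the base trio -/

/-- the word of `cpCode` -/
def cpWord : List ℕ := [0, 1, 0, 1, 1, 0, 1, 0, 1, 1, 1, 0, 1, 1, 2, 2]
/-- a permutation taking `piP` to the moved `cpCode` and `S0` to the sextet of `vT` -/
def rhoCode : ℕ := 0x80ea24a9ab3ba4f2ce20612c1bd0c8

theorem exists_rho : okPerm rhoCode 0x196a25353763a2784a6078566b5088 = true := by decide +kernel

theorem cp_check : Nat.beq (evC cpWord) cpCode = true ∧
    Nat.beq (pmul rhoCode piP) (pmul (evC' cpWord) rhoCode) = true ∧
    Nat.beq (app (colsOf rhoCode) 64) vT = true ∧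
    Nat.beq (app (colsOf (evC' cpWord)) vT) vT = true ∧
    Nat.beq (pmul cpCode (pmul cpCode cpCode)) pid = true ∧
    Nat.beq (app (colsOf cpCode) 64) 64 = true := by
  decide +kernel

/-- the factors of `x` -/
def nu1 : ℕ := 0x730943c6552aa069d9af5dd0018449
/-- the factors of `x` -/
def nu2 : ℕ := 0x581093566c80a8371d4493431b3ee5
/-- the factors of `pc` -/
def nu3 : ℕ := 0x3b4a9756712010b90d8130a0ab3ef4
/-- the factors of `pc` -/
def nu4 : ℕ := 0x5c262a8466048f453d376da24615c8

theorem exists_nu : okPerm nu1 0x32a145c64d45d363b8059b1f518444 = true ∧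
    okPerm nu2 0x8e4d89c8f12cd0ba69554c08638b6 = true ∧
    okPerm nu3 0x8e408ae0514ec96128db9eaf5190e = true ∧
    okPerm nu4 0x41a6cab8b6504e3bad206c0448d24f = true := by
  decide +kernel

/-- `p` commutes with `cpCode` or inverts it -/
noncomputable def normCp (p : ℕ) : Bool :=
  Nat.beq (pmul p cpCode) (pmul cpCode p) || Nat.beq (pmul p cpCode) (pmul (pmul cpCode cpCode) p)

theorem nu_check : normCp nu1 = true ∧ normCp nu2 = true ∧ normCp nu3 = true ∧ normCp nu4 = true := by
  decide +kernel

theorem pk_mX_eq : Nat.beq (pk J4DCE.mX.1) (pmul nu1 (pmul tr1 nu2)) = true := by decide +kernel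

theorem pk_pc_eq : Nat.beq (pk J4DCE.J.pc.1) (pmul nu3 (pmul tr1 nu4)) = true := by decide +kernel

/-! ### the trios at the sextet `S0` -/

/-- the words of the trios -/
def triWords : List (ℕ × List ℕ × ℕ) :=
  [(Ta, [0, 1], 320), (Ta1, [0, 1, 1, 1, 0], 576), (Ta2, [1, 1], 1600), (Ta3, [1, 1, 0], 1856)]

theorem tri_check : (triWords.all fun e => Nat.beq (tImg (evC e.2.1) T0) e.1 &&
    Nat.beq (app (colsOf (evC' e.2.1)) vT) e.2.2) = true := by
  decide +kernel

/-- four points of one tetrad of `S0` give the code `64` -/
theorem tetrad_check : (S0.all fun m => (List.range 24).all fun i => (List.range 24).all fun j =>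
    !(m.testBit i && m.testBit j) || Nat.beq i j || (List.range 24).all fun k => (List.range 24).all fun l =>
      !(m.testBit k && m.testBit l) || Nat.beq k l || Nat.beq k i || Nat.beq k j || Nat.beq l i || Nat.beq l j ||
        Nat.beq (Nat.xor (lab i j) (lab k l)) 64) = true := by
  decide +kernel

theorem act_check : Nat.beq (app (colsOf sigCode) 64) 54 = true ∧
    Nat.beq (app colsG (app Classify.colsGInv 54)) 54 = true ∧
    Nat.beq (Nat.xor 320 (app (VCode.qCols (app Classify.colsGInv 54)) 320)) 60 = true := by
  decide +kernel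

end CfsgLib.J4Type.Sym
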